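import Cfsg.Agent.KFacts.RgdSL
import Cfsg.Agent.BpExc.AsmN_m3
import Cfsg.Agent.BpExc.NChev
import Mathlib
import Cfsg.Agent.BpExc.Orbit
import Cfsg.Agent.BpExc.TorCent
import Cfsg.Agent.H795.Roots
import Cfsg.Agent.H795.SetTor_m3
import Cfsg.Agent.H129.TorusChar
import Cfsg.Agent.BpExc.LangFr
import Cfsg.Agent.BpExc.TowChev
import Cfsg.Agent.H129.WData
import Cfsg.Agent.ChevFast.E6
import Cfsg.Agent.ChevFast.E7
import Cfsg.Agent.ChevFast.E8
import Cfsg.Agent.H129.RootFast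
import Cfsg.Agent.H795.TorSub
import Cfsg.Agent.H129.TorusUntw
import Cfsg.Agent.S1092
import Cfsg.Agent.S1093
import Cfsg.Agent.H129.TorusMain
import Cfsg.Agent.H319.One.Base
import Cfsg.Agent.FastGrp
import Cfsg.Agent.Prune
set_option linter.all false

section
prune_inst 0x7ffcfef9afb89ddfffff7e7ffed9dffc38d0dfffa6dff9437fe0e3ff3b9f23000be5fb8d0de0d2fe1ed6e0b410b87853fb7ecabfe86bdc7ffffd5ff41ffbee0ff5f7350951d48c340fbc0fff83f07f8a7f3fffffffffffffffffffffffffffbeffffffffffff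

-- part: H123/ExcComb
section
prune_inst 0x301065007222000000180010620000301000049000400800b0c00446090fd240a042280142000c12103094801800000813540020420000000a0034000007002088a84200b32c0104260007803007580c00000000000000000000000000041000000000000
set_option linter.all false
open scoped Cfsg.Agent.FastGrp

/-!
# Orbits of indecomposable roots (S2348, exceptional groups)

`g` an automorphism of the root lattice preserving the roots.
* `cpr_g` : `⟨g x, (g y)^∨⟩ = ⟨x, y^∨⟩`;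
* `Strong cs h g c` : the roots of the `g`-orbit of `c` are pairwise strongly orthogonal;
* `dichotomy` : for an indecomposable root `a` of a closed symmetric `g`-invariant set `S` whose positive roots are
  preserved by `g`, either `Strong a`, or `a` has period `2 j`, `c = a + g^j a` is a root of period `j`, `Strong c`.
-/

set_option autoImplicit false
set_option linter.unusedSectionVars false

namespace Cfsg.Agent.H123.ExcComb

open CoxeterSystem Cfsg.Agent.ChevalleyStructure.CoxeterGeom Cfsg.Agent.Tits.Roots Cfsg.Agent.Tits.Core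
  Cfsg.Agent.Tits.Exchange Cfsg.Agent.Nodes.Reps Cfsg.Agent.Nodes.BNOf Cfsg.Agent.Nodes.Coroot Cfsg.Agent.KFacts.RgdSL

variable {I W : Type*} [Fintype I] [DecidableEq I] [Group W] {M : CoxeterMatrix I}
  {cs : CoxeterSystem M W} {A : I → I → ℤ} {h : IsCartan M A}

section Basic

variable [Finite W]

theorem cpr_self_neg {x : I → ℤ} (hx : IsRoot cs h x) : cpr cs h (-x) x = -2 := by
  rw [cpr_neg cs h x hx, cpr_self cs h hx]

theorem cpr_sub {x x' y : I → ℤ} (hy : IsRoot cs h y) :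
    cpr cs h (x - x') y = cpr cs h x y - cpr cs h x' y := by
  rw [sub_eq_add_neg, cpr_add cs h _ _ hy, cpr_neg cs h _ hy, sub_eq_add_neg]

/-- the sign of `⟨x, y^∨⟩` is symmetric -/
theorem cpr_pos_comm {x y : I → ℤ} (hx : IsRoot cs h x) (hy : IsRoot cs h y) :
    0 < cpr cs h x y ↔ 0 < cpr cs h y x := by
  have := Fintype.ofFinite W
  rw [cpr_pos_iff cs h x hy, cpr_pos_iff cs h y hx, form_comm]

theorem sub_root {x y : I → ℤ} (hx : IsRoot cs h x) (hy : IsRoot cs h y) (hxy : x ≠ y)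
    (h0 : 0 < cpr cs h x y) : IsRoot cs h (x - y) := by
  have h0' := (cpr_pos_comm hx hy).1 h0
  have hxy' : x ≠ -y := by
    rintro rfl
    rw [cpr_self_neg hy] at h0
    omega
  have h1 := cpr_mul_lt hx hy hxy hxy'
  have h2 : cpr cs h x y = 1 ∨ cpr cs h y x = 1 := by
    by_contra hcon
    push Not at hcon
    obtain ⟨h3, h4⟩ := hcon
    have h5 : 2 ≤ cpr cs h x y := by omega
    have h6 : 2 ≤ cpr cs h y x := by omega
    nlinarith
  rcases h2 with h2 | h2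
  · have := isRoot_refl cs h hx hy
    rwa [h2, one_smul] at this
  · have := (isRoot_refl cs h hy hx).neg
    rw [h2, one_smul, neg_sub] at this
    exact this

theorem add_root {x y : I → ℤ} (hx : IsRoot cs h x) (hy : IsRoot cs h y) (hxy : x ≠ -y)
    (h0 : cpr cs h x y < 0) : IsRoot cs h (x + y) := by
  have h1 := sub_root hx hy.neg hxy (by rw [cpr_neg_right cs h x hy]; omega)
  rwa [sub_neg_eq_add] at h1

theorem abs_cpr_le {x y : I → ℤ} (hx : IsRoot cs h x) (hy : IsRoot cs h y) :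
    -3 ≤ cpr cs h x y ∧ cpr cs h x y ≤ 3 := by
  have := Fintype.ofFinite W
  by_cases hxy : x = y
  · rw [hxy, cpr_self cs h hy]; omega
  by_cases hxy' : x = -y
  · rw [hxy', cpr_self_neg hy]; omega
  have h1 := cpr_mul_lt hx hy hxy hxy'
  have h2 := cpr_pos_comm hx hy
  have h3 := cpr_zero_comm cs h hx hy
  constructor
  · by_contra hcon
    have h4 : cpr cs h y x < 0 := by
      rcases lt_trichotomy (cpr cs h y x) 0 with h5 | h5 | h5
      · exact h5
      · have := h3.2 h5; omega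
      · have := h2.2 h5; omega
    nlinarith
  · by_contra hcon
    have h4 : 0 < cpr cs h y x := h2.1 (by omega)
    nlinarith

/-- **The Cartan numbers are invariant.** -/
theorem cpr_g {g : (I → ℤ) ≃+ (I → ℤ)} (hg : ∀ a, IsRoot cs h (g a) ↔ IsRoot cs h a) {x y : I → ℤ}
    (hx : IsRoot cs h x) (hy : IsRoot cs h y) : cpr cs h (g x) (g y) = cpr cs h x y := by
  set a := cpr cs h x y with ha
  set b := cpr cs h (g x) (g y) with hb
  have hgy : IsRoot cs h (g y) := (hg y).2 hy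
  -- `x + n (b - a) y` is a root for all `n`
  have hz : ∀ n : ℤ, cpr cs h (x + n • y) y = a + 2 * n := by
    intro n
    rw [cpr_add cs h _ _ hy, cpr_smul cs h _ _ hy, cpr_self cs h hy]; ring
  have hz' : ∀ n : ℤ, cpr cs h (g (x + n • y)) (g y) = b + 2 * n := by
    intro n
    rw [map_add, map_zsmul, cpr_add cs h _ _ hgy, cpr_smul cs h _ _ hgy, cpr_self cs h hgy]; ring
  have key : ∀ n : ℕ, IsRoot cs h (x + ((n : ℤ) * (b - a)) • y) := by
    intro n
    induction n with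
    | zero => simpa using hx
    | succ n ih =>
      set z := x + ((n : ℤ) * (b - a)) • y with hzdef
      have h1 : IsRoot cs h (g z - cpr cs h (g z) (g y) • g y) := isRoot_refl cs h ((hg z).2 ih) hgy
      have h2 : IsRoot cs h (z - cpr cs h (g z) (g y) • y) := by
        rw [← hg, map_sub, map_zsmul]; exact h1
      have h3 := isRoot_refl cs h h2 hy
      have h4 : cpr cs h (z - cpr cs h (g z) (g y) • y) y = cpr cs h z y - 2 * cpr cs h (g z) (g y) := by
        rw [cpr_sub hy, cpr_smul cs h _ _ hy, cpr_self cs h hy]; ring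
      rw [h4, hzdef, hz, hz', ← hzdef] at h3
      have h5 : z - (b + 2 * (↑n * (b - a))) • y - (a + 2 * (↑n * (b - a)) - 2 * (b + 2 * (↑n * (b - a)))) • y =
          x + (((n + 1 : ℕ) : ℤ) * (b - a)) • y := by
        rw [hzdef]
        push_cast
        module
      rw [h5] at h3
      exact h3
  have h1 := abs_cpr_le (key 4) hy
  rw [hz] at h1
  have h2 := abs_cpr_le hx hy
  rw [← ha] at h2
  push_cast at h1
  omega

theorem iter_root {g : (I → ℤ) ≃+ (I → ℤ)} (hg : ∀ a, IsRoot cs h (g a) ↔ IsRoot cs h a) {x : I → ℤ} (i : ℕ) :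
    IsRoot cs h (g^[i] x) ↔ IsRoot cs h x := by
  induction i with
  | zero => exact Iff.rfl
  | succ i ih => rw [Function.iterate_succ_apply', hg, ih]

theorem cpr_iter {g : (I → ℤ) ≃+ (I → ℤ)} (hg : ∀ a, IsRoot cs h (g a) ↔ IsRoot cs h a) {x y : I → ℤ}
    (hx : IsRoot cs h x) (hy : IsRoot cs h y) (i : ℕ) : cpr cs h (g^[i] x) (g^[i] y) = cpr cs h x y := by
  induction i with
  | zero => rfl
  | succ i ih =>
    rw [Function.iterate_succ_apply', Function.iterate_succ_apply', cpr_g hg ((iter_root hg i).2 hx)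
      ((iter_root hg i).2 hy), ih]

end Basic

theorem iter_add (g : (I → ℤ) ≃+ (I → ℤ)) (i : ℕ) (a b : I → ℤ) : g^[i] (a + b) = g^[i] a + g^[i] b := by
  induction i with
  | zero => rfl
  | succ i ih => rw [Function.iterate_succ_apply', Function.iterate_succ_apply', Function.iterate_succ_apply', ih,
      map_add]

theorem iter_neg (g : (I → ℤ) ≃+ (I → ℤ)) (i : ℕ) (a : I → ℤ) : g^[i] (-a) = -g^[i] a := by
  induction i with
  | zero => rfl
  | succ i ih => rw [Function.iterate_succ_apply', Function.iterate_succ_apply', ih, map_neg]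

/-- The roots of the orbit of `c` are pairwise strongly orthogonal. -/
def Strong (cs : CoxeterSystem M W) (h : IsCartan M A) (g : (I → ℤ) ≃+ (I → ℤ)) (c : I → ℤ) : Prop :=
  ∀ i, 0 < i → i < Function.minimalPeriod g c →
    cpr cs h (g^[i] c) c = 0 ∧ ¬ IsRoot cs h (g^[i] c + c) ∧ ¬ IsRoot cs h (g^[i] c - c)

/-- orthogonal roots: the sum is a root iff the difference is -/
theorem add_iff_sub [Finite W] {x y : I → ℤ} (hy : IsRoot cs h y) (h0 : cpr cs h x y = 0) :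
    IsRoot cs h (x + y) ↔ IsRoot cs h (x - y) := by
  constructor
  · intro h1
    have h2 := isRoot_refl cs h h1 hy
    rw [cpr_add cs h _ _ hy, h0, cpr_self cs h hy] at h2
    have : x + y - (0 + 2 : ℤ) • y = x - y := by module
    rwa [this] at h2
  · intro h1
    have h2 := isRoot_refl cs h h1 hy
    rw [cpr_sub hy, h0, cpr_self cs h hy] at h2
    have : x - y - (0 - 2 : ℤ) • y = x + y := by module
    rwa [this] at h2

theorem sum_le_of_nonpos {s t : Finset ℕ} {f : ℕ → ℤ} (hts : t ⊆ s) (hf : ∀ i ∈ s, f i ≤ 0) :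
    ∑ i ∈ s, f i ≤ ∑ i ∈ t, f i := by
  rw [← Finset.sum_sdiff hts]
  have h1 : ∑ i ∈ s \ t, f i ≤ 0 := Finset.sum_nonpos fun i hi => hf i (Finset.mem_sdiff.1 hi).1
  omega

section Main

variable [Finite W] {g : (I → ℤ) ≃+ (I → ℤ)} (hg : ∀ a, IsRoot cs h (g a) ↔ IsRoot cs h a) {S : Set (I → ℤ)}
  (hS : ∀ a ∈ S, IsRoot cs h a) (hneg : ∀ a ∈ S, -a ∈ S)
  (hadd : ∀ a ∈ S, ∀ b ∈ S, IsRoot cs h (a + b) → a + b ∈ S)
  (hgS : ∀ a ∈ S, g a ∈ S) (hpos : ∀ a ∈ S, 0 ≤ a → 0 ≤ g a)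

/-- indecomposable positive roots of `S` -/
def Ind (S : Set (I → ℤ)) (a : I → ℤ) : Prop :=
  a ∈ S ∧ 0 ≤ a ∧ ∀ b ∈ S, ∀ c ∈ S, 0 ≤ b → 0 ≤ c → a ≠ b + c

include hS hneg hadd in
/-- the difference of two indecomposable roots is not a root -/
theorem ind_sub {a b : I → ℤ} (ha : Ind S a) (hb : Ind S b) : ¬ IsRoot cs h (a - b) := by
  intro h1
  have h2 : a - b ∈ S := by
    rw [sub_eq_add_neg] at h1 ⊢
    exact hadd a ha.1 _ (hneg b hb.1) h1
  rcases h1.pos_or_neg with h3 | h3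
  · exact ha.2.2 _ h2 b hb.1 h3 hb.2.1 (by abel)
  · have h4 : b - a ∈ S := by rw [← neg_sub]; exact hneg _ h2
    exact hb.2.2 _ h4 a ha.1 (by rw [← neg_sub]; exact neg_nonneg.2 h3) ha.2.1 (by abel)

include hS hneg hadd in
theorem ind_cpr {a b : I → ℤ} (ha : Ind S a) (hb : Ind S b) (hne : a ≠ b) : cpr cs h a b ≤ 0 := by
  by_contra hcon
  exact ind_sub hS hneg hadd ha hb (sub_root (hS a ha.1) (hS b hb.1) hne (not_le.1 hcon))

include hgS hpos in
theorem iter_S {a : I → ℤ} (ha : a ∈ S) (h0 : 0 ≤ a) (i : ℕ) : g^[i] a ∈ S ∧ 0 ≤ g^[i] a := by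
  induction i with
  | zero => exact ⟨ha, h0⟩
  | succ i ih => rw [Function.iterate_succ_apply']; exact ⟨hgS _ ih.1, hpos _ ih.1 ih.2⟩

include hg in
theorem period_pos {a : I → ℤ} (ha : IsRoot cs h a) : 0 < Function.minimalPeriod g a := by
  have : Finite {b // IsRoot cs h b} := (RGD.finite_roots (cs := cs) (h := h)).to_subtype
  let e : Equiv.Perm {b // IsRoot cs h b} := g.toEquiv.subtypeEquiv fun b => (hg b).symm
  have h1 : ∀ (i : ℕ) (b : {b // IsRoot cs h b}), ((e ^ i) b : I → ℤ) = g^[i] b := by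
    intro i
    induction i with
    | zero => intro b; rfl
    | succ i ih =>
      intro b
      rw [pow_succ, Equiv.Perm.mul_apply, ih, Function.iterate_succ_apply]
      rfl
  have h2 := h1 (orderOf e) ⟨a, ha⟩
  rw [pow_orderOf_eq_one] at h2
  exact Function.minimalPeriod_pos_of_mem_periodicPts ⟨orderOf e, orderOf_pos e, h2.symm⟩

include hg hS hneg hadd hgS hpos in
/-- **The orbit of an indecomposable root.** -/
theorem dichotomy {a : I → ℤ} (ha : ∀ i, Ind S (g^[i] a)) :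
    Strong cs h g a ∨ ∃ j, 0 < j ∧ Function.minimalPeriod g a = 2 * j ∧ a + g^[j] a ∈ S ∧ 0 ≤ a + g^[j] a ∧
      Function.minimalPeriod g (a + g^[j] a) = j ∧ Strong cs h g (a + g^[j] a) := by
  have := Fintype.ofFinite W
  have ha0 : Ind S a := ha 0
  have har := hS a ha0.1
  set m := Function.minimalPeriod g a with hm
  have hmpos : 0 < m := period_pos hg har
  have hroot : ∀ i, IsRoot cs h (g^[i] a) := fun i => (iter_root hg i).2 har
  have hne : ∀ i, 0 < i → i < m → g^[i] a ≠ a := by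
    intro i h1 h2 h3
    have := Function.IsPeriodicPt.minimalPeriod_le h1 (show Function.IsPeriodicPt g i a from h3)
    omega
  have hle : ∀ i, 0 < i → i < m → cpr cs h (g^[i] a) a ≤ 0 := fun i h1 h2 =>
    ind_cpr hS hneg hadd (ha i) ha0 (hne i h1 h2)
  have hga : g^[m] a = a := Function.iterate_minimalPeriod
  -- the sum of the orbit
  set v := ∑ i ∈ Finset.range m, g^[i] a with hv
  have hgv : g v = v := by
    rw [hv, map_sum]
    have h1 : ∀ i, g (g^[i] a) = g^[i + 1] a := fun i => (Function.iterate_succ_apply' _ _ _).symm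
    simp only [h1]
    have h2 := Finset.sum_range_succ (fun i => g^[i] a) m
    have h3 := Finset.sum_range_succ' (fun i => g^[i] a) m
    rw [hga] at h2
    rw [Function.iterate_zero, id_eq] at h3
    rw [h2] at h3
    exact (add_right_cancel h3).symm
  have hvne : v ≠ 0 := by
    intro h1
    have h2 : 0 ≤ a := ha0.2.1
    have h3 : ∀ i ∈ Finset.range m, 0 ≤ g^[i] a := fun i _ => (ha i).2.1
    have h4 := (Finset.sum_eq_zero_iff_of_nonneg h3).1 h1 0 (Finset.mem_range.2 hmpos)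
    exact har.ne_zero h4
  have hcsum : ∀ (s : Finset ℕ) (y : I → ℤ), IsRoot cs h y →
      cpr cs h (∑ i ∈ s, g^[i] a) y = ∑ i ∈ s, cpr cs h (g^[i] a) y := by
    intro s y hy
    exact map_sum (ell cs h hy) _ _
  have hcv : ∀ i, cpr cs h v (g^[i] a) = cpr cs h v a := by
    intro i
    induction i with
    | zero => rfl
    | succ i ih =>
      rw [Function.iterate_succ_apply', ← ih, hv, hcsum _ _ ((hg _).2 (hroot i)), hcsum _ _ (hroot i)]
      conv_lhs => rw [← hcsum _ _ ((hg _).2 (hroot i)), ← hv, ← hgv, hv, map_sum]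
      rw [show cpr cs h (∑ j ∈ Finset.range m, g (g^[j] a)) (g (g^[i] a)) =
        ∑ j ∈ Finset.range m, cpr cs h (g (g^[j] a)) (g (g^[i] a)) from
          map_sum (ell cs h ((hg _).2 (hroot i))) _ _]
      exact Finset.sum_congr rfl fun j _ => cpr_g hg (hroot j) (hroot i)
  have hδ : 0 < cpr cs h v a := by
    by_contra hcon
    have h1 : ∀ i, 2 * form cs h v (g^[i] a) = cpr cs h v a * form cs h (g^[i] a) (g^[i] a) := fun i => by
      rw [two_form_cpr cs h v (hroot i), hcv]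
    have h2 : 2 * form cs h v v = cpr cs h v a * ∑ i ∈ Finset.range m, form cs h (g^[i] a) (g^[i] a) := by
      have h3 : form cs h v v = ∑ i ∈ Finset.range m, form cs h v (g^[i] a) := by
        have h4 : ∀ s : Finset ℕ, form cs h v (∑ i ∈ s, g^[i] a) = ∑ i ∈ s, form cs h v (g^[i] a) := by
          intro s
          induction s using Finset.induction_on with
          | empty => simp [form_zero_right]
          | insert x s hx ih => rw [Finset.sum_insert hx, Finset.sum_insert hx, form_add_right, ih]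
        conv_lhs => rw [hv]
        exact h4 _
      rw [h3, Finset.mul_sum, Finset.mul_sum]
      exact Finset.sum_congr rfl fun i _ => h1 i
    have h5 := form_pos cs h hvne
    have h6 : 0 ≤ ∑ i ∈ Finset.range m, form cs h (g^[i] a) (g^[i] a) :=
      Finset.sum_nonneg fun i _ => form_nonneg cs h _
    have h7 := mul_nonpos_of_nonpos_of_nonneg (not_lt.1 hcon) h6
    omega
  have hsum : cpr cs h v a = 2 + ∑ i ∈ Finset.range (m - 1), cpr cs h (g^[i + 1] a) a := by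
    rw [hv, hcsum _ _ har]
    obtain ⟨m', hm'⟩ : ∃ m', m = m' + 1 := ⟨m - 1, by omega⟩
    rw [hm', Finset.sum_range_succ', Nat.add_sub_cancel, Function.iterate_zero, id_eq, cpr_self cs h har,
      add_comm]
  have hterm : ∀ i ∈ Finset.range (m - 1), cpr cs h (g^[i + 1] a) a ≤ 0 := fun i hi => by
    rw [Finset.mem_range] at hi
    exact hle _ (by omega) (by omega)
  -- two nonzero terms are impossible
  have huniq : ∀ i j, 0 < i → i < m → 0 < j → j < m → cpr cs h (g^[i] a) a ≠ 0 → cpr cs h (g^[j] a) a ≠ 0 → i = j := by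
    intro i j h1 h2 h3 h4 h5 h6
    by_contra hij
    have h7 := hle i h1 h2
    have h8 := hle j h3 h4
    have h9 : ∑ k ∈ Finset.range (m - 1), cpr cs h (g^[k + 1] a) a ≤
        ∑ k ∈ ({i - 1, j - 1} : Finset ℕ), cpr cs h (g^[k + 1] a) a := by
      refine sum_le_of_nonpos ?_ hterm
      intro k hk
      rw [Finset.mem_insert, Finset.mem_singleton] at hk
      rw [Finset.mem_range]
      omega
    rw [Finset.sum_pair (by omega), Nat.sub_add_cancel h1, Nat.sub_add_cancel h3] at h9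
    omega
  by_cases hall : ∀ i, 0 < i → i < m → cpr cs h (g^[i] a) a = 0
  · left
    intro i h1 h2
    have h3 := hall i h1 h2
    have h4 := ind_sub hS hneg hadd (ha i) ha0
    exact ⟨h3, fun h5 => h4 ((add_iff_sub har h3).1 h5), h4⟩
  right
  push Not at hall
  obtain ⟨j, hj0, hjm, hj⟩ := hall
  have hjm1 : cpr cs h (g^[j] a) a = -1 := by
    have h1 := hle j hj0 hjm
    have h9 : ∑ k ∈ Finset.range (m - 1), cpr cs h (g^[k + 1] a) a ≤
        ∑ k ∈ ({j - 1} : Finset ℕ), cpr cs h (g^[k + 1] a) a := by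
      refine sum_le_of_nonpos ?_ hterm
      intro k hk
      rw [Finset.mem_singleton] at hk
      rw [Finset.mem_range]
      omega
    rw [Finset.sum_singleton, Nat.sub_add_cancel hj0] at h9
    omega
  -- `m = 2 j`
  have hper : ∀ i, g^[m + i] a = g^[i] a := fun i => by
    rw [add_comm, Function.iterate_add_apply, hga]
  have hm2 : m = 2 * j := by
    have h1 : cpr cs h a (g^[j] a) ≠ 0 := fun h2 => hj ((cpr_zero_comm cs h har (hroot j)).1 h2)
    have h2 := cpr_iter hg har (hroot j) (m - j)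
    rw [← Function.iterate_add_apply, Nat.sub_add_cancel hjm.le, hga] at h2
    rw [← h2] at h1
    have := huniq (m - j) j (by omega) (by omega) hj0 hjm h1 hj
    omega
  -- general Cartan numbers in the orbit
  have hcar : ∀ i k, i < m → k < m → i ≠ k → i + j ≠ k → k + j ≠ i → cpr cs h (g^[i] a) (g^[k] a) = 0 := by
    intro i k hi hk h1 h2 h3
    by_contra h4
    rcases Nat.lt_or_ge k i with h5 | h5
    · have h6 : g^[i] a = g^[k] (g^[i - k] a) := by rw [← Function.iterate_add_apply]; congr 1; omega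
      rw [h6, cpr_iter hg (hroot _) har] at h4
      have := huniq (i - k) j (by omega) (by omega) hj0 hjm h4 hj
      omega
    · have h6 : g^[k] a = g^[i] (g^[k - i] a) := by rw [← Function.iterate_add_apply]; congr 1; omega
      rw [h6, cpr_iter hg har (hroot _), cpr_zero_comm cs h har (hroot _)] at h4
      have := huniq (k - i) j (by omega) (by omega) hj0 hjm h4 hj
      omega
  set b := g^[j] a with hb
  have hbr : IsRoot cs h b := hroot j
  have hba : b ≠ a := hne j hj0 hjm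
  have hgb : g^[j] b = a := by rw [hb, ← Function.iterate_add_apply, ← two_mul, ← hm2, hga]
  have hab1 : cpr cs h a b = -1 := by
    have h1 := cpr_iter hg hbr har j
    rw [hgb, ← hb, hjm1] at h1
    exact h1
  have hcr : IsRoot cs h (a + b) := by
    refine add_root har hbr ?_ (by rw [hab1]; omega)
    intro h1
    have h2 := (ha j).2.1
    rw [← hb] at h2
    have h3 : a ≤ 0 := by rw [h1]; exact neg_nonpos.2 h2
    exact har.not_pos_neg ha0.2.1 h3
  have hcS : a + b ∈ S := hadd a ha0.1 b (ha j).1 hcr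
  have hgc : g^[j] (a + b) = a + b := by rw [iter_add, hgb, ← hb, add_comm]
  -- the Cartan numbers of `g^i (a + b)`
  have hgi : ∀ i, g^[i] (a + b) = g^[i] a + g^[i + j] a := fun i => by
    rw [iter_add, hb, ← Function.iterate_add_apply]
  have hca : ∀ i, 0 < i → i < j → cpr cs h (g^[i] (a + b)) a = 0 := by
    intro i h1 h2
    rw [hgi, cpr_add cs h _ _ har]
    have h3 := hcar i 0 (by omega) (by omega) (by omega) (by omega) (by omega)
    have h4 := hcar (i + j) 0 (by omega) (by omega) (by omega) (by omega) (by omega)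
    rw [Function.iterate_zero, id_eq] at h3 h4
    rw [h3, h4, add_zero]
  have hcb : ∀ i, 0 < i → i < j → cpr cs h (g^[i] (a + b)) b = 0 := by
    intro i h1 h2
    rw [hgi, cpr_add cs h _ _ hbr, hb]
    rw [hcar i j (by omega) (by omega) (by omega) (by omega) (by omega),
      hcar (i + j) j (by omega) (by omega) (by omega) (by omega) (by omega), add_zero]
  have hcc : ∀ i, 0 < i → i < j → cpr cs h (g^[i] (a + b)) (a + b) = 0 := by
    intro i h1 h2
    rw [cpr_zero_iff cs h _ hcr, form_add_right, (cpr_zero_iff cs h _ har).1 (hca i h1 h2),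
      (cpr_zero_iff cs h _ hbr).1 (hcb i h1 h2), add_zero]
  have hminp : Function.minimalPeriod g (a + b) = j := by
    have h1 : Function.IsPeriodicPt g j (a + b) := hgc
    have h2 := h1.minimalPeriod_dvd
    have h3 : 0 < Function.minimalPeriod g (a + b) := Nat.pos_of_dvd_of_pos h2 hj0
    have h4 := Nat.le_of_dvd hj0 h2
    by_contra h5
    have h6 := hca _ h3 (by omega)
    rw [show g^[Function.minimalPeriod g (a + b)] (a + b) = a + b from Function.iterate_minimalPeriod,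
      cpr_add cs h _ _ har, cpr_self cs h har, hjm1] at h6
    omega
  refine ⟨j, hj0, hm2, hcS, add_nonneg ha0.2.1 (ha j).2.1, hminp, ?_⟩
  intro i h1 h2
  rw [hminp] at h2
  have h0 := hcc i h1 h2
  have hci : IsRoot cs h (g^[i] (a + b)) := (iter_root hg i).2 hcr
  have hsub : ¬ IsRoot cs h (g^[i] (a + b) - (a + b)) := by
    intro hd
    -- `d = c - c_i`
    have hd' : IsRoot cs h (a + b - g^[i] (a + b)) := by rw [← neg_sub]; exact hd.neg
    have e1 : cpr cs h (a + b - g^[i] (a + b)) a = 1 := by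
      rw [cpr_sub har, hca i h1 h2, cpr_add cs h _ _ har, cpr_self cs h har, hjm1]; norm_num
    have r1 := isRoot_refl cs h hd' har
    rw [e1, one_smul] at r1
    have e2 : a + b - g^[i] (a + b) - a = b - g^[i] (a + b) := by abel
    rw [e2] at r1
    -- `⟨b - c_i, (g^i a)^∨⟩ = -1`
    have e3 : cpr cs h (b - g^[i] (a + b)) (g^[i] a) = -1 := by
      rw [cpr_sub (hroot i), cpr_iter hg hcr har, cpr_add cs h _ _ har, cpr_self cs h har, hjm1, hb,
        hcar j i (by omega) (by omega) (by omega) (by omega) (by omega)]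
      norm_num
    have r2 := isRoot_refl cs h r1 (hroot i)
    rw [e3] at r2
    have e4 : b - g^[i] (a + b) - (-1 : ℤ) • g^[i] a = b - g^[i + j] a := by
      rw [hgi]; module
    rw [e4] at r2
    exact ind_sub hS hneg hadd (ha j) (ha (i + j)) r2
  exact ⟨h0, fun h5 => hsub ((add_iff_sub hcr h0).1 h5), hsub⟩

end Main

end Cfsg.Agent.H123.ExcComb

private theorem dce_be08dffb3afe : _root_.True := by
  try have : _root_.True := by simp only [_root_.Cfsg.Agent.Tits.Roots.IsRoot.congr_simp]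
  exact _root_.True.intro
end

-- part: H123/ExcMain
section
prune_inst 0x20000200000000180000400000100000000200408000000000000000424020020801000000121030a00000000008110000300000000000000400000100000880020220000004060006800004400000000000000000000000000000000000000000000
set_option linter.all false
open scoped Cfsg.Agent.FastGrp

-- part: H123/ExcZ
section
/-!
# Centralisers of families of elements of the torus (S2348, S5304, exceptional groups)

The results of `BpExc.Pair`, `BpExc.NInst` (Bruhat form of `C_Y(t)^τ`), `BpExc.Good` for a family `t : ι → Y` of elements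
of the torus instead of one element:
* `fixZ τ t` : the fixed points of `τ` centralising all `t i`; `SZ` : the roots centralised by all `t i`;
* `exists_form`, `normalizer_MZ`, `pair_reduction`;
* `DatZ`, `DatZ.form`.
-/

set_option autoImplicit false
set_option linter.unusedSectionVars false

namespace Cfsg.Agent.H123.ExcZ

open CoxeterSystem Cfsg.Agent.ChevalleyStructure.CoxeterGeom Cfsg.Agent.Tits.Roots Cfsg.Agent.Tits.Core
  Cfsg.Agent.Tits.RootComb Cfsg.Agent.Tits.Exchange Cfsg.Agent.Nodes.Reps Cfsg.Agent.Nodes.BNOf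
  Cfsg.Agent.Nodes.StabComb Cfsg.Agent.Nodes.Bruhat Cfsg.Agent.Nodes.OppDec Cfsg.Agent.Nodes.LeviDec
  Cfsg.Agent.Nodes.NormalForm Cfsg.Agent.Nodes.Unique Cfsg.Agent.Nodes.SubComb Cfsg.Agent.Nodes.Coroot
  Cfsg.Agent.KFacts.RgdField
  Cfsg.Agent.BpExc.TorCent Cfsg.Agent.BpExc.Tow Cfsg.Agent.BpExc.Fr Cfsg.Agent.BpExc.NSol Cfsg.Agent.BpExc.NInst
open scoped commutatorElement

/-- The fixed points of `σ` commuting with all elements of the family. -/
def fixZ {Y ι : Type*} [Group Y] (σ : MulAut Y) (x : ι → Y) : Subgroup Y where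
  carrier := {y | σ y = y ∧ ∀ i, y * x i = x i * y}
  mul_mem' := by
    rintro a b ⟨h1, h2⟩ ⟨h3, h4⟩
    refine ⟨by rw [map_mul, h1, h3], fun i => ?_⟩
    rw [mul_assoc, h4, ← mul_assoc, h2, mul_assoc]
  one_mem' := ⟨map_one σ, fun i => by rw [one_mul, mul_one]⟩
  inv_mem' := by
    rintro a ⟨h1, h2⟩
    refine ⟨by rw [map_inv, h1], fun i => ?_⟩
    have h3 : SemiconjBy a (x i) (x i) := h2 i
    exact h3.inv_symm_left

theorem mem_fixZ {Y ι : Type*} [Group Y] {σ : MulAut Y} {x : ι → Y} {y : Y} :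
    y ∈ fixZ σ x ↔ σ y = y ∧ ∀ i, y * x i = x i * y := Iff.rfl

theorem mem_cent {Y ι : Type*} [Group Y] {x : ι → Y} {y : Y} :
    y ∈ Subgroup.centralizer (Set.range x) ↔ ∀ i, y * x i = x i * y := by
  rw [Subgroup.mem_centralizer_iff]
  constructor
  · intro h i
    exact (h _ ⟨i, rfl⟩).symm
  · rintro h _ ⟨i, rfl⟩
    exact (h i).symm

/-- Conjugation of pairs. -/
def fixEquivZ {Y ι : Type*} [Group Y] {σ : MulAut Y} {x t : ι → Y} {z k : Y} (hz : ∀ i, z⁻¹ * x i * z = t i)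
    (hk : z⁻¹ * σ z = k) : ↥(fixZ (MulAut.conj k * σ) t) ≃* ↥(fixZ σ x) where
  toFun y := ⟨z * y.1 * z⁻¹, by
    obtain ⟨h1, h2⟩ := mem_fixZ.1 y.2
    have h3 : k * σ y.1 * k⁻¹ = y.1 := h1
    refine mem_fixZ.2 ⟨?_, fun i => ?_⟩
    · have h4 : σ z = z * k := by rw [← hk]; group
      rw [map_mul, map_mul, map_inv, h4]
      calc z * k * σ y.1 * (z * k)⁻¹ = z * (k * σ y.1 * k⁻¹) * z⁻¹ := by group
        _ = _ := by rw [h3]
    · have h5 : x i = z * t i * z⁻¹ := by rw [← hz]; group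
      rw [h5]
      calc z * y.1 * z⁻¹ * (z * t i * z⁻¹) = z * (y.1 * t i) * z⁻¹ := by group
        _ = z * (t i * y.1) * z⁻¹ := by rw [h2]
        _ = _ := by group⟩
  invFun y := ⟨z⁻¹ * y.1 * z, by
    obtain ⟨h1, h2⟩ := mem_fixZ.1 y.2
    refine mem_fixZ.2 ⟨?_, fun i => ?_⟩
    · have h4 : σ z = z * k := by rw [← hk]; group
      show k * σ (z⁻¹ * y.1 * z) * k⁻¹ = _
      rw [map_mul, map_mul, map_inv, h4, h1]
      group
    · rw [← hz]
      calc z⁻¹ * y.1 * z * (z⁻¹ * x i * z) = z⁻¹ * (y.1 * x i) * z := by group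
        _ = z⁻¹ * (x i * y.1) * z := by rw [h2]
        _ = _ := by group⟩
  left_inv y := by
    apply Subtype.ext
    show z⁻¹ * (z * y.1 * z⁻¹) * z = y.1
    group
  right_inv y := by
    apply Subtype.ext
    show z * (z⁻¹ * y.1 * z) * z⁻¹ = y.1
    group
  map_mul' a b := by
    apply Subtype.ext
    show z * (a.1 * b.1) * z⁻¹ = z * a.1 * z⁻¹ * (z * b.1 * z⁻¹)
    group

variable {I W Y : Type*} [Fintype I] [DecidableEq I] [Group W] [Group Y] {M : CoxeterMatrix I}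
  {cs : CoxeterSystem M W} {A : I → I → ℤ} {h : IsCartan M A} {p : ℕ} {ι : Type*}

section Lim

variable {J : Type*} [Preorder J] {T : J → Subgroup Y} {n : I → Y} {X : J → (I → ℤ) → Subgroup Y}
  (H : Tow cs h p T n X) {k : Type*} [Field k] {xx : (I → ℤ) → k → Y} {χ : (I → ℤ) → Y → k}
  (C : Coords cs h (TL T) n (XL X) xx χ)

/-- the roots centralised by the family -/
def SZ (cs : CoxeterSystem M W) (h : IsCartan M A) (χ : (I → ℤ) → Y → k) (t : ι → Y) : Set (I → ℤ) :=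
  {a | IsRoot cs h a ∧ ∀ i, χ a (t i) = 1}

theorem mem_SZ {t : ι → Y} {a : I → ℤ} : a ∈ SZ cs h χ t ↔ IsRoot cs h a ∧ ∀ i, a ∈ Sx cs h χ (t i) :=
  ⟨fun h1 => ⟨h1.1, fun i => ⟨h1.1, h1.2 i⟩⟩, fun h1 => ⟨h1.1, fun i => (h1.2 i).2⟩⟩

/-- the group generated by the root groups centralised by the family -/
def MZ (cs : CoxeterSystem M W) (h : IsCartan M A) (X : (I → ℤ) → Subgroup Y) (χ : (I → ℤ) → Y → k) (t : ι → Y) :
    Subgroup Y := RGD.Sup X (SZ cs h χ t)

include C in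
theorem SZ_neg (hA : ChAdd cs h (TL T) χ) {t : ι → Y} (ht : ∀ i, t i ∈ TL T) {a : I → ℤ}
    (ha : a ∈ SZ cs h χ t) : -a ∈ SZ cs h χ t :=
  mem_SZ.2 ⟨ha.1.neg, fun i => chi_neg C (ht i) hA ((mem_SZ.1 ha).2 i)⟩

theorem SZ_add (hA : ChAdd cs h (TL T) χ) {t : ι → Y} (ht : ∀ i, t i ∈ TL T) {a b : I → ℤ}
    (ha : a ∈ SZ cs h χ t) (hb : b ∈ SZ cs h χ t) (hab : IsRoot cs h (a + b)) : a + b ∈ SZ cs h χ t := by
  refine ⟨hab, fun i => ?_⟩
  obtain ⟨φ, h0, hadd, hφ⟩ := hA _ (ht i)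
  rw [hφ _ hab, hadd, ← hφ _ ha.1, ← hφ _ hb.1, ha.2 i, hb.2 i, one_mul]

include C in
theorem X_le_cent {t : ι → Y} (ht : ∀ i, t i ∈ TL T) {a : I → ℤ} (ha : a ∈ SZ cs h χ t) :
    XL X a ≤ Subgroup.centralizer (Set.range t) := by
  intro u hu
  rw [mem_cent]
  intro i
  exact Subgroup.mem_centralizer_singleton_iff.1 (X_le_centralizer C (ht i) ((mem_SZ.1 ha).2 i) hu)

include C in
theorem MZ_le_cent {t : ι → Y} (ht : ∀ i, t i ∈ TL T) :
    MZ cs h (XL X) χ t ≤ Subgroup.centralizer (Set.range t) :=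
  RGD.Sup_le fun _ ha => X_le_cent C ht ha

include C in
theorem mem_SZ_of_cent {t : ι → Y} (ht : ∀ i, t i ∈ TL T) {a : I → ℤ} (ha : IsRoot cs h a) {u : Y} (hu : u ∈ XL X a)
    (h1 : u ≠ 1) (hc : u ∈ Subgroup.centralizer (Set.range t)) : a ∈ SZ cs h χ t :=
  mem_SZ.2 ⟨ha, fun i => mem_Sx_of_centralizer C (ht i) ha hu h1
    (Subgroup.mem_centralizer_singleton_iff.2 (mem_cent.1 hc i))⟩

include C in
theorem Sup_cent_le {t : ι → Y} (ht : ∀ i, t i ∈ TL T) {S : Set (I → ℤ)} (hS : ∀ a ∈ S, IsRoot cs h a) :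
    RGD.Sup (fun a => XL X a ⊓ Subgroup.centralizer (Set.range t)) S ≤ RGD.Sup (XL X) (S ∩ SZ cs h χ t) := by
  refine RGD.Sup_le fun a ha => ?_
  rintro u ⟨hu, hc⟩
  by_cases h1 : u = 1
  · rw [h1]; exact one_mem _
  · exact RGD.le_Sup (S := S ∩ SZ cs h χ t) ⟨ha, mem_SZ_of_cent C ht (hS a ha) hu h1 hc⟩ hu

include H C in
/-- **The Bruhat form of the elements conjugating a family in `T` to a family in `T`.** -/
theorem exists_form [Finite W] [Finite ι] {s t : ι → Y} (hs : ∀ i, s i ∈ TL T) (ht : ∀ i, t i ∈ TL T) {c : Y}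
    (hc : c ∈ GG cs h (TL T) (XL X)) (e : ∀ i, c * s i = t i * c) :
    ∃ u ∈ RGD.Sup (XL X) (RGD.Pos cs h ∩ SZ cs h χ t), ∃ w k, Rp cs H.nsys w k ∧ (∀ i, k * s i = t i * k) ∧
      ∃ v ∈ RGD.Sup (XL X) (NW cs h w ∩ SZ cs h χ s), c = u * k * v := by
  obtain ⟨j1, h1⟩ := H.exists_level (S := fun j => (T j : Set Y)) (fun _ _ hab => H.monoT hab) (f := s)
    (fun i => H.mem_TL.1 (hs i))
  obtain ⟨j2, h2⟩ := H.exists_level (S := fun j => (T j : Set Y)) (fun _ _ hab => H.monoT hab) (f := t)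
    (fun i => H.mem_TL.1 (ht i))
  obtain ⟨j3, h3⟩ := H.mem_GG.1 hc
  obtain ⟨j4, a1, a2⟩ := H.dir j1 j2
  obtain ⟨j, b1, b2⟩ := H.dir j3 j4
  have hsj : ∀ i, s i ∈ T j := fun i => H.monoT (a1.trans b2) (h1 i)
  have htj : ∀ i, t i ∈ T j := fun i => H.monoT (a2.trans b2) (h2 i)
  obtain ⟨w, hw⟩ := (Cfsg.Agent.Nodes.Bruhat.mem_GG (H.rgd j)).1 (H.mono_GG b1 h3)
  obtain ⟨u, hu, k', hk, v, hv, rfl⟩ := Cfsg.Agent.Nodes.NormalForm.exists_normal_form (H.rgd j) hw
  have key := fun i => conj_form' (H.rgd j) (hsj i) (htj i) hu hk hv (e i)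
  have hrs : Set.range s ⊆ (T j : Set Y) := by rintro _ ⟨i, rfl⟩; exact hsj i
  have hrt : Set.range t ⊆ (T j : Set Y) := by rintro _ ⟨i, rfl⟩; exact htj i
  have huc : u ∈ Subgroup.centralizer (Set.range t) := mem_cent.2 fun i => (key i).1.symm
  have hvc : v ∈ Subgroup.centralizer (Set.range s) := mem_cent.2 fun i => (key i).2.2.symm
  refine ⟨u, ?_, w, k', H.rp_up hk, fun i => (key i).2.1, v, ?_, rfl⟩
  · refine Sup_cent_le C ht (fun a ha => ha.1) ?_
    have h5 : u ∈ RGD.Sup (fun x => X j x ⊓ Subgroup.centralizer (Set.range t)) (RGD.Pos cs h) := by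
      rw [← centralizer_U (H.rgd j) hrt]
      exact ⟨hu, huc⟩
    have h6 : RGD.Sup (fun x => X j x ⊓ Subgroup.centralizer (Set.range t)) (RGD.Pos cs h) ≤
        RGD.Sup (fun x => XL X x ⊓ Subgroup.centralizer (Set.range t)) (RGD.Pos cs h) :=
      RGD.Sup_le fun a ha => le_trans (inf_le_inf_right _ (le_XL j a))
        (RGD.le_Sup (X := fun a => XL X a ⊓ Subgroup.centralizer (Set.range t)) ha)
    exact h6 h5
  · refine Sup_cent_le C hs (fun a ha => ha.1) ?_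
    have h5 : v ∈ RGD.Sup (fun x => X j x ⊓ Subgroup.centralizer (Set.range s)) (NW cs h w) := by
      rw [NW_eq] at hv ⊢
      exact centralizer_PW (H.rgd j) _ hrs hv hvc
    have h6 : RGD.Sup (fun x => X j x ⊓ Subgroup.centralizer (Set.range s)) (NW cs h w) ≤
        RGD.Sup (fun x => XL X x ⊓ Subgroup.centralizer (Set.range s)) (NW cs h w) :=
      RGD.Sup_le fun a ha => le_trans (inf_le_inf_right _ (le_XL j a))
        (RGD.le_Sup (X := fun a => XL X a ⊓ Subgroup.centralizer (Set.range s)) ha)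
    exact h6 h5

include H C in
theorem rep_SZ {s t : ι → Y} (hs : ∀ i, s i ∈ TL T) {w : W} {k' : Y} (hk : Rp cs H.nsys w k')
    (hkst : ∀ i, k' * s i = t i * k') {a : I → ℤ} (ha : a ∈ SZ cs h χ s) : rep cs h w a ∈ SZ cs h χ t := by
  refine ⟨ha.1.act w, fun i => ?_⟩
  have h7 := C.chi_rp H.nsys hk ha.1 (hs i)
  have h8 : k' * s i * k'⁻¹ = t i := by rw [hkst]; group
  rw [h8] at h7
  rw [h7]; exact ha.2 i

include H C in
/-- Conjugation by representatives, on `MZ`. -/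
theorem conj_MZ {s t : ι → Y} (hs : ∀ i, s i ∈ TL T) {w : W} {k' : Y} (hk : Rp cs H.nsys w k')
    (hkst : ∀ i, k' * s i = t i * k') : MZ cs h (XL X) χ s ≤ (MZ cs h (XL X) χ t).comap (MulAut.conj k').toMonoidHom := by
  refine RGD.Sup_le fun a ha => ?_
  intro y hy
  have h8 : k' * y * k'⁻¹ ∈ XL X (rep cs h w a) := by
    rw [← H.conj_rp hk ha.1]
    exact conj_mem_cj.2 hy
  exact RGD.le_Sup (rep_SZ H C hs hk hkst ha) h8

include H C in
/-- **Families in the torus conjugate in `Y` are conjugate in `N`.** -/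
theorem exists_form' [Finite W] [Finite ι] {s t : ι → Y} (hs : ∀ i, s i ∈ TL T) (ht : ∀ i, t i ∈ TL T) {c : Y}
    (hc : c ∈ GG cs h (TL T) (XL X)) (e : ∀ i, c * s i = t i * c) :
    ∃ m ∈ MZ cs h (XL X) χ t, ∃ w k, Rp cs H.nsys w k ∧ (∀ i, k * s i = t i * k) ∧ c = m * k := by
  obtain ⟨u, hu, w, k', hk, hks, v, hv, rfl⟩ := exists_form H C hs ht hc e
  refine ⟨u * (k' * v * k'⁻¹), mul_mem ?_ ?_, w, k', hk, hks, by group⟩
  · exact RGD.Sup_mono (S := RGD.Pos cs h ∩ SZ cs h χ t) (S' := SZ cs h χ t) (fun a ha => ha.2) hu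
  · exact conj_MZ H C hs hk hks (RGD.Sup_mono (S := NW cs h w ∩ SZ cs h χ s) (S' := SZ cs h χ s)
      (fun a ha => ha.2) hv)

include C in
theorem Fr_mem_SZ {σ : MulAut Y} {g : (I → ℤ) ≃+ (I → ℤ)} (F : Fr cs h (TL T) (XL X) σ g) {t : ι → Y}
    (ht : ∀ i, t i ∈ TL T) (hσt : ∀ i, σ (t i) = t i) (a : I → ℤ) : g a ∈ SZ cs h χ t ↔ a ∈ SZ cs h χ t := by
  rw [mem_SZ, mem_SZ, F.root]
  exact and_congr_right fun _ => forall_congr' fun i => F.mem_Sx C (ht i) (hσt i) a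

include C in
theorem Fr_mem_MZ {σ : MulAut Y} {g : (I → ℤ) ≃+ (I → ℤ)} (F : Fr cs h (TL T) (XL X) σ g) {t : ι → Y}
    (ht : ∀ i, t i ∈ TL T) (hσt : ∀ i, σ (t i) = t i) (y : Y) :
    σ y ∈ MZ cs h (XL X) χ t ↔ y ∈ MZ cs h (XL X) χ t :=
  F.mem_Sup (fun _ ha => ha.1) (Fr_mem_SZ C F ht hσt) y

include H C in
theorem cj_MZ {t : ι → Y} (ht : ∀ i, t i ∈ TL T) {w : W} {k' : Y} (hk : Rp cs H.nsys w k')
    (hkt : ∀ i, k' * t i = t i * k') : cj k' (MZ cs h (XL X) χ t) = MZ cs h (XL X) χ t := by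
  have F0 := Fr.conj H hk
  have h1 : ∀ i, MulAut.conj k' (t i) = t i := fun i => by
    show k' * t i * k'⁻¹ = t i
    rw [hkt]; group
  ext y
  rw [mem_cj, ← Fr_mem_MZ C F0 ht h1]
  show k' * (k'⁻¹ * y * k') * k'⁻¹ ∈ _ ↔ _
  have e : k' * (k'⁻¹ * y * k') * k'⁻¹ = y := by group
  rw [e]

include H C in
/-- `C_Y(t)` normalises `MZ`. -/
theorem normalizer_MZ [Finite W] [Finite ι] (hG : GG cs h (TL T) (XL X) = ⊤) {t : ι → Y} (ht : ∀ i, t i ∈ TL T)
    {c : Y} (hc : ∀ i, c * t i = t i * c) : c ∈ Subgroup.normalizer (MZ cs h (XL X) χ t : Set Y) := by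
  obtain ⟨m, hm, w, k, hk, hkt, rfl⟩ := exists_form' H C ht ht (c := c) (by rw [hG]; exact Subgroup.mem_top _) hc
  exact mul_mem (Subgroup.le_normalizer hm) (mem_normalizer_iff_cj.2 (cj_MZ H C ht hk hkt))

include H C in
/-- the reflections of the roots of `SZ t` are represented in `MZ t` -/
theorem exists_rfl_MZ [Finite W] (hA : ChAdd cs h (TL T) χ) {t : ι → Y} (ht : ∀ i, t i ∈ TL T) {a : I → ℤ}
    (ha : a ∈ SZ cs h χ t) : ∃ w i, a = rep cs h w (sr i) ∧ ∃ m ∈ MZ cs h (XL X) χ t, Rp cs H.nsys (rfl' cs w i) m := by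
  obtain ⟨⟨w, i, hw⟩, h2⟩ := id ha
  refine ⟨w, i, hw, ?_⟩
  obtain ⟨j⟩ := H.ne
  obtain ⟨m, hm, hm'⟩ := BpExc.TorCent.exists_rfl (H.rgd j) w i
  rw [← hw] at hm
  have hneg := SZ_neg C hA ht ha
  have h3 : (X j a ⊔ X j (-a)) ≤ MZ cs h (XL X) χ t :=
    sup_le ((le_XL j a).trans (RGD.le_Sup ha)) ((le_XL j _).trans (RGD.le_Sup hneg))
  have hTn : T j ≤ Subgroup.normalizer ((X j a ⊔ X j (-a) : Subgroup Y) : Set Y) := by
    intro s hs
    rw [mem_normalizer_iff_cj, cj_sup, (H.rgd j).tor a ha.1 s hs, (H.rgd j).tor (-a) ha.1.neg s hs]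
  have h4 : m ∈ ((T j ⊔ (X j a ⊔ X j (-a)) : Subgroup Y) : Set Y) := hm
  rw [Subgroup.coe_mul_of_left_le_normalizer_right _ _ hTn, Set.mem_mul] at h4
  obtain ⟨s, hs, u, hu, e⟩ := h4
  refine ⟨u, h3 hu, H.rp_up (j := j) ?_⟩
  have h5 := (rp_of_mem (cs := cs) (hN := (H.rgd j).nsys) (inv_mem hs)).mul hm'
  rw [one_mul] at h5
  have h6 : s⁻¹ * m = u := by rw [← e]; group
  rwa [h6] at h5

include H C in
/-- **The pair reduction.** -/
theorem pair_reduction [Finite W] [Finite ι] (hA : ChAdd cs h (TL T) χ) (hG : GG cs h (TL T) (XL X) = ⊤)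
    {σ : MulAut Y} {g : (I → ℤ) ≃+ (I → ℤ)} (Fσ : Fr cs h (TL T) (XL X) σ g) {x t : ι → Y} {z : Y}
    (hσx : ∀ i, σ (x i) = x i) (hz : ∀ i, z⁻¹ * x i * z = t i) (ht : ∀ i, t i ∈ TL T)
    (hL : ∀ (k : Y) (g' : (I → ℤ) ≃+ (I → ℤ)), Fr cs h (TL T) (XL X) (MulAut.conj k * σ) g' →
      (∀ i, (MulAut.conj k * σ) (t i) = t i) → ∀ m ∈ MZ cs h (XL X) χ t, ∃ y ∈ MZ cs h (XL X) χ t,
      m = y⁻¹ * (MulAut.conj k * σ) y) :
    ∃ (z' k : Y) (g' : (I → ℤ) ≃+ (I → ℤ)), (∀ i, z'⁻¹ * x i * z' = t i) ∧ z'⁻¹ * σ z' = k ∧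
      Fr cs h (TL T) (XL X) (MulAut.conj k * σ) g' ∧ (∀ i, (MulAut.conj k * σ) (t i) = t i) ∧
      ∀ a ∈ SZ cs h χ t, 0 ≤ a → 0 ≤ g' a := by
  -- `c σ(t) c⁻¹ = t`
  have e1 : ∀ i, z⁻¹ * σ z * σ (t i) = t i * (z⁻¹ * σ z) := by
    intro i
    have h1 : σ (t i) = (σ z)⁻¹ * x i * σ z := by rw [← hz, map_mul, map_mul, map_inv, hσx]
    rw [h1, ← hz]; group
  obtain ⟨m, hm, w, k, hk, hkt, hc⟩ := exists_form' H C (s := fun i => σ (t i)) (fun i => (Fσ.tor _).2 (ht i)) ht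
    (c := z⁻¹ * σ z) (by rw [hG]; exact Subgroup.mem_top _) e1
  -- the frame automorphism `τ₀ = conj k * σ`
  have F0 := (Fr.conj H hk).mul Fσ
  have ht0 : ∀ i, (MulAut.conj k * σ) (t i) = t i := fun i => by
    show k * σ (t i) * k⁻¹ = t i
    rw [hkt]; group
  -- adjustment of the positive system
  let V : Subgroup W :=
    { carrier := {v | ∃ m ∈ MZ cs h (XL X) χ t, Rp cs H.nsys v m}
      one_mem' := ⟨1, one_mem _, rp_one⟩
      mul_mem' := by
        rintro a b ⟨m, hm, hm'⟩ ⟨m', hm1, hm2⟩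
        exact ⟨m * m', mul_mem hm hm1, hm'.mul hm2⟩
      inv_mem' := by
        rintro a ⟨m, hm, hm'⟩
        exact ⟨m⁻¹, inv_mem hm, hm'.inv⟩ }
  obtain ⟨v, ⟨m₁, hm₁, hv⟩, hpos⟩ := BpExc.Fr.exists_adjust (cs := cs) (h := h) (SZ cs h χ t) V
    (fun a ha => exists_rfl_MZ H C hA ht ha) (g.trans (repAut cs h w)) (fun a ha => (F0.root a).2 ha)
  have hm₁t : ∀ i, m₁ * t i = t i * m₁ := mem_cent.1 (MZ_le_cent C ht hm₁)
  have F1 := F0.mul (Fr.conj H hv)
  have e2 : MulAut.conj k * σ * MulAut.conj m₁ = MulAut.conj (k * σ m₁) * σ := by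
    ext y
    show k * σ (m₁ * y * m₁⁻¹) * k⁻¹ = k * σ m₁ * σ y * (k * σ m₁)⁻¹
    rw [map_mul, map_mul, map_inv]; group
  rw [e2] at F1
  have ht1 : ∀ i, (MulAut.conj (k * σ m₁) * σ) (t i) = t i := fun i => by
    rw [← e2]
    show (MulAut.conj k * σ) (m₁ * t i * m₁⁻¹) = t i
    rw [hm₁t, mul_inv_cancel_right, ht0]
  have hm' : m * ((MulAut.conj k * σ) m₁)⁻¹ ∈ MZ cs h (XL X) χ t :=
    mul_mem hm (inv_mem ((Fr_mem_MZ C F0 ht ht0 m₁).2 hm₁))
  obtain ⟨y, hy, ey⟩ := hL _ _ F1 ht1 _ hm'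
  have hyt : ∀ i, y * t i = t i * y := mem_cent.1 (MZ_le_cent C ht hy)
  refine ⟨z * y⁻¹, k * σ m₁, _, fun i => ?_, ?_, F1, ht1, hpos⟩
  · calc (z * y⁻¹)⁻¹ * x i * (z * y⁻¹) = y * (z⁻¹ * x i * z) * y⁻¹ := by group
      _ = t i := by rw [hz, hyt]; group
  · have h3 : z⁻¹ * σ z = y⁻¹ * (k * σ m₁) * σ y := by
      have h4 : m = y⁻¹ * (k * σ m₁ * σ y * (k * σ m₁)⁻¹) * (k * σ m₁ * k⁻¹) := by
        have h5 : m * (k * σ m₁ * k⁻¹)⁻¹ = y⁻¹ * (k * σ m₁ * σ y * (k * σ m₁)⁻¹) := ey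
        rw [← h5]; group
      rw [hc, h4]; group
    rw [map_mul, map_inv]
    calc (z * y⁻¹)⁻¹ * (σ z * (σ y)⁻¹) = y * (z⁻¹ * σ z) * (σ y)⁻¹ := by group
      _ = k * σ m₁ := by rw [h3]; group

end Lim

/-! ### finite level -/

section Fin

variable {T : Subgroup Y} {n : I → Y} {X : (I → ℤ) → Subgroup Y}

/-- The data. -/
structure DatZ (R : RGD cs h p T n X) (t : ι → Y) (S : Set (I → ℤ)) (τ : MulAut Y) (g : (I → ℤ) ≃+ (I → ℤ)) : Prop where
  mem : ∀ i, t i ∈ T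
  root : ∀ a ∈ S, IsRoot cs h a
  neg : ∀ a ∈ S, -a ∈ S
  cent : ∀ a ∈ S, X a ≤ Subgroup.centralizer (Set.range t)
  of_cent : ∀ a, IsRoot cs h a → ∀ u ∈ X a, u ≠ 1 → u ∈ Subgroup.centralizer (Set.range t) → a ∈ S
  fr : Fr cs h T X τ g
  fix : ∀ i, τ (t i) = t i
  pos : ∀ a ∈ S, 0 ≤ a → 0 ≤ g a
  rp : ∀ w k, Rp cs R.nsys w k → ∃ w', Rp cs R.nsys w' (τ k)
  comm : ∀ x ∈ S, ∀ y ∈ S, x ≠ y → x ≠ -y → ∀ a ∈ X x, ∀ b ∈ X y,
    ⁅a, b⁆ ∈ RGD.Sup X {z | z ∈ S ∧ ∃ i j : ℕ, 0 < i ∧ 0 < j ∧ z = i • x + j • y}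
  fixed : ∀ a ∈ S, ∃ y ∈ X a, y ≠ 1 ∧ ∀ m, g^[m] a = a → (τ ^ m) y = y
  le : fixZ τ t ≤ GG cs h T X

section

variable {R : RGD cs h p T n X} {t : ι → Y} {S : Set (I → ℤ)} {τ : MulAut Y} {g : (I → ℤ) ≃+ (I → ℤ)}
  (D : DatZ R t S τ g)

include D

theorem DatZ.exists_ne [Finite W] {a : I → ℤ} (ha : IsRoot cs h a) : ∃ u ∈ X a, u ≠ 1 := by
  by_contra hcon
  push Not at hcon
  exact X_ne_bot R ha ((Subgroup.eq_bot_iff_forall _).2 hcon)

/-- `N ∩ C(t)` preserves `S`. -/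
theorem DatZ.act [Finite W] {w : W} {k : Y} (hk : Rp cs R.nsys w k) (hkt : k ∈ Subgroup.centralizer (Set.range t))
    {a : I → ℤ} (ha : a ∈ S) : rep cs h w a ∈ S := by
  obtain ⟨u, hu, hu1⟩ := D.exists_ne (D.root a ha)
  refine D.of_cent _ ((D.root a ha).act w) _ (R.conj_mem hk (D.root a ha) hu) ?_ ?_
  · rw [Ne, conj_eq_one_iff]; exact hu1
  · exact mul_mem (mul_mem hkt (D.cent a ha hu)) (inv_mem hkt)

theorem DatZ.g_mem [Finite W] {a : I → ℤ} (ha : a ∈ S) : g a ∈ S := by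
  obtain ⟨u, hu, hu1⟩ := D.exists_ne (D.root a ha)
  refine D.of_cent _ ((D.fr.root a).2 (D.root a ha)) _ ((D.fr.map a (D.root a ha) u).2 hu) ?_ ?_
  · rw [Ne, map_eq_one_iff τ τ.injective]; exact hu1
  · refine mem_cent.2 fun i => ?_
    have h2 := congrArg τ (mem_cent.1 (D.cent a ha hu) i)
    rwa [map_mul, map_mul, D.fix] at h2

theorem DatZ.g_neg [Finite W] {a : I → ℤ} (ha : a ∈ S) (h0 : a ≤ 0) : g a ≤ 0 := by
  have h1 := D.pos (-a) (D.neg a ha) (neg_nonneg.2 h0)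
  rw [map_neg] at h1
  exact neg_nonneg.1 h1

/-- `τ k` represents the conjugate by `g`. -/
theorem DatZ.rep_g [Finite W] {w w' : W} {k : Y} (hk : Rp cs R.nsys w k) (hk' : Rp cs R.nsys w' (τ k))
    {a : I → ℤ} (ha : IsRoot cs h a) : rep cs h w' (g a) = g (rep cs h w a) := by
  have hga := (D.fr.root a).2 ha
  refine X_injective R (hga.act w') ((D.fr.root _).2 (ha.act w)) ?_
  rw [← R.conj_rp hk' hga, ← D.fr.map_eq ha, ← D.fr.map_eq (ha.act w), ← R.conj_rp hk ha]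
  ext y
  rw [mem_cj]
  constructor
  · rintro ⟨u, hu, e⟩
    refine ⟨k * u * k⁻¹, conj_mem_cj.2 hu, ?_⟩
    have e' : τ u = (τ k)⁻¹ * y * τ k := e
    show τ (k * u * k⁻¹) = y
    rw [map_mul, map_mul, map_inv, e']
    group
  · rintro ⟨u, hu, rfl⟩
    refine ⟨k⁻¹ * u * k, mem_cj.1 hu, ?_⟩
    show τ (k⁻¹ * u * k) = (τ k)⁻¹ * τ u * τ k
    rw [map_mul, map_mul, map_inv]

theorem DatZ.map_U [Finite W] {u : Y} (hu : u ∈ RGD.Sup X (SP S)) : τ u ∈ RGD.Sup X (SP S) := by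
  have h1 : RGD.Sup X (SP S) ≤ (RGD.Sup X (SP S)).comap τ.toMonoidHom := by
    refine RGD.Sup_le fun a ha u hu => ?_
    exact RGD.le_Sup (S := SP S) ⟨D.g_mem ha.1, D.pos a ha.1 ha.2⟩ ((D.fr.map a (D.root a ha.1) u).2 hu)
  exact h1 hu

theorem DatZ.SP_le : SP S ⊆ RGD.Pos cs h := fun a ha => ⟨D.root a ha.1, ha.2⟩

theorem DatZ.U_le : RGD.Sup X (SP S) ≤ RGD.Sup X (RGD.Pos cs h) := RGD.Sup_mono D.SP_le

theorem DatZ.V_le : RGD.Sup X (SN S) ≤ UN cs h X :=
  RGD.Sup_mono (S := SN S) (S' := _root_.Cfsg.Agent.Nodes.OppDec.Neg cs h) fun a ha => ⟨D.root a ha.1, ha.2⟩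

theorem DatZ.U_cent : RGD.Sup X (SP S) ≤ Subgroup.centralizer (Set.range t) := RGD.Sup_le fun a ha => D.cent a ha.1

/-- the centraliser of `t` in a join of root groups -/
theorem DatZ.sup_cent (S' : Set (I → ℤ)) (hS' : ∀ a ∈ S', IsRoot cs h a) :
    RGD.Sup (fun x => X x ⊓ Subgroup.centralizer (Set.range t)) S' ≤ RGD.Sup X (S' ∩ S) := by
  refine RGD.Sup_le fun a ha => ?_
  rintro u ⟨hu, hc⟩
  by_cases h1 : u = 1
  · rw [h1]; exact one_mem _
  · exact RGD.le_Sup (S := S' ∩ S) ⟨ha, D.of_cent a (hS' a ha) u hu h1 hc⟩ hu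

/-- **The Bruhat form of `C_Y(t)^τ`.** -/
theorem DatZ.exists_form [Finite W] {c : Y} (hc : c ∈ fixZ τ t) :
    ∃ u ∈ RGD.Sup X (SP S) ⊓ fixZ τ t, ∃ w, ∃ k ∈ fixZ τ t, Rp cs R.nsys w k ∧
      ∃ v ∈ RGD.Sup X (SP S) ⊓ fixZ τ t, k * v * k⁻¹ ∈ RGD.Sup X (SN S) ∧ c = u * k * v := by
  obtain ⟨w, hw⟩ := (mem_GG R).1 (D.le hc)
  obtain ⟨u, hu, k, hk, v, hv, rfl⟩ := Cfsg.Agent.Nodes.NormalForm.exists_normal_form R hw
  obtain ⟨hτ, hct⟩ := mem_fixZ.1 hc
  have hrt : Set.range t ⊆ (T : Set Y) := by rintro _ ⟨i, rfl⟩; exact D.mem i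
  obtain ⟨h1, h2, h3⟩ := centralizer_form R (S := Set.range t) hrt hu hk hv (mem_cent.2 hct)
  have hu' : u ∈ RGD.Sup X (SP S) := by
    have h4 : u ∈ RGD.Sup (fun x => X x ⊓ Subgroup.centralizer (Set.range t)) (RGD.Pos cs h) := by
      rw [← centralizer_U R hrt]
      exact ⟨hu, h1⟩
    exact RGD.Sup_mono (S := RGD.Pos cs h ∩ S) (S' := SP S) (fun a ha => ⟨ha.2, ha.1.2⟩)
      (D.sup_cent _ (fun a ha => ha.1) h4)
  have hv' : v ∈ RGD.Sup X (NW cs h w ∩ S) := by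
    refine D.sup_cent _ (fun a ha => ha.1) ?_
    rw [NW_eq] at hv ⊢
    exact centralizer_PW R _ hrt hv h3
  have hv'' : v ∈ RGD.Sup X (SP S) :=
    RGD.Sup_mono (S := NW cs h w ∩ S) (S' := SP S) (fun a ha => ⟨ha.2, ha.1.2.1⟩) hv'
  obtain ⟨w', hk'⟩ := D.rp w k hk
  have hτv : τ v ∈ RGD.Sup X (NW cs h w') := by
    have h4 : RGD.Sup X (NW cs h w ∩ S) ≤ (RGD.Sup X (NW cs h w')).comap τ.toMonoidHom := by
      refine RGD.Sup_le fun a ha y hy => ?_
      refine RGD.le_Sup (S := NW cs h w') ⟨(D.fr.root a).2 ha.1.1, D.pos a ha.2 ha.1.2.1, ?_⟩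
        ((D.fr.map a ha.1.1 y).2 hy)
      rw [D.rep_g hk hk' ha.1.1]
      exact D.g_neg (D.act hk h2 ha.2) ha.1.2.2
    exact h4 hv'
  have e : τ u * τ k * τ v = u * k * v := by rw [← map_mul, ← map_mul]; exact hτ
  have hτu := D.U_le (D.map_U hu')
  have hB : ∀ {w : W} {v : Y}, v ∈ RGD.Sup X (NW cs h w) → v ∈ RGD.B cs h T X := fun hv =>
    RGD.U_le_B (RGD.Sup_mono (S := NW cs h _) (S' := RGD.Pos cs h) (fun x hx => ⟨hx.1, hx.2.1⟩) hv)
  have c1 : Cell R.nsys cs h X w (u * k * v) := ⟨u, RGD.U_le_B hu, k, hk, v, hB hv, rfl⟩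
  have c2 : Cell R.nsys cs h X w' (u * k * v) := ⟨τ u, RGD.U_le_B hτu, τ k, hk', τ v, hB hτv, e.symm⟩
  have hw : w = w' := Cell.unique R c1 c2
  subst hw
  obtain ⟨e1, e2, e3⟩ := Cfsg.Agent.Nodes.NormalForm.normal_form_unique R hτu hu hk' hk hτv hv e
  have hfu : u ∈ fixZ τ t := mem_fixZ.2 ⟨e1, mem_cent.1 h1⟩
  have hfk : k ∈ fixZ τ t := mem_fixZ.2 ⟨e2, mem_cent.1 h2⟩
  have hfv : v ∈ fixZ τ t := mem_fixZ.2 ⟨e3, mem_cent.1 h3⟩
  refine ⟨u, ⟨hu', hfu⟩, w, k, hfk, hk, v, ⟨hv'', hfv⟩, ?_, rfl⟩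
  exact conj_mem_Sup R hk (S := NW cs h w ∩ S) (S' := SN S) (fun a ha => ha.1.1)
    (fun a ha => ⟨D.act hk h2 ha.2, ha.1.2.2⟩) hv'

theorem DatZ.iter_mem [Finite W] {a : I → ℤ} (ha : a ∈ SP S) (i : ℕ) : g^[i] a ∈ SP S := by
  induction i with
  | zero => exact ha
  | succ i ih =>
    rw [Function.iterate_succ_apply']
    exact ⟨D.g_mem ih.1, D.pos _ ih.1 ih.2⟩

theorem DatZ.fh_pos [Finite W] {N : ℕ} (hN : 0 < N) {a : I → ℤ} (ha : a ∈ SP S) : 0 < fh g N a := by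
  refine Finset.sum_pos (fun i _ => ?_) ⟨0, Finset.mem_range.2 hN⟩
  have := D.iter_mem ha i
  exact RGD.ht_pos (D.root _ this.1) this.2

/-- **A nontrivial `τ`-fixed element in the part of `U` moved by `w`.** -/
theorem DatZ.exists_fixed [Finite W] {Ψ : Set (I → ℤ)} (hne : Ψ.Nonempty) (hΨ : Ψ ⊆ SP S)
    (hg : ∀ a ∈ Ψ, g a ∈ Ψ)
    (hcl : ∀ a ∈ Ψ, ∀ b ∈ Ψ, ∀ z ∈ S, (∃ i j : ℕ, 0 < i ∧ 0 < j ∧ z = i • a + j • b) → z ∈ Ψ) :
    ∃ u ∈ RGD.Sup X Ψ, u ≠ 1 ∧ τ u = u := by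
  obtain ⟨N, hN, hNg⟩ := exists_period D.fr
  have hfin : Ψ.Finite := (RGD.finite_roots (cs := cs) (h := h)).subset fun a ha => D.root a (hΨ ha).1
  obtain ⟨a, ha, hmax⟩ := hfin.exists_maximalFor (fh g N) Ψ hne
  have hmax' : ∀ b ∈ Ψ, fh g N b ≤ fh g N a := fun b hb => by
    rcases le_total (fh g N b) (fh g N a) with h1 | h1
    · exact h1
    · exact hmax hb h1
  have hit : ∀ i, g^[i] a ∈ Ψ ∧ fh g N (g^[i] a) = fh g N a := by
    intro i
    induction i with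
    | zero => exact ⟨ha, rfl⟩
    | succ i ih =>
      rw [Function.iterate_succ_apply']
      exact ⟨hg _ ih.1, (fh_g (hNg _ (D.root _ (hΨ ih.1).1))).trans ih.2⟩
  obtain ⟨y, hy, hy1, hyf⟩ := D.fixed a (hΨ ha).1
  have hyi : ∀ i, (τ ^ i) y ∈ X (g^[i] a) := by
    intro i
    induction i with
    | zero => exact hy
    | succ i ih =>
      rw [pow_succ', Function.iterate_succ_apply']
      exact (D.fr.map _ (D.root _ (hΨ (hit i).1).1) _).2 ih
  have hyi1 : ∀ i, (τ ^ i) y ≠ 1 := fun i => by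
    rw [Ne, map_eq_one_iff _ (τ ^ i).injective]; exact hy1
  -- the minimal period
  have hper : 0 < Function.minimalPeriod g a :=
    Function.minimalPeriod_pos_of_mem_periodicPts ⟨N, hN, hNg a (D.root a (hΨ ha).1)⟩
  set! m := Function.minimalPeriod g a with hm; rewrite [← hm] at hper
  have hyc : ∀ i < m, Commute y ((τ ^ i) y) := by
    intro i hi
    rcases Nat.eq_zero_or_pos i with rfl | hi0
    · exact Commute.refl y
    have hne : a ≠ g^[i] a := fun e => by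
      have := Function.IsPeriodicPt.minimalPeriod_le hi0 (show Function.IsPeriodicPt g i a from e.symm)
      omega
    have hne' : a ≠ -g^[i] a := fun e => by
      have h1 := (hΨ ha).2
      rw [e] at h1
      exact (D.root _ (hΨ (hit i).1).1).not_pos_neg (hΨ (hit i).1).2 (neg_nonneg.1 h1)
    have h1 := D.comm a (hΨ ha).1 (g^[i] a) (hΨ (hit i).1).1 hne hne' y hy _ (hyi i)
    have h2 : RGD.Sup X {z | z ∈ S ∧ ∃ i' j : ℕ, 0 < i' ∧ 0 < j ∧ z = i' • a + j • g^[i] a} = ⊥ := by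
      rw [eq_bot_iff]
      refine RGD.Sup_le ?_
      rintro z ⟨hzS, i', j, hi', hj, hz⟩
      exfalso
      have h3 := hmax' z (hcl a ha _ (hit i).1 z hzS ⟨i', j, hi', hj, hz⟩)
      rw [hz, fh_comb, (hit i).2] at h3
      have h4 := D.fh_pos hN (hΨ ha)
      have h5 : (1 : ℤ) ≤ i' := by exact_mod_cast hi'
      have h6 : (1 : ℤ) ≤ j := by exact_mod_cast hj
      nlinarith only [hi', hj, h3, h4]
    rw [h2, Subgroup.mem_bot, commutatorElement_eq_one_iff_commute] at h1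
    exact h1
  refine ⟨_root_.Cfsg.Agent.BpExc.NInst.op τ y m, op_mem fun j _ => RGD.le_Sup (hit j).1 (hyi j), fun h1 => ?_,
    op_fixed (hyf m (Function.iterate_minimalPeriod)) hyc hper⟩
  obtain ⟨x, ⟨i, hi, rfl⟩, S', hS', hinf⟩ := exists_first R (O := {x | ∃ i < m, x = g^[i] a})
    ⟨a, 0, hper, rfl⟩ (by
      rintro x ⟨i, -, rfl⟩
      exact D.SP_le (hΨ (hit i).1))
  have h2 : (τ ^ i) y ∈ RGD.Sup X S' := by
    refine mem_of_op hi (by rw [h1]; exact one_mem _) fun j hj hji => ?_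
    refine RGD.le_Sup (hS' ⟨⟨j, hj, rfl⟩, fun e => hji ?_⟩) (hyi j)
    exact (Function.iterate_eq_iterate_iff_of_lt_minimalPeriod hj hi).1 e
  have h3 : (τ ^ i) y ∈ X (g^[i] a) ⊓ RGD.Sup X S' := ⟨hyi i, h2⟩
  rw [hinf, Subgroup.mem_bot] at h3
  exact hyi1 i h3

/-- the elements of `N` normalising `U` -/
theorem DatZ.mem_normalizer [Finite W] {w : W} {k : Y} (hk : Rp cs R.nsys w k) (hkt : k ∈ Subgroup.centralizer (Set.range t))
    (hpos : ∀ a ∈ SP S, 0 ≤ rep cs h w a) : k ∈ Subgroup.normalizer (RGD.Sup X (SP S) : Set Y) := by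
  have h1 : ∀ a ∈ SP S, rep cs h w a ∈ SP S := fun a ha => ⟨D.act hk hkt ha.1, hpos a ha⟩
  have hfin : (SP S).Finite := (RGD.finite_roots (cs := cs) (h := h)).subset fun a ha => D.root a ha.1
  have h2 : rep cs h w '' SP S = SP S := by
    have hsub : rep cs h w '' SP S ⊆ SP S := by
      rintro _ ⟨a, ha, rfl⟩
      exact h1 a ha
    refine Set.eq_of_subset_of_ncard_le hsub ?_ hfin
    rw [Set.ncard_image_of_injective]
    intro a b hab
    have := congrArg (rep cs h w⁻¹) hab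
    rwa [rep_inv_apply, rep_inv_apply] at this
  rw [mem_normalizer_iff_cj, RGD.cj_Sup]
  apply le_antisymm
  · refine iSup_le fun a => ?_
    rw [R.conj_rp hk (D.root _ a.2.1)]
    exact RGD.le_Sup (h1 _ a.2)
  · refine RGD.Sup_le fun b hb => ?_
    rw [← h2] at hb
    obtain ⟨a, ha, rfl⟩ := hb
    rw [← R.conj_rp hk (D.root a ha.1)]
    exact le_iSup (fun z : SP S => cj k (X z.1)) ⟨a, ha⟩

theorem DatZ.pos_of_mem_normalizer [Finite W] {w : W} {k : Y} (hk : Rp cs R.nsys w k)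
    (hn : k ∈ Subgroup.normalizer (RGD.Sup X (SP S) : Set Y)) {a : I → ℤ} (ha : a ∈ SP S) : 0 ≤ rep cs h w a := by
  have har := D.root a ha.1
  rcases (har.act w).pos_or_neg with h1 | h1
  · exact h1
  · exfalso
    obtain ⟨u, hu, hu1⟩ := D.exists_ne har
    have h2 := R.conj_mem hk har hu
    have h3 : k * u * k⁻¹ ∈ RGD.Sup X (SP S) := (Subgroup.mem_normalizer_iff.1 hn u).1 (RGD.le_Sup ha hu)
    have h4 : k * u * k⁻¹ ∈ RGD.Sup X (RGD.Pos cs h) ⊓ UN cs h X := ⟨D.U_le h3, X_le_UN (har.act w) h1 h2⟩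
    rw [U_inf_UN R, Subgroup.mem_bot, conj_eq_one_iff] at h4
    exact hu1 h4

/-- **The form.** -/
theorem DatZ.form [Finite W] : Form (fixZ τ t) (RGD.Sup X (SP S)) (RGD.Sup X (SN S)) (NG R)
    (NG R ⊓ Subgroup.normalizer (RGD.Sup X (SP S) : Set Y)) where
  form c hc := by
    obtain ⟨u, hu, w, k, hkC, hk, v, hv, hvV, e⟩ := D.exists_form hc
    exact ⟨u, hu, k, ⟨⟨w, hk⟩, hkC⟩, v, hv, hvV, e⟩
  inf := by
    rw [eq_bot_iff, ← U_inf_UN R]
    exact inf_le_inf D.U_le D.V_le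
  move := by
    rintro k ⟨⟨w, hk⟩, hkC⟩ hn
    obtain ⟨hτk, hkt⟩ := mem_fixZ.1 hkC
    have hkt' : k ∈ Subgroup.centralizer (Set.range t) := mem_cent.2 hkt
    have hk' : Rp cs R.nsys w (τ k) := by rw [hτk]; exact hk
    obtain ⟨u, hu, hu1, huτ⟩ := D.exists_fixed (Ψ := {a | a ∈ SP S ∧ rep cs h w a ≤ 0}) (by
        by_contra hcon
        rw [Set.not_nonempty_iff_eq_empty] at hcon
        refine hn ⟨⟨w, hk⟩, D.mem_normalizer hk hkt' fun a ha => ?_⟩
        rcases ((D.root a ha.1).act w).pos_or_neg with h1 | h1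
        · exact h1
        · exfalso
          have : a ∈ {a | a ∈ SP S ∧ rep cs h w a ≤ 0} := ⟨ha, h1⟩
          rw [hcon] at this
          exact Set.notMem_empty a this) (fun a ha => ha.1)
      (fun a ha => ⟨⟨D.g_mem ha.1.1, D.pos a ha.1.1 ha.1.2⟩, by
        rw [D.rep_g hk hk' (D.root a ha.1.1)]
        exact D.g_neg (D.act hk hkt' ha.1.1) ha.2⟩)
      (by
        rintro a ha b hb z hz ⟨i, j, hi, hj, rfl⟩
        refine ⟨⟨hz, ?_⟩, ?_⟩
        · exact add_nonneg (nsmul_nonneg ha.1.2 i) (nsmul_nonneg hb.1.2 j)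
        · rw [map_add, map_nsmul, map_nsmul]
          exact add_nonpos (nsmul_nonpos ha.2 i) (nsmul_nonpos hb.2 j))
    have huU : u ∈ RGD.Sup X (SP S) := RGD.Sup_mono (S := {a | a ∈ SP S ∧ rep cs h w a ≤ 0}) (S' := SP S)
      (fun a ha => ha.1) hu
    refine ⟨u, ⟨huU, mem_fixZ.2 ⟨huτ, mem_cent.1 (D.U_cent huU)⟩⟩, hu1, ?_⟩
    exact conj_mem_Sup R hk (S := {a | a ∈ SP S ∧ rep cs h w a ≤ 0}) (S' := SN S) (fun a ha => D.root a ha.1.1)
      (fun a ha => ⟨D.act hk hkt' ha.1.1, ha.2⟩) hu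
  norm k hk u hu := (Subgroup.mem_normalizer_iff.1 hk.1.2 u).1 hu.1


end

end Fin

end Cfsg.Agent.H123.ExcZ
end

-- part: H123/ExcFin
section
/-!
# Group theoretic steps for the centralisers (S2348, exceptional groups)

* `isPGroup_of_chars` : the component group of a family of `p`-elements of the torus is a `p`-group;
* `mem_T_of_pos` : a representative normalising the positive roots of `SZ t` and conjugate in `C_Y(t)` to an element of
  the torus is in the torus;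
* `exists_conj_le` : `C = R N₁`, `R` normal of order prime to `p` : Sylow `p`-subgroups of `C` are conjugate into `N₁`;
* `normal_of` : normality of an abelian Sylow subgroup.
-/

set_option autoImplicit false
set_option linter.unusedSectionVars false

namespace Cfsg.Agent.H123.ExcFin

open CoxeterSystem Cfsg.Agent.ChevalleyStructure.CoxeterGeom Cfsg.Agent.Tits.Roots Cfsg.Agent.Tits.Core
  Cfsg.Agent.Tits.RootComb Cfsg.Agent.Tits.Exchange Cfsg.Agent.Nodes.Reps Cfsg.Agent.Nodes.BNOf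
  Cfsg.Agent.Nodes.StabComb Cfsg.Agent.Nodes.Bruhat Cfsg.Agent.Nodes.OppDec Cfsg.Agent.Nodes.LeviDec
  Cfsg.Agent.Nodes.NormalForm Cfsg.Agent.Nodes.Unique Cfsg.Agent.Nodes.SubComb Cfsg.Agent.Nodes.Coroot
  Cfsg.Agent.KFacts.RgdField
  Cfsg.Agent.BpExc.TorCent Cfsg.Agent.BpExc.Tow Cfsg.Agent.BpExc.Fr Cfsg.Agent.BpExc.NSol Cfsg.Agent.BpExc.NInst
  Cfsg.Agent.H123.ExcZ
open scoped commutatorElement Pointwise

variable {I W Y : Type*} [Fintype I] [DecidableEq I] [Group W] [Group Y] {M : CoxeterMatrix I}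
  {cs : CoxeterSystem M W} {A : I → I → ℤ} {h : IsCartan M A} {p : ℕ} {ι : Type*}

/-- **The component group is a `p`-group.** -/
theorem isPGroup_of_chars [Finite W] {F : Type*} [Field F] {p : ℕ} (hp : p.Prime) (φ : ι → (I → ℤ) → F)
    (hφ0 : ∀ i, φ i 0 = 1) (hφ : ∀ i x y, φ i (x + y) = φ i x * φ i y)
    (hφp : ∀ i, ∃ m, ∀ x, IsRoot cs h x → φ i x ^ p ^ m = 1) (P : Subgroup W)
    (hP : ∀ w ∈ P, ∀ i x, IsRoot cs h x → φ i (rep cs h w x) = φ i x)
    (hpos : ∀ w ∈ P, ∀ x, IsRoot cs h x → (∀ i, φ i x = 1) → 0 ≤ x → 0 ≤ rep cs h w x) : IsPGroup p P := by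
  classical
  have hfac : Fact p.Prime := ⟨hp⟩
  rw [IsPGroup.iff_card]
  refine ⟨(Nat.card P).primeFactorsList.length, ?_⟩
  apply Nat.eq_prime_pow_of_unique_prime_dvd Nat.card_pos.ne'
  intro q hq hqd
  have hqf : Fact q.Prime := ⟨hq⟩
  obtain ⟨⟨w, hwP⟩, hw⟩ := exists_prime_orderOf_dvd_card' q hqd
  have hwo : orderOf w = q := by rw [← hw]; exact (Subgroup.orderOf_mk w hwP).symm
  have hw1 : w ≠ 1 := by
    rintro rfl
    rw [orderOf_one] at hwo
    exact hq.one_lt.ne hwo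
  obtain ⟨a, ha, hsum⟩ := BpExc.Fix.exists_root_sum_eq_zero (cs := cs) (h := h) hw1 hq.pos
    (by rw [← hwo]; exact pow_orderOf_eq_one w)
  by_contra hqp
  have hcop : Nat.Coprime p q := (Nat.coprime_primes hp hq).2 (Ne.symm hqp)
  have h3 : ∀ j, φ j a = 1 := by
    intro j
    have h1 : ∀ m : ℕ, φ j (∑ i ∈ Finset.range m, rep cs h (w ^ i) a) = φ j a ^ m := by
      intro m
      induction m with
      | zero => rw [Finset.sum_range_zero, hφ0, pow_zero]
      | succ m ih =>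
        rw [Finset.sum_range_succ, hφ, ih, hP _ (P.pow_mem hwP m) j a ha, pow_succ]
    have h2 : φ j a ^ q = 1 := by rw [← h1 q, hsum, hφ0]
    obtain ⟨m, hm⟩ := hφp j
    have h4 : orderOf (φ j a) ∣ p ^ m := orderOf_dvd_of_pow_eq_one (hm a ha)
    have h5 : orderOf (φ j a) ∣ q := orderOf_dvd_of_pow_eq_one h2
    exact orderOf_eq_one_iff.1 (Nat.eq_one_of_dvd_coprimes (hcop.pow_left m) h4 h5)
  -- a positive root with sum zero
  have key : ∀ b, IsRoot cs h b → (∀ j, φ j b = 1) → 0 ≤ b → ∑ i ∈ Finset.range q, rep cs h (w ^ i) b ≠ 0 := by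
    intro b hb hb1 hb0 hs
    have h1 : ∀ i ∈ Finset.range q, 0 ≤ rep cs h (w ^ i) b := fun i _ =>
      hpos _ (P.pow_mem hwP i) b hb hb1 hb0
    have h2 := (Finset.sum_eq_zero_iff_of_nonneg h1).1 hs 0 (Finset.mem_range.2 hq.pos)
    rw [pow_zero, map_one, Module.End.one_apply] at h2
    exact hb.ne_zero h2
  rcases ha.pos_or_neg with h0 | h0
  · exact key a ha h3 h0 hsum
  · refine key (-a) ha.neg (fun j => ?_) (neg_nonneg.2 h0) ?_
    · have h4 := hφ j a (-a)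
      rw [add_neg_cancel, hφ0, h3, one_mul] at h4
      exact h4.symm
    · simp only [map_neg, Finset.sum_neg_distrib, hsum, neg_zero]

section Lim

variable {J : Type*} [Preorder J] {T : J → Subgroup Y} {n : I → Y} {X : J → (I → ℤ) → Subgroup Y}
  (H : Tow cs h p T n X) {k : Type*} [Field k] {xx : (I → ℤ) → k → Y} {χ : (I → ℤ) → Y → k}
  (C : Coords cs h (TL T) n (XL X) xx χ)

include H in
theorem conj_mem_SupL {w : W} {y : Y} (hy : Rp cs H.nsys w y) {S S' : Set (I → ℤ)} (hS : ∀ x ∈ S, IsRoot cs h x)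
    (hSS : ∀ x ∈ S, rep cs h w x ∈ S') {a : Y} (ha : a ∈ RGD.Sup (XL X) S) : y * a * y⁻¹ ∈ RGD.Sup (XL X) S' := by
  have h1 : RGD.Sup (XL X) S ≤ (RGD.Sup (XL X) S').comap (MulAut.conj y).toMonoidHom := by
    refine RGD.Sup_le fun x hx u hu => ?_
    refine RGD.le_Sup (hSS x hx) ?_
    rw [← H.conj_rp hy (hS x hx)]
    exact conj_mem_cj.2 hu
  exact h1 ha

include H C in
/-- A representative preserving the positive roots of `SZ t`, conjugate in `C_Y(t)` to an element of the torus. -/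
theorem mem_T_of_pos [Finite W] [Finite ι] (hG : GG cs h (TL T) (XL X) = ⊤) {t : ι → Y} (ht : ∀ i, t i ∈ TL T)
    {y l : Y} {w : W} (hy : Rp cs H.nsys w y) (hyt : ∀ i, y * t i = t i * y)
    (hpos : ∀ a ∈ SZ cs h χ t, 0 ≤ a → 0 ≤ rep cs h w a) (hl : ∀ i, l * t i = t i * l)
    (hT : l⁻¹ * y * l ∈ TL T) : y ∈ TL T := by
  obtain ⟨u, hu, w₁, k₁, hk₁, hkt, v, hv, e⟩ := _root_.Cfsg.Agent.H123.ExcZ.exists_form H C ht ht (c := l)
    (by rw [hG]; exact Subgroup.mem_top _) hl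
  set! s := l⁻¹ * y * l with hs; rewrite [← hs] at hT
  have h1 : y * l = l * s := by rw [hs]; group
  have h2 : (y * u * y⁻¹) * (y * k₁) * v = u * (k₁ * s) * (s⁻¹ * v * s) := by
    have e1 : (y * u * y⁻¹) * (y * k₁) * v = y * (u * k₁ * v) := by group
    have e2 : u * (k₁ * s) * (s⁻¹ * v * s) = u * k₁ * v * s := by group
    rw [e1, e2, ← e, h1]
  have hwS : ∀ a ∈ SZ cs h χ t, rep cs h w a ∈ SZ cs h χ t := fun a ha => rep_SZ H C ht hy hyt ha
  have hA : ∀ a ∈ SZ cs h χ t, a ≤ 0 → rep cs h w a ≤ 0 := by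
    intro a ha h0
    rcases (ha.1.act w).pos_or_neg with h3 | h3
    · exfalso
      -- the set of positive roots is preserved
      have hfin : (RGD.Pos cs h ∩ SZ cs h χ t).Finite :=
        (RGD.finite_roots (cs := cs) (h := h)).subset fun a ha => ha.2.1
      have h4 : rep cs h w '' (RGD.Pos cs h ∩ SZ cs h χ t) = RGD.Pos cs h ∩ SZ cs h χ t := by
        refine Set.eq_of_subset_of_ncard_le ?_ ?_ hfin
        · rintro _ ⟨b, hb, rfl⟩
          exact ⟨⟨hb.2.1.act w, hpos b hb.2 hb.1.2⟩, hwS b hb.2⟩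
        · rw [Set.ncard_image_of_injective]
          intro a b hab
          have := congrArg (rep cs h w⁻¹) hab
          rwa [rep_inv_apply, rep_inv_apply] at this
      have h5 : rep cs h w a ∈ rep cs h w '' (RGD.Pos cs h ∩ SZ cs h χ t) := by
        rw [h4]
        exact ⟨⟨ha.1.act w, h3⟩, hwS a ha⟩
      obtain ⟨b, hb, hab⟩ := h5
      have h6 := congrArg (rep cs h w⁻¹) hab
      rw [rep_inv_apply, rep_inv_apply] at h6
      rw [← h6] at h0
      exact hb.2.1.not_pos_neg hb.1.2 h0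
    · exact h3
  have huP : u ∈ RGD.Sup (XL X) (RGD.Pos cs h) :=
    RGD.Sup_mono (S := RGD.Pos cs h ∩ SZ cs h χ t) (S' := RGD.Pos cs h) (fun a ha => ha.1) hu
  obtain ⟨h3, -, -, -⟩ := H.normal_form_unique (w := w * w₁) (w' := w₁)
    (conj_mem_SupL H hy (S := RGD.Pos cs h ∩ SZ cs h χ t) (S' := RGD.Pos cs h) (fun a ha => ha.2.1)
      (fun a ha => ⟨ha.2.1.act w, hpos a ha.2 ha.1.2⟩) hu) huP (hy.mul hk₁) (hk₁.mul_mem_right hT)
    (RGD.Sup_mono (S := NW cs h w₁ ∩ SZ cs h χ t) (S' := NW cs h (w * w₁)) (fun a ha =>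
      ⟨ha.2.1, ha.1.2.1, by
        rw [rep_mul_apply]
        exact hA _ (rep_SZ H C ht hk₁ hkt ha.2) ha.1.2.2⟩) hv)
    (by
      have h4 : v ∈ RGD.Sup (XL X) (NW cs h w₁) :=
        RGD.Sup_mono (S := NW cs h w₁ ∩ SZ cs h χ t) (S' := NW cs h w₁) (fun a ha => ha.1) hv
      have h5 := H.T_le_normalizer (S := NW cs h w₁) (fun x hx => hx.1) (inv_mem hT)
      have h6 := (Subgroup.mem_normalizer_iff.1 h5 v).1 h4
      rwa [inv_inv] at h6) h2
  have h4 : w = 1 := by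
    rwa [mul_eq_right] at h3
  rw [h4] at hy
  exact hy.mem_of_one

end Lim

/-! ### finite groups -/

section Fin

variable {G : Type*} [Group G] [Finite G] {p : ℕ} [Fact p.Prime]

theorem exists_mul (R N : Subgroup G) [R.Normal] (hRN : R ⊔ N = ⊤) (y : G) : ∃ a ∈ R, ∃ b ∈ N, y = a * b := by
  have hy : y ∈ ((R ⊔ N : Subgroup G) : Set G) := by rw [hRN]; trivial
  rw [Subgroup.normal_mul] at hy
  obtain ⟨a, ha, b, hb, e⟩ := hy
  exact ⟨a, ha, b, hb, e.symm⟩

/-- Sylow subgroups are conjugate into a complement. -/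
theorem exists_conj_le (R N : Subgroup G) [R.Normal] (hRN : R ⊔ N = ⊤) (hR : ¬ p ∣ Nat.card ↥R) (S : Sylow p G) :
    ∃ d : G, ∀ y ∈ S, d * y * d⁻¹ ∈ N := by
  -- the index of `N` divides `|R|`
  have h1 : N.index ∣ Nat.card ↥R := by
    let f : ↥N →* G ⧸ R := (QuotientGroup.mk' R).comp N.subtype
    have hf : Function.Surjective f := by
      intro q
      obtain ⟨y, rfl⟩ := QuotientGroup.mk'_surjective R q
      obtain ⟨a, ha, b, hb, rfl⟩ := exists_mul R N hRN y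
      refine ⟨⟨b, hb⟩, ?_⟩
      show QuotientGroup.mk' R b = QuotientGroup.mk' R (a * b)
      rw [map_mul, (QuotientGroup.eq_one_iff (N := R) a).2 ha |> fun h => (show QuotientGroup.mk' R a = 1 from h),
        one_mul]
    obtain ⟨m, hm⟩ := Subgroup.card_dvd_of_surjective f hf
    have h2 := Subgroup.card_mul_index N
    have h3 := Subgroup.card_mul_index R
    have h4 : Nat.card (G ⧸ R) = R.index := rfl
    rw [h4] at hm
    have h5 : 0 < R.index := Nat.pos_of_ne_zero Subgroup.index_ne_zero_of_finite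
    refine ⟨m, ?_⟩
    have h6 : R.index * Nat.card ↥R = R.index * (N.index * m) := by
      rw [mul_comm R.index, h3, ← h2, hm]; ring
    exact Nat.eq_of_mul_eq_mul_left h5 h6
  have h2 : ¬ p ∣ N.index := fun h3 => hR (h3.trans h1)
  obtain ⟨P⟩ : Nonempty (Sylow p ↥N) := inferInstance
  have hP : IsPGroup p ↥((P : Subgroup ↥N).map N.subtype) := P.2.map _
  have hPi : ¬ p ∣ ((P : Subgroup ↥N).map N.subtype).index := by
    rw [Subgroup.index_map_subtype]
    intro h3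
    rcases (Fact.out : p.Prime).dvd_mul.1 h3 with h4 | h4
    · exact P.not_dvd_index h4
    · exact h2 h4
  obtain ⟨d, hd⟩ := MulAction.exists_smul_eq G S (hP.toSylow hPi)
  refine ⟨d, fun y hy => ?_⟩
  have h3 : d * y * d⁻¹ ∈ (hP.toSylow hPi) := by
    rw [← hd, Sylow.smul_def]
    exact Subgroup.smul_mem_pointwise_smul y (MulAut.conj d) _ hy
  obtain ⟨x, hx, e⟩ := h3
  rw [← e]
  exact x.2

/-- A `p`-element commuting with a Sylow `p`-subgroup is contained in it. -/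
theorem mem_of_commute (S : Sylow p G) {x : G} (hx : ∃ m, x ^ p ^ m = 1) (hc : ∀ y ∈ S, x * y = y * x) : x ∈ S := by
  obtain ⟨m, hm⟩ := hx
  have h1 : IsPGroup p ↥(Subgroup.zpowers x) := by
    refine IsPGroup.of_card_dvd_pow (n := m) ?_
    rw [Nat.card_zpowers]
    exact orderOf_dvd_of_pow_eq_one hm
  have h2 : Subgroup.zpowers x ≤ Subgroup.normalizer ((S : Subgroup G) : Set G) := by
    rw [Subgroup.zpowers_le, Subgroup.mem_normalizer_iff]
    intro y
    constructor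
    · intro hy
      rw [hc y hy, mul_inv_cancel_right]
      exact hy
    · intro hy
      have h3 := hc _ hy
      have h4 : x * y * x⁻¹ = y := by
        have h5 : x * (x * y * x⁻¹) = x * y := by rw [h3]; group
        exact mul_left_cancel h5
      rwa [h4] at hy
  have h3 := h1.to_sup_of_normal_right' S.2 h2
  have h4 : Subgroup.zpowers x ⊔ (S : Subgroup G) = S := S.3 h3 le_sup_right
  have h5 : x ∈ Subgroup.zpowers x ⊔ (S : Subgroup G) := Subgroup.mem_sup_left (Subgroup.mem_zpowers x)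
  rw [h4] at h5
  exact h5

/-- **Normality of the Sylow subgroup.** -/
theorem normal_of (R N TC : Subgroup G) [R.Normal] (hRN : R ⊔ N = ⊤) (S : Sylow p G)
    (hST : ∀ y ∈ S, y ∈ TC) (hTC : ∀ x ∈ TC, ∀ y ∈ TC, x * y = y * x)
    (hN : ∀ n ∈ N, ∀ x ∈ TC, n * x * n⁻¹ ∈ TC) (hR : ∀ x ∈ R, ∀ y ∈ S, x * y = y * x) :
    (S : Subgroup G).Normal := by
  refine ⟨fun y hy c => ?_⟩
  obtain ⟨a, ha, b, hb, rfl⟩ := exists_mul R N hRN c
  have h1 : b * y * b⁻¹ ∈ S := by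
    have h2 := hN b hb y (hST y hy)
    refine mem_of_commute S ?_ fun z hz => hTC _ h2 z (hST z hz)
    obtain ⟨m, hm⟩ := S.2 ⟨y, hy⟩
    refine ⟨m, ?_⟩
    have h3 : y ^ p ^ m = 1 := congrArg Subtype.val hm
    rw [conj_pow, h3, mul_one, mul_inv_cancel]
  have h2 := hR a ha _ h1
  have h3 : a * b * y * (a * b)⁻¹ = b * y * b⁻¹ := by
    calc a * b * y * (a * b)⁻¹ = (a * (b * y * b⁻¹)) * a⁻¹ := by group
      _ = b * y * b⁻¹ := by rw [h2]; group
  rw [h3]
  exact h1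

/-- The elements of order a power of `r` are in the normal closure of a Sylow `r`-subgroup. -/
theorem mem_normalClosure {r : ℕ} [Fact r.Prime] (P : Sylow r G) {x : G} (hx : ∃ m, x ^ r ^ m = 1) :
    x ∈ Subgroup.normalClosure ((P : Subgroup G) : Set G) := by
  obtain ⟨m, hm⟩ := hx
  have h1 : IsPGroup r ↥(Subgroup.zpowers x) := by
    refine IsPGroup.of_card_dvd_pow (n := m) ?_
    rw [Nat.card_zpowers]
    exact orderOf_dvd_of_pow_eq_one hm
  obtain ⟨Q, hQ⟩ := h1.exists_le_sylow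
  obtain ⟨d, hd⟩ := MulAction.exists_smul_eq G P Q
  have h2 : x ∈ Q := hQ (Subgroup.mem_zpowers x)
  rw [← hd, Sylow.smul_def] at h2
  obtain ⟨z, hz, e⟩ := h2
  rw [← e]
  exact (Subgroup.normalClosure_normal).conj_mem z (Subgroup.subset_normalClosure hz) d

end Fin

end Cfsg.Agent.H123.ExcFin
end

-- part: H123/RankOneCount
section
/-!
# A counting lemma for groups like `SL₂(q)`, and products over cyclic orbits

* `card_dvd` : `A`, `B` subgroups with `A ∩ B = 1`, `B ≠ 1`, every `1 ≠ b ∈ B` of the form `a₁ n a₂` with `n` exchanging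
  `A` and `B` : `1 + |A|` divides `|⟨A, B⟩|`;
* `opHom` : `x ↦ x · τ(x) ⋯ τ^(m-1)(x)` is a homomorphism on a subgroup commuting with its images.
-/

set_option autoImplicit false

namespace Cfsg.Agent.H123.RankOneCount

open scoped Pointwise

variable {G : Type*} [Group G]

theorem mem_conj {g x : G} {K : Subgroup G} : x ∈ MulAut.conj g • K ↔ g⁻¹ * x * g ∈ K := by
  rw [← SetLike.mem_coe, Subgroup.coe_pointwise_smul, Set.mem_smul_set_iff_inv_smul_mem]
  rw [MulAut.smul_def, ← map_inv, MulAut.conj_apply, inv_inv]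
  rfl

/-- `n` exchanges `A` and `B` -/
def Swap (n : G) (A B : Subgroup G) : Prop := MulAut.conj n • A = B ∧ MulAut.conj n • B = A

section Swap

variable {n : G} {A B : Subgroup G} (hn : Swap n A B)

include hn

/-- `y ∈ A ↔ n⁻¹ y n ∈ B` -/
theorem Swap.mem_A {y : G} : y ∈ A ↔ n⁻¹ * y * n ∈ B := by
  rw [← mem_conj, hn.2]

/-- `y ∈ B ↔ n⁻¹ y n ∈ A` -/
theorem Swap.mem_B₀ {y : G} : y ∈ B ↔ n⁻¹ * y * n ∈ A := by
  rw [← mem_conj, hn.1]

theorem Swap.mem_B {y : G} : y ∈ B ↔ n * y * n⁻¹ ∈ A := by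
  rw [hn.mem_A]
  have : n⁻¹ * (n * y * n⁻¹) * n = y := by group
  rw [this]

theorem Swap.mem_A₀ {y : G} : y ∈ A ↔ n * y * n⁻¹ ∈ B := by
  rw [hn.mem_B₀]
  have : n⁻¹ * (n * y * n⁻¹) * n = y := by group
  rw [this]

end Swap

theorem conj_smul_of_mem {a : G} {A : Subgroup G} (ha : a ∈ A) : MulAut.conj a • A = A := by
  ext x
  rw [mem_conj]
  constructor
  · intro h
    have := A.mul_mem (A.mul_mem ha h) (A.inv_mem ha)
    have e : a * (a⁻¹ * x * a) * a⁻¹ = x := by group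
    rwa [e] at this
  · intro h
    exact A.mul_mem (A.mul_mem (A.inv_mem ha) h) ha

theorem card_dvd (A B : Subgroup G) [Finite ↥(A ⊔ B)] (hAB : A ⊓ B = ⊥) (hB : B ≠ ⊥)
    (hrel : ∀ b ∈ B, b ≠ 1 → ∃ a₁ ∈ A, ∃ a₂ ∈ A, ∃ n, Swap n A B ∧ b = a₁ * n * a₂) :
    1 + Nat.card A ∣ Nat.card ↥(A ⊔ B) := by
  have hfA : Finite A := Finite.of_injective (Subgroup.inclusion (le_sup_left : A ≤ A ⊔ B))
    (Subgroup.inclusion_injective _)
  obtain ⟨b₀, hb₀, hb₀1⟩ : ∃ b ∈ B, b ≠ 1 := by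
    by_contra hcon
    push Not at hcon
    exact hB ((Subgroup.eq_bot_iff_forall B).2 hcon)
  obtain ⟨a₁, ha₁, a₂, ha₂, n₀, hn₀, e₀⟩ := hrel b₀ hb₀ hb₀1
  have hn₀M : n₀ ∈ A ⊔ B := by
    have : n₀ = a₁⁻¹ * b₀ * a₂⁻¹ := by rw [e₀]; group
    rw [this]
    exact mul_mem (mul_mem (inv_mem (Subgroup.mem_sup_left ha₁)) (Subgroup.mem_sup_right hb₀))
      (inv_mem (Subgroup.mem_sup_left ha₂))
  -- the symmetric relation
  have hrel' : ∀ a ∈ A, a ≠ 1 → ∃ b₁ ∈ B, ∃ b₂ ∈ B, ∃ n, Swap n A B ∧ a = b₁ * n * b₂ := by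
    intro a ha ha1
    have h1 : n₀ * a * n₀⁻¹ ∈ B := by
      rw [← hn₀.1, mem_conj]
      have : n₀⁻¹ * (n₀ * a * n₀⁻¹) * n₀ = a := by group
      rwa [this]
    obtain ⟨c₁, hc₁, c₂, hc₂, n, hn, e⟩ := hrel _ h1 (by rwa [Ne, conj_eq_one_iff])
    have hm : ∀ c ∈ A, n₀⁻¹ * c * n₀ ∈ B := by
      intro c hc
      rw [← mem_conj, hn₀.2]
      exact hc
    refine ⟨_, hm c₁ hc₁, _, hm c₂ hc₂, n₀⁻¹ * n * n₀, ⟨?_, ?_⟩, ?_⟩
    · ext x
      have h2 : x ∈ B ↔ n₀ * x * n₀⁻¹ ∈ A := hn₀.mem_B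
      have h3 : n₀ * x * n₀⁻¹ ∈ A ↔ n⁻¹ * (n₀ * x * n₀⁻¹) * n ∈ B := hn.mem_A
      have h4 : n⁻¹ * (n₀ * x * n₀⁻¹) * n ∈ B ↔ n₀⁻¹ * (n⁻¹ * (n₀ * x * n₀⁻¹) * n) * n₀ ∈ A := hn₀.mem_B₀
      have : n₀⁻¹ * (n⁻¹ * (n₀ * x * n₀⁻¹) * n) * n₀ = (n₀⁻¹ * n * n₀)⁻¹ * x * (n₀⁻¹ * n * n₀) := by group
      rw [mem_conj, ← this, ← h4, ← h3, ← h2]
    · ext x
      have h2 : x ∈ A ↔ n₀ * x * n₀⁻¹ ∈ B := hn₀.mem_A₀
      have h3 : n₀ * x * n₀⁻¹ ∈ B ↔ n⁻¹ * (n₀ * x * n₀⁻¹) * n ∈ A := hn.mem_B₀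
      have h4 : n⁻¹ * (n₀ * x * n₀⁻¹) * n ∈ A ↔ n₀⁻¹ * (n⁻¹ * (n₀ * x * n₀⁻¹) * n) * n₀ ∈ B := hn₀.mem_A
      have : n₀⁻¹ * (n⁻¹ * (n₀ * x * n₀⁻¹) * n) * n₀ = (n₀⁻¹ * n * n₀)⁻¹ * x * (n₀⁻¹ * n * n₀) := by group
      rw [mem_conj, ← this, ← h4, ← h3, ← h2]
    · have : a = n₀⁻¹ * (n₀ * a * n₀⁻¹) * n₀ := by group
      rw [this, e]
      group
  have hne : A ≠ B := by
    intro h
    rw [h, inf_idem] at hAB
    exact hB hAB
  have hstab : ∀ a ∈ A, MulAut.conj a • B = B → a = 1 := by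
    intro a ha h
    by_contra ha1
    obtain ⟨b₁, hb₁, b₂, hb₂, n, hn, e⟩ := hrel' a ha ha1
    apply hne
    have h1 : MulAut.conj n • B = B := by
      have : n = b₁⁻¹ * a * b₂⁻¹ := by rw [e]; group
      rw [this, map_mul, map_mul, mul_smul, mul_smul, conj_smul_of_mem (inv_mem hb₂), h,
        conj_smul_of_mem (inv_mem hb₁)]
    rw [← h1, hn.2]
  -- the set of conjugates
  let Ω : Set (Subgroup G) := insert A (Set.range fun a : A => MulAut.conj (a : G) • B)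
  let _ : MulAction ↥(A ⊔ B) (Subgroup G) := MulAction.compHom (Subgroup G)
    ((MulAut.conj : G →* MulAut G).comp (A ⊔ B).subtype)
  have hsm : ∀ (g : ↥(A ⊔ B)) (K : Subgroup G), g • K = MulAut.conj (g : G) • K := fun _ _ => rfl
  have hclA : ∀ a ∈ A, ∀ K ∈ Ω, MulAut.conj a • K ∈ Ω := by
    intro a ha K hK
    rcases hK with rfl | ⟨a', rfl⟩
    · rw [conj_smul_of_mem ha]; exact Or.inl rfl
    · right
      refine ⟨⟨a, ha⟩ * a', ?_⟩
      show MulAut.conj (a * (a' : G)) • B = MulAut.conj a • MulAut.conj (a' : G) • B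
      rw [map_mul, mul_smul]
  have hbA : ∀ b ∈ B, MulAut.conj b • A ∈ Ω := by
    intro b hb
    by_cases hb1 : b = 1
    · rw [hb1, map_one, one_smul]; exact Or.inl rfl
    · obtain ⟨c₁, hc₁, c₂, hc₂, n, hn, e⟩ := hrel b hb hb1
      right
      refine ⟨⟨c₁, hc₁⟩, ?_⟩
      show MulAut.conj c₁ • B = MulAut.conj b • A
      rw [e, map_mul, map_mul, mul_smul, mul_smul, conj_smul_of_mem hc₂, hn.1]
  have hclB : ∀ b ∈ B, ∀ K ∈ Ω, MulAut.conj b • K ∈ Ω := by
    intro b hb K hK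
    rcases hK with rfl | ⟨a', rfl⟩
    · exact hbA b hb
    · show MulAut.conj b • MulAut.conj (a' : G) • B ∈ Ω
      by_cases ha1 : (a' : G) = 1
      · rw [ha1, map_one, one_smul, conj_smul_of_mem hb]
        right
        exact ⟨1, by show MulAut.conj ((1 : A) : G) • B = B; rw [Subgroup.coe_one, map_one, one_smul]⟩
      · obtain ⟨b₁, hb₁, b₂, hb₂, n, hn, e⟩ := hrel' a' a'.2 ha1
        rw [e, map_mul, map_mul, mul_smul, mul_smul, conj_smul_of_mem hb₂, hn.2, ← mul_smul, ← map_mul]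
        exact hbA _ (mul_mem hb hb₁)
  have hcl : ∀ g ∈ A ⊔ B, ∀ K ∈ Ω, MulAut.conj g • K ∈ Ω := by
    intro g hg
    rw [Subgroup.sup_eq_closure] at hg
    refine Subgroup.closure_induction (p := fun g _ => ∀ K ∈ Ω, MulAut.conj g • K ∈ Ω) ?_ ?_ ?_ ?_ hg
    · rintro g (hg | hg) K hK
      · exact hclA g hg K hK
      · exact hclB g hg K hK
    · intro K hK
      rw [map_one, one_smul]; exact hK
    · intro x y _ _ hx hy K hK
      rw [map_mul, mul_smul]
      exact hx _ (hy _ hK)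
    · intro x hxm hx K hK
      have hxM : x ∈ A ⊔ B := by rw [Subgroup.sup_eq_closure]; exact hxm
      have hk : x ^ Nat.card ↥(A ⊔ B) = 1 := by
        have := pow_card_eq_one' (x := (⟨x, hxM⟩ : ↥(A ⊔ B)))
        exact congrArg Subtype.val this
      have h0 : 0 < Nat.card ↥(A ⊔ B) := Nat.card_pos
      have hp : ∀ i : ℕ, ∀ K ∈ Ω, MulAut.conj (x ^ i) • K ∈ Ω := by
        intro i
        induction i with
        | zero => intro K hK; rw [pow_zero, map_one, one_smul]; exact hK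
        | succ i ih => intro K hK; rw [pow_succ, map_mul, mul_smul]; exact ih _ (hx _ hK)
      have e : x⁻¹ = x ^ (Nat.card ↥(A ⊔ B) - 1) := by
        rw [inv_eq_iff_mul_eq_one, ← pow_succ', Nat.sub_add_cancel h0, hk]
      rw [e]
      exact hp _ K hK
  have horb : MulAction.orbit ↥(A ⊔ B) A = Ω := by
    ext K
    constructor
    · rintro ⟨g, rfl⟩
      exact hcl g g.2 A (Or.inl rfl)
    · rintro (rfl | ⟨a, rfl⟩)
      · exact MulAction.mem_orbit_self _
      · refine ⟨⟨a * n₀, mul_mem (Subgroup.mem_sup_left a.2) hn₀M⟩, ?_⟩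
        show MulAut.conj ((a : G) * n₀) • A = MulAut.conj (a : G) • B
        rw [map_mul, mul_smul, hn₀.1]
  have hcard : Nat.card Ω = 1 + Nat.card A := by
    have hinj : Function.Injective fun a : A => MulAut.conj (a : G) • B := by
      intro a a' haa
      have h1 : MulAut.conj ((a : G)⁻¹ * a') • B = B := by
        rw [map_mul, mul_smul]
        have h2 : MulAut.conj (a : G) • B = MulAut.conj (a' : G) • B := haa
        rw [← h2, ← mul_smul, ← map_mul, inv_mul_cancel, map_one, one_smul]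
      have h2 := hstab _ (mul_mem (inv_mem a.2) a'.2) h1
      exact Subtype.ext (inv_mul_eq_one.1 h2)
    have hnot : A ∉ Set.range fun a : A => MulAut.conj (a : G) • B := by
      rintro ⟨a, ha⟩
      have h1 : MulAut.conj (a : G) • B = A := ha
      apply hne
      have h2 : MulAut.conj ((a : G)⁻¹) • A = A := conj_smul_of_mem (inv_mem a.2)
      have h3 : MulAut.conj ((a : G)⁻¹) • MulAut.conj (a : G) • B = B := by
        rw [← mul_smul, ← map_mul, inv_mul_cancel, map_one, one_smul]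
      rw [h1, h2] at h3
      exact h3
    have hfin : (Set.range fun a : A => MulAut.conj (a : G) • B).Finite := Set.finite_range _
    rw [Nat.card_coe_set_eq, Set.ncard_insert_of_notMem hnot hfin, ← Nat.card_coe_set_eq,
      Nat.card_range_of_injective hinj, add_comm]
  have h1 := Nat.card_congr (MulAction.orbitEquivQuotientStabilizer ↥(A ⊔ B) A)
  rw [horb, hcard] at h1
  rw [h1]
  exact Subgroup.card_quotient_dvd_card _

end Cfsg.Agent.H123.RankOneCount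
end

-- part: H123/ExcOrbit
section
/-!
# The rank one subgroups of a strongly orthogonal orbit (S2348, exceptional groups)

`τ` a frame automorphism (for `g`) of a directed union of root group data, `c` a positive root whose `g`-orbit is
strongly orthogonal, of period `m`. `AA τ m c` : the elements of `X c` fixed by `τ ^ m`; `op τ x m = x τ(x) ⋯`.

* `main` : if the finite group `K` contains the elements `op τ x m`, `x ∈ AA (± c)`, then `K` contains a representative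
  of an element `w` of the Weyl group with `w c = - c`, and `1 + |AA c|` divides `|K|`.
-/

set_option autoImplicit false
set_option linter.unusedSectionVars false

namespace Cfsg.Agent.H123.ExcOrbit

open CoxeterSystem Cfsg.Agent.ChevalleyStructure.CoxeterGeom Cfsg.Agent.Tits.Roots Cfsg.Agent.Tits.Core
  Cfsg.Agent.Tits.RootComb Cfsg.Agent.Tits.Exchange Cfsg.Agent.Nodes.Reps Cfsg.Agent.Nodes.BNOf
  Cfsg.Agent.Nodes.StabComb Cfsg.Agent.Nodes.Bruhat Cfsg.Agent.Nodes.OppDec Cfsg.Agent.Nodes.LeviDec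
  Cfsg.Agent.Nodes.NormalForm Cfsg.Agent.Nodes.SubComb Cfsg.Agent.Nodes.Coroot Cfsg.Agent.KFacts.RgdField
  Cfsg.Agent.BpExc.TorCent Cfsg.Agent.BpExc.Tow Cfsg.Agent.BpExc.Fr Cfsg.Agent.BpExc.NInst
  Cfsg.Agent.H123.ExcComb Cfsg.Agent.H123.RankOneCount
open scoped commutatorElement Pointwise

section Op

variable {Y : Type*} [Group Y] {τ : MulAut Y}

theorem commute_op {y z : Y} {m : ℕ} (h : ∀ i < m, Commute ((τ ^ i) y) z) : Commute (_root_.Cfsg.Agent.BpExc.NInst.op τ y m) z := by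
  induction m with
  | zero => exact Commute.one_left z
  | succ m ih =>
    rw [op_succ]
    exact (ih fun i hi => h i (by omega)).mul_left (h m (by omega))

theorem op_mul {L : Subgroup Y} {m : ℕ} (hc : ∀ i < m, ∀ j < m, i ≠ j → ∀ x ∈ L, ∀ y ∈ L,
    Commute ((τ ^ i) x) ((τ ^ j) y)) {x y : Y} (hx : x ∈ L) (hy : y ∈ L) :
    _root_.Cfsg.Agent.BpExc.NInst.op τ (x * y) m = _root_.Cfsg.Agent.BpExc.NInst.op τ x m * _root_.Cfsg.Agent.BpExc.NInst.op τ y m := by
  induction m with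
  | zero => exact (one_mul (1 : Y)).symm
  | succ m ih =>
    rw [op_succ, op_succ, op_succ, ih fun i hi j hj => hc i (by omega) j (by omega), map_mul]
    have h1 : Commute (_root_.Cfsg.Agent.BpExc.NInst.op τ y m) ((τ ^ m) x) :=
      commute_op fun i hi => hc i (by omega) m (by omega) (by omega) y hy x hx
    calc _root_.Cfsg.Agent.BpExc.NInst.op τ x m * _root_.Cfsg.Agent.BpExc.NInst.op τ y m * ((τ ^ m) x * (τ ^ m) y) = _root_.Cfsg.Agent.BpExc.NInst.op τ x m * (_root_.Cfsg.Agent.BpExc.NInst.op τ y m * (τ ^ m) x) * (τ ^ m) y := by group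
      _ = _root_.Cfsg.Agent.BpExc.NInst.op τ x m * ((τ ^ m) x * _root_.Cfsg.Agent.BpExc.NInst.op τ y m) * (τ ^ m) y := by rw [h1.eq]
      _ = _ := by group

/-- The homomorphism `x ↦ x τ(x) ⋯ τ^(m-1)(x)`. -/
def opHom (τ : MulAut Y) (L : Subgroup Y) (m : ℕ) (hc : ∀ i < m, ∀ j < m, i ≠ j → ∀ x ∈ L, ∀ y ∈ L,
    Commute ((τ ^ i) x) ((τ ^ j) y)) : ↥L →* Y where
  toFun x := _root_.Cfsg.Agent.BpExc.NInst.op τ x m
  map_one' := by
    have h1 := op_mul (τ := τ) hc (one_mem L) (one_mem L)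
    rw [mul_one, left_eq_mul] at h1
    exact h1
  map_mul' x y := op_mul hc x.2 y.2

theorem op_conj {m : ℕ} (hm : 0 < m) {y z : Y} (h : ∀ i, 0 < i → i < m → Commute ((τ ^ i) y) z) :
    _root_.Cfsg.Agent.BpExc.NInst.op τ y m * z * (_root_.Cfsg.Agent.BpExc.NInst.op τ y m)⁻¹ = y * z * y⁻¹ := by
  obtain ⟨m, rfl⟩ := Nat.exists_eq_succ_of_ne_zero hm.ne'
  rw [op_succ']
  have h1 : Commute (τ (_root_.Cfsg.Agent.BpExc.NInst.op τ y m)) z := by
    have h2 : ∀ k ≤ m, Commute (τ (_root_.Cfsg.Agent.BpExc.NInst.op τ y k)) z := by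
      intro k hk
      induction k with
      | zero =>
        have h0 : _root_.Cfsg.Agent.BpExc.NInst.op τ y 0 = 1 := rfl
        rw [h0, map_one]
        exact Commute.one_left z
      | succ k ih =>
        rw [op_succ, map_mul]
        refine (ih (by omega)).mul_left ?_
        have : τ ((τ ^ k) y) = (τ ^ (k + 1)) y := by rw [pow_succ']; rfl
        rw [this]
        exact h (k + 1) (by omega) (by omega)
    exact h2 m le_rfl
  calc y * τ (_root_.Cfsg.Agent.BpExc.NInst.op τ y m) * z * (y * τ (_root_.Cfsg.Agent.BpExc.NInst.op τ y m))⁻¹ = y * (τ (_root_.Cfsg.Agent.BpExc.NInst.op τ y m) * z * (τ (_root_.Cfsg.Agent.BpExc.NInst.op τ y m))⁻¹) * y⁻¹ := by group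
    _ = y * z * y⁻¹ := by rw [h1.eq]; group

end Op

variable {I W Y : Type*} [Fintype I] [DecidableEq I] [Group W] [Group Y] {M : CoxeterMatrix I}
  {cs : CoxeterSystem M W} {A : I → I → ℤ} {h : IsCartan M A} {p : ℕ}
  {J : Type*} [Preorder J] {T : J → Subgroup Y} {n : I → Y} {X : J → (I → ℤ) → Subgroup Y}
  (H : Tow cs h p T n X)

/-- the elements of the root group fixed by `τ ^ m` -/
def AA (X : J → (I → ℤ) → Subgroup Y) (τ : MulAut Y) (m : ℕ) (c : I → ℤ) : Subgroup Y where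
  carrier := {x | x ∈ XL X c ∧ (τ ^ m) x = x}
  one_mem' := ⟨one_mem _, map_one _⟩
  mul_mem' := by
    rintro a b ⟨h1, h2⟩ ⟨h3, h4⟩
    exact ⟨mul_mem h1 h3, by rw [map_mul, h2, h4]⟩
  inv_mem' := by
    rintro a ⟨h1, h2⟩
    exact ⟨inv_mem h1, by rw [map_inv, h2]⟩

theorem mem_AA {τ : MulAut Y} {m : ℕ} {c : I → ℤ} {x : Y} : x ∈ AA X τ m c ↔ x ∈ XL X c ∧ (τ ^ m) x = x := Iff.rfl

/-- the integral commutator relations -/
def Comm (cs : CoxeterSystem M W) (h : IsCartan M A) (X : J → (I → ℤ) → Subgroup Y) : Prop :=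
  ∀ a b, IsRoot cs h a → IsRoot cs h b → a ≠ b → a ≠ -b → ∀ x ∈ XL X a, ∀ y ∈ XL X b,
    ⁅x, y⁆ ∈ RGD.Sup (XL X) {z | IsRoot cs h z ∧ ∃ i j : ℕ, 0 < i ∧ 0 < j ∧ z = i • a + j • b}

theorem commute_XL [Finite W] (hZ : Comm cs h X) {x y : I → ℤ} (hx : IsRoot cs h x) (hy : IsRoot cs h y)
    (h0 : cpr cs h x y = 0) (hadd : ¬ IsRoot cs h (x + y)) {a b : Y} (ha : a ∈ XL X x) (hb : b ∈ XL X y) :
    Commute a b := by
  have hne : x ≠ y := by
    rintro rfl
    rw [cpr_self cs h hx] at h0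
    omega
  have hne' : x ≠ -y := by
    rintro rfl
    rw [cpr_self_neg hy] at h0
    omega
  have h0' : cpr cs h y x = 0 := (cpr_zero_comm cs h hx hy).1 h0
  have h1 := hZ x y hx hy hne hne' a ha b hb
  have h2 : RGD.Sup (XL X) {z | IsRoot cs h z ∧ ∃ i j : ℕ, 0 < i ∧ 0 < j ∧ z = i • x + j • y} = ⊥ := by
    rw [eq_bot_iff]
    refine RGD.Sup_le ?_
    rintro z ⟨hz, i, j, hi, hj, rfl⟩
    exfalso
    have e1 : cpr cs h (i • x + j • y) x = 2 * i := by
      rw [← natCast_zsmul, ← natCast_zsmul, cpr_add cs h _ _ hx, cpr_smul cs h _ _ hx, cpr_smul cs h _ _ hx,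
        cpr_self cs h hx, h0']
      ring
    have e2 : cpr cs h (i • x + j • y) y = 2 * j := by
      rw [← natCast_zsmul, ← natCast_zsmul, cpr_add cs h _ _ hy, cpr_smul cs h _ _ hy, cpr_smul cs h _ _ hy,
        cpr_self cs h hy, h0]
      ring
    have b1 := (abs_cpr_le hz hx).2
    have b2 := (abs_cpr_le hz hy).2
    rw [e1] at b1
    rw [e2] at b2
    have hi1 : i = 1 := by omega
    have hj1 : j = 1 := by omega
    rw [hi1, hj1, one_smul, one_smul] at hz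
    exact hadd hz
  rw [h2, Subgroup.mem_bot, commutatorElement_eq_one_iff_commute] at h1
  exact h1

/-- the group generated by two opposite root groups -/
def LL (X : J → (I → ℤ) → Subgroup Y) (c : I → ℤ) : Subgroup Y := XL X c ⊔ XL X (-c)

theorem commute_LL [Finite W] (hZ : Comm cs h X) {x y : I → ℤ} (hx : IsRoot cs h x) (hy : IsRoot cs h y)
    (h0 : cpr cs h x y = 0) (hadd : ¬ IsRoot cs h (x + y)) (hsub : ¬ IsRoot cs h (x - y)) {a b : Y}
    (ha : a ∈ LL X x) (hb : b ∈ LL X y) : Commute a b := by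
  have key : ∀ {x y : I → ℤ}, IsRoot cs h x → IsRoot cs h y → cpr cs h x y = 0 → ¬ IsRoot cs h (x + y) →
      ¬ IsRoot cs h (x - y) → ∀ {a : Y}, a ∈ XL X x → LL X y ≤ Subgroup.centralizer {a} := by
    intro x y hx hy h0 hadd hsub a ha
    refine sup_le ?_ ?_
    · intro b hb
      rw [Subgroup.mem_centralizer_singleton_iff]
      exact (commute_XL hZ hx hy h0 hadd ha hb).eq.symm
    · intro b hb
      rw [Subgroup.mem_centralizer_singleton_iff]
      refine (commute_XL hZ hx hy.neg (by rw [cpr_neg_right cs h x hy, h0, neg_zero]) ?_ ha hb).eq.symm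
      rw [← sub_eq_add_neg]; exact hsub
  have h1 : LL X x ≤ Subgroup.centralizer {b} := by
    refine sup_le ?_ ?_
    · intro a ha
      have := key hx hy h0 hadd hsub ha hb
      rw [Subgroup.mem_centralizer_singleton_iff] at this ⊢
      exact this.symm
    · intro a ha
      have := key hx.neg hy (by rw [cpr_neg cs h x hy, h0, neg_zero])
        (fun h2 => hsub (by have := h2.neg; rwa [neg_add, neg_neg, ← sub_eq_add_neg] at this))
        (fun h2 => hadd (by have := h2.neg; rwa [neg_sub, sub_neg_eq_add, add_comm] at this)) ha hb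
      rw [Subgroup.mem_centralizer_singleton_iff] at this ⊢
      exact this.symm
  have h2 := h1 ha
  rw [Subgroup.mem_centralizer_singleton_iff] at h2
  exact h2

theorem strong_pair [Finite W] {g : (I → ℤ) ≃+ (I → ℤ)} (hg : ∀ a, IsRoot cs h (g a) ↔ IsRoot cs h a)
    {c : I → ℤ} (hc : IsRoot cs h c) (hs : Strong cs h g c) {i j : ℕ} (hij : i < j)
    (hj : j < Function.minimalPeriod g c) : cpr cs h (g^[j] c) (g^[i] c) = 0 ∧
      ¬ IsRoot cs h (g^[j] c + g^[i] c) ∧ ¬ IsRoot cs h (g^[j] c - g^[i] c) := by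
  obtain ⟨h1, h2, h3⟩ := hs (j - i) (by omega) (by omega)
  have e : g^[j] c = g^[i] (g^[j - i] c) := by rw [← Function.iterate_add_apply]; congr 1; omega
  rw [e]
  refine ⟨by rw [cpr_iter hg ((iter_root hg _).2 hc) hc, h1], ?_, ?_⟩
  · rw [← ExcComb.iter_add, iter_root hg]; exact h2
  · rw [sub_eq_add_neg, ← iter_neg, ← ExcComb.iter_add, iter_root hg, ← sub_eq_add_neg]; exact h3

section Main

variable {τ : MulAut Y} {g : (I → ℤ) ≃+ (I → ℤ)} (F : Fr cs h (TL T) (XL X) τ g)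

include F

theorem pow_XL {c : I → ℤ} (hc : IsRoot cs h c) (i : ℕ) (x : Y) : (τ ^ i) x ∈ XL X (g^[i] c) ↔ x ∈ XL X c := by
  obtain ⟨g', F', hg'⟩ := F.pow i
  rw [← hg' c]
  exact F'.map c hc x

theorem pow_LL {c : I → ℤ} (hc : IsRoot cs h c) (i : ℕ) {x : Y} (hx : x ∈ LL X c) : (τ ^ i) x ∈ LL X (g^[i] c) := by
  have h1 : LL X c ≤ (LL X (g^[i] c)).comap (τ ^ i).toMonoidHom := by
    refine sup_le ?_ ?_
    · intro y hy
      exact Subgroup.mem_sup_left ((pow_XL F hc i y).2 hy)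
    · intro y hy
      refine Subgroup.mem_sup_right ?_
      rw [← iter_neg]
      exact (pow_XL F hc.neg i y).2 hy
  exact h1 hx

theorem commute_orbit [Finite W] (hZ : Comm cs h X) {c : I → ℤ} (hc : IsRoot cs h c) (hs : Strong cs h g c) :
    ∀ i < Function.minimalPeriod g c, ∀ j < Function.minimalPeriod g c, i ≠ j → ∀ x ∈ LL X c, ∀ y ∈ LL X c,
      Commute ((τ ^ i) x) ((τ ^ j) y) := by
  intro i hi j hj hij x hx y hy
  have hr : ∀ i, IsRoot cs h (g^[i] c) := fun i => (iter_root F.root i).2 hc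
  rcases Nat.lt_or_ge i j with h1 | h1
  · obtain ⟨h2, h3, h4⟩ := strong_pair F.root hc hs h1 hj
    exact (commute_LL hZ (hr j) (hr i) h2 h3 h4 (pow_LL F hc j hy) (pow_LL F hc i hx)).symm
  · obtain ⟨h2, h3, h4⟩ := strong_pair F.root hc hs (by omega : j < i) hi
    exact commute_LL hZ (hr i) (hr j) h2 h3 h4 (pow_LL F hc i hx) (pow_LL F hc j hy)

omit F in
include H in
/-- different root groups of the union meet trivially -/
theorem eq_of_mem_XL [Finite W] {a b : I → ℤ} (ha : IsRoot cs h a) (hb : IsRoot cs h b) {u : Y} (hu1 : u ≠ 1)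
    (hua : u ∈ XL X a) (hub : u ∈ XL X b) : a = b := by
  by_contra hne
  obtain ⟨i, hi⟩ := H.mem_XL.1 hua
  obtain ⟨j, hj⟩ := H.mem_XL.1 hub
  obtain ⟨k, h1, h2⟩ := H.dir i j
  have h3 : u ∈ X k a ⊓ X k b := ⟨H.monoX a h1 hi, H.monoX b h2 hj⟩
  rw [X_inf_X (H.rgd k) ha hb hne, Subgroup.mem_bot] at h3
  exact hu1 h3

omit F in
include H in
theorem exists_ne [Finite W] {a : I → ℤ} (ha : IsRoot cs h a) : ∃ u ∈ XL X a, u ≠ 1 := by
  obtain ⟨j⟩ := H.ne
  by_contra hcon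
  push Not at hcon
  exact X_ne_bot (H.rgd j) ha ((Subgroup.eq_bot_iff_forall _).2 fun u hu => hcon u (le_XL j a hu))

omit F in
include H in
theorem rep_eq [Finite W] {w : W} {k : Y} (hk : Rp cs H.nsys w k) {a b : I → ℤ} (ha : IsRoot cs h a)
    (hb : IsRoot cs h b) (hab : ∀ u ∈ XL X a, k * u * k⁻¹ ∈ XL X b) : rep cs h w a = b := by
  obtain ⟨u, hu, hu1⟩ := exists_ne H ha
  refine eq_of_mem_XL H (ha.act w) hb (u := k * u * k⁻¹) (by rwa [Ne, conj_eq_one_iff]) ?_ (hab u hu)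
  rw [← H.conj_rp hk ha]
  exact conj_mem_cj.2 hu

include H in
/-- `τ ^ i` maps representatives to representatives -/
theorem rp_pow (hrp : ∀ w k, Rp cs H.nsys w k → ∃ w', Rp cs H.nsys w' (τ k)) {w : W} {k : Y}
    (hk : Rp cs H.nsys w k) (i : ℕ) : ∃ w', Rp cs H.nsys w' ((τ ^ i) k) := by
  induction i with
  | zero => exact ⟨w, by rw [pow_zero]; exact hk⟩
  | succ i ih =>
    obtain ⟨w', hw'⟩ := ih
    rw [pow_succ']
    exact hrp _ _ hw'

include H in
/-- **The rank one relation for the fixed elements.** -/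
theorem rel [Finite W] (hrp : ∀ w k, Rp cs H.nsys w k → ∃ w', Rp cs H.nsys w' (τ k)) {c : I → ℤ}
    (hc : IsRoot cs h c) (h0 : 0 ≤ c) {m : ℕ} (hm : g^[m] c = c) {u : Y} (hu : u ∈ AA X τ m (-c)) (hu1 : u ≠ 1) :
    ∃ a ∈ AA X τ m c, ∃ b ∈ AA X τ m c, ∃ w k, Rp cs H.nsys w k ∧ (τ ^ m) k = k ∧ rep cs h w c = -c ∧
      rep cs h w (-c) = c ∧ u = a * k * b := by
  obtain ⟨hu, huf⟩ := mem_AA.1 hu
  obtain ⟨j, hj⟩ := H.mem_XL.1 hu
  obtain ⟨s, hs, a, ha, b, hb, k, hk, hkab⟩ := KFacts.RgdSL.exists_mu (H.rgd j) hc.neg hj hu1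
  rw [neg_neg] at ha hb
  have hsc : rep cs h s c = -c := by
    rw [hs, cpr_neg_right cs h c hc, cpr_self cs h hc]; module
  have hsc' : rep cs h s (-c) = c := by rw [map_neg, hsc, neg_neg]
  have hkL := H.rp_up hk
  have haL := le_XL (X := X) j c ha
  have hbL := le_XL (X := X) j c hb
  have hmap : ∀ x ∈ XL X c, (τ ^ m) x ∈ XL X c := fun x hx => by
    have := (pow_XL F hc m x).2 hx
    rwa [hm] at this
  have hmapn : ∀ x ∈ XL X (-c), (τ ^ m) x ∈ XL X (-c) := fun x hx => by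
    have := (pow_XL F hc.neg m x).2 hx
    rwa [iter_neg, hm] at this
  obtain ⟨w', hw'⟩ := rp_pow H F hrp hkL m
  have hw'c : rep cs h w' c = -c := by
    refine rep_eq H hw' hc hc.neg fun x hx => ?_
    -- `x = τ^m x'`
    obtain ⟨x', rfl⟩ := (τ ^ m).surjective x
    have hx' : x' ∈ XL X c := by
      have := hx
      rw [← hm, pow_XL F hc] at this
      exact this
    rw [← map_inv, ← map_mul, ← map_mul]
    refine hmapn _ ?_
    rw [← hsc, ← H.conj_rp hkL hc]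
    exact conj_mem_cj.2 hx'
  have hPos : ∀ x ∈ XL X c, x ∈ RGD.Sup (XL X) (RGD.Pos cs h) := fun x hx =>
    RGD.le_Sup (S := RGD.Pos cs h) (show c ∈ RGD.Pos cs h from ⟨hc, h0⟩) hx
  have hle : (-c : I → ℤ) ≤ 0 := neg_nonpos.2 h0
  have hNW : ∀ {w : W}, rep cs h w c = -c → ∀ x ∈ XL X c, x ∈ RGD.Sup (XL X) (NW cs h w) := fun {w} hw x hx =>
    RGD.le_Sup (S := NW cs h w) (show c ∈ NW cs h w from ⟨hc, h0, by rw [hw]; exact hle⟩) hx
  have e1 : u = a⁻¹ * k * b⁻¹ := by rw [hkab]; group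
  have e2 : a⁻¹ * k * b⁻¹ = (τ ^ m) a⁻¹ * (τ ^ m) k * (τ ^ m) b⁻¹ := by
    rw [← map_mul, ← map_mul, ← e1, huf]
  obtain ⟨-, e3, e4, e5⟩ := H.normal_form_unique (hPos _ (inv_mem haL)) (hPos _ (hmap _ (inv_mem haL))) hkL hw'
    (hNW hsc _ (inv_mem hbL)) (hNW hw'c _ (hmap _ (inv_mem hbL))) e2
  exact ⟨a⁻¹, mem_AA.2 ⟨inv_mem haL, e3.symm⟩, b⁻¹, mem_AA.2 ⟨inv_mem hbL, e5.symm⟩, s, k, hkL, e4.symm, hsc, hsc', e1⟩


omit F in
theorem map_op_mem {Q : Subgroup Y} {y : Y} {k : ℕ} (hQ : ∀ i, 0 < i → i ≤ k → (τ ^ i) y ∈ Q) : τ (_root_.Cfsg.Agent.BpExc.NInst.op τ y k) ∈ Q := by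
  induction k with
  | zero =>
    have h0 : _root_.Cfsg.Agent.BpExc.NInst.op τ y 0 = 1 := rfl
    rw [h0, map_one]
    exact one_mem _
  | succ k ih =>
    rw [op_succ, map_mul]
    refine mul_mem (ih fun i h1 h2 => hQ i h1 (by omega)) ?_
    have : τ ((τ ^ k) y) = (τ ^ (k + 1)) y := by rw [pow_succ']; rfl
    rw [this]
    exact hQ (k + 1) (by omega) le_rfl

include H in
/-- `x ↦ x τ(x) ⋯` is injective on the root group. -/
theorem op_inj [Finite W] {d : I → ℤ} (hd : IsRoot cs h d) (hs : Strong cs h g d)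
    (hsign : (∀ i, 0 ≤ g^[i] d) ∨ (∀ i, g^[i] d ≤ 0)) {y : Y} (hy : y ∈ XL X d)
    (h1 : _root_.Cfsg.Agent.BpExc.NInst.op τ y (Function.minimalPeriod g d) = 1) : y = 1 := by
  have hm : 0 < Function.minimalPeriod g d := period_pos F.root hd
  obtain ⟨m, hm'⟩ := Nat.exists_eq_succ_of_ne_zero hm.ne'
  rw [hm', op_succ'] at h1
  obtain ⟨v, i₀, hv⟩ := id hd
  obtain ⟨k, -, hk⟩ := H.exists_rp (rfl' cs v i₀)
  have hrep : ∀ x, rep cs h (rfl' cs v i₀) x = x - cpr cs h x d • d := by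
    intro x
    rw [rep_rfl'_eq, ← hv]
  have hr : ∀ i, IsRoot cs h (g^[i] d) := fun i => (iter_root F.root i).2 hd
  have e1 : k * y * k⁻¹ ∈ XL X (-d) := by
    have h2 : k * y * k⁻¹ ∈ XL X (rep cs h (rfl' cs v i₀) d) := by
      rw [← H.conj_rp hk hd]
      exact conj_mem_cj.2 hy
    rw [hrep, cpr_self cs h hd] at h2
    have h3 : d - (2 : ℤ) • d = -d := by rw [two_smul]; abel
    rwa [h3] at h2
  have e2 : ∀ i, 0 < i → i ≤ m → k * (τ ^ i) y * k⁻¹ ∈ XL X (g^[i] d) := by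
    intro i h2 h3
    have h4 : k * (τ ^ i) y * k⁻¹ ∈ XL X (rep cs h (rfl' cs v i₀) (g^[i] d)) := by
      rw [← H.conj_rp hk (hr i)]
      exact conj_mem_cj.2 ((pow_XL F hd i y).2 hy)
    rw [hrep, (hs i h2 (by omega)).1, zero_smul, sub_zero] at h4
    exact h4
  have key : ∀ Q : Subgroup Y, (∀ i, 0 < i → i ≤ m → k * (τ ^ i) y * k⁻¹ ∈ Q) → k * y * k⁻¹ ∈ Q := by
    intro Q hQ
    have h2 : τ (_root_.Cfsg.Agent.BpExc.NInst.op τ y m) ∈ Q.comap (MulAut.conj k).toMonoidHom := map_op_mem fun i h3 h4 => hQ i h3 h4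
    have h3 : k * τ (_root_.Cfsg.Agent.BpExc.NInst.op τ y m) * k⁻¹ ∈ Q := h2
    have h4 : k * y * k⁻¹ = (k * τ (_root_.Cfsg.Agent.BpExc.NInst.op τ y m) * k⁻¹)⁻¹ := by
      have h5 : y = (τ (_root_.Cfsg.Agent.BpExc.NInst.op τ y m))⁻¹ := eq_inv_of_mul_eq_one_left h1
      conv_lhs => rw [h5]
      group
    rw [h4]
    exact inv_mem h3
  have h5 : k * y * k⁻¹ = 1 := by
    rcases hsign with h0 | h0
    · refine BpExc.Orbit.eq_one_of_pos_neg H ?_ ?_
      · exact key _ fun i h2 h3 => RGD.le_Sup (S := RGD.Pos cs h) ⟨hr i, h0 i⟩ (e2 i h2 h3)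
      · exact RGD.le_Sup (S := _root_.Cfsg.Agent.Nodes.OppDec.Neg cs h) ⟨hd.neg, neg_nonpos.2 (h0 0)⟩ e1
    · refine BpExc.Orbit.eq_one_of_pos_neg H ?_ ?_
      · exact RGD.le_Sup (S := RGD.Pos cs h) ⟨hd.neg, neg_nonneg.2 (h0 0)⟩ e1
      · exact key _ fun i h2 h3 => RGD.le_Sup (S := _root_.Cfsg.Agent.Nodes.OppDec.Neg cs h) ⟨hr i, h0 i⟩ (e2 i h2 h3)
  exact conj_eq_one_iff.1 h5

omit F in
theorem rp_op {k : Y} (hpow : ∀ i, ∃ w', Rp cs H.nsys w' ((τ ^ i) k)) (m : ℕ) :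
    ∃ w', Rp cs H.nsys w' (_root_.Cfsg.Agent.BpExc.NInst.op τ k m) := by
  induction m with
  | zero => exact ⟨1, rp_one⟩
  | succ m ih =>
    obtain ⟨w', hw'⟩ := ih
    obtain ⟨w'', hw''⟩ := hpow m
    rw [op_succ]
    exact ⟨w' * w'', hw'.mul hw''⟩

theorem strong_neg [Finite W] {c : I → ℤ} (hc : IsRoot cs h c) (hs : Strong cs h g c) :
    Function.minimalPeriod g (-c) = Function.minimalPeriod g c ∧ Strong cs h g (-c) := by
  have h1 : ∀ x : I → ℤ, Function.minimalPeriod g (-x) = Function.minimalPeriod g x := by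
    have key : ∀ x : I → ℤ, ∀ n, Function.IsPeriodicPt g n x → Function.IsPeriodicPt g n (-x) := by
      intro x n hn
      have h2 : g^[n] x = x := hn
      show g^[n] (-x) = -x
      rw [iter_neg, h2]
    intro x
    apply Nat.dvd_antisymm
    · exact (key x _ (Function.isPeriodicPt_minimalPeriod _ _)).minimalPeriod_dvd
    · have h3 := (key (-x) _ (Function.isPeriodicPt_minimalPeriod g (-x)))
      rw [neg_neg] at h3
      exact h3.minimalPeriod_dvd
  refine ⟨h1 c, fun i h2 h3 => ?_⟩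
  rw [h1] at h3
  obtain ⟨h4, h5, h6⟩ := hs i h2 h3
  rw [iter_neg]
  refine ⟨?_, ?_, ?_⟩
  · rw [cpr_neg cs h _ hc.neg, cpr_neg_right cs h _ hc, h4]; rfl
  · intro h7
    apply h5
    have := h7.neg
    rwa [neg_add, neg_neg, neg_neg] at this
  · intro h7
    apply h6
    have := h7.neg
    rwa [neg_sub, neg_sub_neg] at this


omit F in
theorem AA_le_LL {m : ℕ} {c : I → ℤ} : AA X τ m c ≤ LL X c := fun _ h => Subgroup.mem_sup_left h.1

omit F in
theorem AA_neg_le_LL {m : ℕ} {c : I → ℤ} : AA X τ m (-c) ≤ LL X c := fun _ h => Subgroup.mem_sup_right h.1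

/-- The image of `AA`. -/
def OA (X : J → (I → ℤ) → Subgroup Y) (τ : MulAut Y) (m : ℕ) (L : Subgroup Y)
    (hc : ∀ i < m, ∀ j < m, i ≠ j → ∀ x ∈ L, ∀ y ∈ L, Commute ((τ ^ i) x) ((τ ^ j) y)) (d : I → ℤ) : Subgroup Y :=
  ((AA X τ m d).subgroupOf L).map (opHom τ L m hc)

omit F in
theorem mem_OA {m : ℕ} {L : Subgroup Y}
    {hc : ∀ i < m, ∀ j < m, i ≠ j → ∀ x ∈ L, ∀ y ∈ L, Commute ((τ ^ i) x) ((τ ^ j) y)} {d : I → ℤ}
    (hL : AA X τ m d ≤ L) {y : Y} : y ∈ OA X τ m L hc d ↔ ∃ x ∈ AA X τ m d, _root_.Cfsg.Agent.BpExc.NInst.op τ x m = y := by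
  constructor
  · rintro ⟨x, hx, rfl⟩
    exact ⟨x, hx, rfl⟩
  · rintro ⟨x, hx, rfl⟩
    exact ⟨⟨x, hL hx⟩, hx, rfl⟩

include H in
/-- **The rank one subgroup of a strongly orthogonal orbit.** -/
theorem main [Finite W] (hZ : Comm cs h X) (hrp : ∀ w k, Rp cs H.nsys w k → ∃ w', Rp cs H.nsys w' (τ k))
    {c : I → ℤ} (hc : IsRoot cs h c) (hs : Strong cs h g c) (hpos : ∀ i, 0 ≤ g^[i] c) {m : ℕ}
    (hm : m = Function.minimalPeriod g c) (hne : ∃ u ∈ AA X τ m (-c), u ≠ 1) (K : Subgroup Y) [Finite ↥K]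
    (hK : ∀ x ∈ AA X τ m c, _root_.Cfsg.Agent.BpExc.NInst.op τ x m ∈ K) (hK' : ∀ x ∈ AA X τ m (-c), _root_.Cfsg.Agent.BpExc.NInst.op τ x m ∈ K) :
    (∃ w n, Rp cs H.nsys w n ∧ n ∈ K ∧ rep cs h w c = -c) ∧ 1 + Nat.card ↥(AA X τ m c) ∣ Nat.card ↥K := by
  have hm0 : 0 < m := by rw [hm]; exact period_pos F.root hc
  have hgc : g^[m] c = c := by rw [hm]; exact Function.iterate_minimalPeriod
  have hcom := commute_orbit F hZ hc hs
  rw [← hm] at hcom
  obtain ⟨hmn, hsn⟩ := strong_neg F hc hs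
  have h0 : 0 ≤ c := hpos 0
  have hinj : ∀ y ∈ XL X c, _root_.Cfsg.Agent.BpExc.NInst.op τ y m = 1 → y = 1 := fun y hy h1 =>
    op_inj H F hc hs (Or.inl hpos) hy (by rw [← hm]; exact h1)
  have hinjn : ∀ y ∈ XL X (-c), _root_.Cfsg.Agent.BpExc.NInst.op τ y m = 1 → y = 1 := fun y hy h1 =>
    op_inj H F hc.neg hsn (Or.inr fun i => by rw [iter_neg]; exact neg_nonpos.2 (hpos i)) hy
      (by rw [hmn, ← hm]; exact h1)
  have hmul : ∀ {x y : Y}, x ∈ LL X c → y ∈ LL X c → _root_.Cfsg.Agent.BpExc.NInst.op τ (x * y) m = _root_.Cfsg.Agent.BpExc.NInst.op τ x m * _root_.Cfsg.Agent.BpExc.NInst.op τ y m := fun hx hy =>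
    op_mul hcom hx hy
  -- the exchanging elements
  have hswap : ∀ {w : W} {k : Y}, Rp cs H.nsys w k → (τ ^ m) k = k → rep cs h w c = -c → rep cs h w (-c) = c →
      (∀ x ∈ AA X τ m c, k * x * k⁻¹ ∈ AA X τ m (-c)) ∧ (∀ x ∈ AA X τ m (-c), k * x * k⁻¹ ∈ AA X τ m c) ∧
      (∀ x ∈ AA X τ m c, k⁻¹ * x * k ∈ AA X τ m (-c)) ∧ (∀ x ∈ AA X τ m (-c), k⁻¹ * x * k ∈ AA X τ m c) := by
    intro w k hk hkf hwc hwc'
    have e1 : cj k (XL X c) = XL X (-c) := by rw [H.conj_rp hk hc, hwc]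
    have e2 : cj k (XL X (-c)) = XL X c := by rw [H.conj_rp hk hc.neg, hwc']
    have hf : ∀ x, (τ ^ m) x = x → (τ ^ m) (k * x * k⁻¹) = k * x * k⁻¹ := fun x hx => by
      rw [map_mul, map_mul, map_inv, hkf, hx]
    have hf' : ∀ x, (τ ^ m) x = x → (τ ^ m) (k⁻¹ * x * k) = k⁻¹ * x * k := fun x hx => by
      rw [map_mul, map_mul, map_inv, hkf, hx]
    refine ⟨fun x hx => ⟨?_, hf x hx.2⟩, fun x hx => ⟨?_, hf x hx.2⟩, fun x hx => ⟨?_, hf' x hx.2⟩,
      fun x hx => ⟨?_, hf' x hx.2⟩⟩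
    · rw [← e1]; exact conj_mem_cj.2 hx.1
    · rw [← e2]; exact conj_mem_cj.2 hx.1
    · have h1 := hx.1; rw [← e2] at h1; exact mem_cj.1 h1
    · have h1 := hx.1; rw [← e1] at h1; exact mem_cj.1 h1
  have hrel : ∀ {u : Y}, u ∈ AA X τ m (-c) → u ≠ 1 → _ := fun {u} hu hu1 => rel H F hrp hc h0 hgc hu hu1
  have hkL : ∀ {u a b k : Y}, u ∈ AA X τ m (-c) → a ∈ AA X τ m c → b ∈ AA X τ m c → u = a * k * b → k ∈ LL X c := by
    intro u a b k hu ha hb e
    have e' : k = a⁻¹ * u * b⁻¹ := by rw [e]; group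
    rw [e']
    exact mul_mem (mul_mem (inv_mem (AA_le_LL ha)) (AA_neg_le_LL hu)) (inv_mem (AA_le_LL hb))
  constructor
  · obtain ⟨u, hu, hu1⟩ := hne
    obtain ⟨a, ha, b, hb, w, k, hk, hkf, hwc, hwc', e⟩ := hrel hu hu1
    have hkl := hkL hu ha hb e
    obtain ⟨w', hw'⟩ := rp_op H (τ := τ) (k := k) (fun i => rp_pow H F hrp hk i) m
    refine ⟨w', _root_.Cfsg.Agent.BpExc.NInst.op τ k m, hw', ?_, rep_eq H hw' hc hc.neg fun x hx => ?_⟩
    · have e1 : _root_.Cfsg.Agent.BpExc.NInst.op τ u m = _root_.Cfsg.Agent.BpExc.NInst.op τ a m * _root_.Cfsg.Agent.BpExc.NInst.op τ k m * _root_.Cfsg.Agent.BpExc.NInst.op τ b m := by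
        rw [e, hmul (mul_mem (AA_le_LL ha) hkl) (AA_le_LL hb), hmul (AA_le_LL ha) hkl]
      have e2 : _root_.Cfsg.Agent.BpExc.NInst.op τ k m = (_root_.Cfsg.Agent.BpExc.NInst.op τ a m)⁻¹ * _root_.Cfsg.Agent.BpExc.NInst.op τ u m * (_root_.Cfsg.Agent.BpExc.NInst.op τ b m)⁻¹ := by rw [e1]; group
      rw [e2]
      exact mul_mem (mul_mem (inv_mem (hK a ha)) (hK' u hu)) (inv_mem (hK b hb))
    · have e1 : _root_.Cfsg.Agent.BpExc.NInst.op τ k m * x * (_root_.Cfsg.Agent.BpExc.NInst.op τ k m)⁻¹ = k * x * k⁻¹ := op_conj hm0 fun i hi0 hi => by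
        have := hcom i hi 0 hm0 (by omega) k hkl x (Subgroup.mem_sup_left hx)
        rwa [pow_zero] at this
      rw [e1, ← hwc, ← H.conj_rp hk hc]
      exact conj_mem_cj.2 hx
  · set! A := OA X τ m (LL X c) hcom c with hA
    set! B := OA X τ m (LL X c) hcom (-c) with hB
    have hmA : ∀ {y : Y}, y ∈ A ↔ ∃ x ∈ AA X τ m c, _root_.Cfsg.Agent.BpExc.NInst.op τ x m = y := mem_OA AA_le_LL
    have hmB : ∀ {y : Y}, y ∈ B ↔ ∃ x ∈ AA X τ m (-c), _root_.Cfsg.Agent.BpExc.NInst.op τ x m = y := mem_OA AA_neg_le_LL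
    have hle : A ⊔ B ≤ K := by
      refine sup_le ?_ ?_
      · intro y hy
        obtain ⟨x, hx, rfl⟩ := hmA.1 hy
        exact hK x hx
      · intro y hy
        obtain ⟨x, hx, rfl⟩ := hmB.1 hy
        exact hK' x hx
    have hfin : Finite ↥(A ⊔ B) := Finite.of_injective (Subgroup.inclusion hle) (Subgroup.inclusion_injective _)
    have hAB : A ⊓ B = ⊥ := by
      rw [eq_bot_iff]
      rintro y ⟨hy1, hy2⟩
      obtain ⟨a, ha, rfl⟩ := hmA.1 hy1
      obtain ⟨b, hb, e⟩ := hmB.1 hy2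
      rw [Subgroup.mem_bot]
      have hr : ∀ i, IsRoot cs h (g^[i] c) := fun i => (iter_root F.root i).2 hc
      refine BpExc.Orbit.eq_one_of_pos_neg H ?_ ?_
      · exact op_mem fun j _ => RGD.le_Sup (S := RGD.Pos cs h) ⟨hr j, hpos j⟩ ((pow_XL F hc j a).2 ha.1)
      · rw [← e]
        refine op_mem fun j _ => RGD.le_Sup (S := _root_.Cfsg.Agent.Nodes.OppDec.Neg cs h) ⟨(hr j).neg, neg_nonpos.2 (hpos j)⟩ ?_
        rw [← iter_neg]
        exact (pow_XL F hc.neg j b).2 hb.1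
    have hBne : B ≠ ⊥ := by
      obtain ⟨u, hu, hu1⟩ := hne
      intro h1
      have h2 : _root_.Cfsg.Agent.BpExc.NInst.op τ u m ∈ B := hmB.2 ⟨u, hu, rfl⟩
      rw [h1, Subgroup.mem_bot] at h2
      exact hu1 (hinjn u hu.1 h2)
    have h1 := card_dvd A B hAB hBne (by
      intro y hy hy1
      obtain ⟨u, hu, rfl⟩ := hmB.1 hy
      have hu1 : u ≠ 1 := by
        rintro rfl
        apply hy1
        have := hmul (one_mem (LL X c)) (one_mem (LL X c))
        rw [mul_one, left_eq_mul] at this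
        exact this
      obtain ⟨a, ha, b, hb, w, k, hk, hkf, hwc, hwc', e⟩ := hrel hu hu1
      have hkl := hkL hu ha hb e
      obtain ⟨s1, s2, s3, s4⟩ := hswap hk hkf hwc hwc'
      have hinv : _root_.Cfsg.Agent.BpExc.NInst.op τ k⁻¹ m = (_root_.Cfsg.Agent.BpExc.NInst.op τ k m)⁻¹ := by
        rw [eq_inv_iff_mul_eq_one, ← hmul (inv_mem hkl) hkl, inv_mul_cancel]
        have := hmul (one_mem (LL X c)) (one_mem (LL X c))
        rw [mul_one, left_eq_mul] at this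
        exact this
      have hcj : ∀ x ∈ LL X c, _root_.Cfsg.Agent.BpExc.NInst.op τ k m * _root_.Cfsg.Agent.BpExc.NInst.op τ x m * (_root_.Cfsg.Agent.BpExc.NInst.op τ k m)⁻¹ = _root_.Cfsg.Agent.BpExc.NInst.op τ (k * x * k⁻¹) m := fun x hx => by
        rw [hmul (mul_mem hkl hx) (inv_mem hkl), hmul hkl hx, hinv]
      have hcj' : ∀ x ∈ LL X c, (_root_.Cfsg.Agent.BpExc.NInst.op τ k m)⁻¹ * _root_.Cfsg.Agent.BpExc.NInst.op τ x m * _root_.Cfsg.Agent.BpExc.NInst.op τ k m = _root_.Cfsg.Agent.BpExc.NInst.op τ (k⁻¹ * x * k) m := fun x hx => by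
        rw [hmul (mul_mem (inv_mem hkl) hx) hkl, hmul (inv_mem hkl) hx, hinv]
      refine ⟨_root_.Cfsg.Agent.BpExc.NInst.op τ a m, hmA.2 ⟨a, ha, rfl⟩, _root_.Cfsg.Agent.BpExc.NInst.op τ b m, hmA.2 ⟨b, hb, rfl⟩, _root_.Cfsg.Agent.BpExc.NInst.op τ k m, ⟨?_, ?_⟩, ?_⟩
      · ext y
        rw [RankOneCount.mem_conj]
        constructor
        · intro h2
          obtain ⟨x, hx, e1⟩ := hmA.1 h2
          refine hmB.2 ⟨k * x * k⁻¹, s1 x hx, ?_⟩
          rw [← hcj x (AA_le_LL hx), e1]; group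
        · intro h2
          obtain ⟨x, hx, rfl⟩ := hmB.1 h2
          refine hmA.2 ⟨k⁻¹ * x * k, s4 x hx, ?_⟩
          rw [hcj' x (AA_neg_le_LL hx)]
      · ext y
        rw [RankOneCount.mem_conj]
        constructor
        · intro h2
          obtain ⟨x, hx, e1⟩ := hmB.1 h2
          refine hmA.2 ⟨k * x * k⁻¹, s2 x hx, ?_⟩
          rw [← hcj x (AA_neg_le_LL hx), e1]; group
        · intro h2
          obtain ⟨x, hx, rfl⟩ := hmA.1 h2
          refine hmB.2 ⟨k⁻¹ * x * k, s3 x hx, ?_⟩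
          rw [hcj' x (AA_le_LL hx)]
      · rw [e, hmul (mul_mem (AA_le_LL ha) hkl) (AA_le_LL hb), hmul (AA_le_LL ha) hkl])
    have h2 : Nat.card ↥A = Nat.card ↥(AA X τ m c) := by
      let f : ↥(AA X τ m c) →* ↥A :=
        { toFun := fun x => ⟨_root_.Cfsg.Agent.BpExc.NInst.op τ x m, hmA.2 ⟨x, x.2, rfl⟩⟩
          map_one' := Subtype.ext (by
            have := hmul (one_mem (LL X c)) (one_mem (LL X c))
            rw [mul_one, left_eq_mul] at this
            exact this)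
          map_mul' := fun x y => Subtype.ext (hmul (AA_le_LL x.2) (AA_le_LL y.2)) }
      refine (Nat.card_congr (Equiv.ofBijective f ⟨?_, ?_⟩)).symm
      · rw [injective_iff_map_eq_one]
        intro x hx
        exact Subtype.ext (hinj x x.2.1 (congrArg Subtype.val hx))
      · rintro ⟨y, hy⟩
        obtain ⟨x, hx, rfl⟩ := hmA.1 hy
        exact ⟨⟨x, hx⟩, rfl⟩
    rw [h2] at h1
    exact h1.trans (Subgroup.card_dvd_of_le hle)

end Main

end Cfsg.Agent.H123.ExcOrbit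
end

-- part: H123/ExcRoot
section
/-!
# The root argument (S2348, exceptional groups)

`Y = D.group k`, `k` the algebraic closure of a finite field of characteristic `r`, `τ` a frame automorphism of Frobenius
type, `y ∈ T` fixed by `τ`, a `p`-element (`p` odd), `K` a finite `p'`-subgroup of `Y` normalised by `y` and containing
the `τ`-fixed points of the rank one subgroups of the `τ`-invariant closed set of roots `S`. Then `χ_a(y) = 1`, `a ∈ S`
(`main`).
-/

set_option autoImplicit false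
set_option linter.unusedSectionVars false

namespace Cfsg.Agent.H123.ExcRoot

open CoxeterSystem Cfsg Cfsg.Lie Cfsg.Lie.ChevalleyDatum
open Cfsg.Agent.ChevalleyStructure Cfsg.Agent.ChevalleyStructure.Elts Cfsg.Agent.ChevalleyStructure.CoxeterGeom
  Cfsg.Agent.ChevalleyStructure.CoxeterGeomTypes Cfsg.Agent.ChevalleyStructure.NPerm
open Cfsg.Agent.Tits.Roots Cfsg.Agent.Tits.Core Cfsg.Agent.Nodes Cfsg.Agent.Nodes.Reps Cfsg.Agent.Nodes.BNOf
  Cfsg.Agent.Nodes.RGDChev Cfsg.Agent.Nodes.Bruhat Cfsg.Agent.Nodes.NormalForm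
open Cfsg.Agent.KFacts.RgdField Cfsg.Agent.KFacts.RgdChevCoord
open Cfsg.Agent.BpExc Cfsg.Agent.BpExc.TorCent Cfsg.Agent.BpExc.TorChev Cfsg.Agent.BpExc.Tow
  Cfsg.Agent.BpExc.TowChev Cfsg.Agent.BpExc.Fr Cfsg.Agent.BpExc.Pair Cfsg.Agent.BpExc.LangFr Cfsg.Agent.GpExc.Field
  Cfsg.Agent.BpExc.NInst Cfsg.Agent.H123.ExcComb Cfsg.Agent.H123.ExcOrbit
open scoped commutatorElement

universe u

variable {D : ChevalleyDatum} {l : ℕ} {M : CoxeterMatrix (Fin l)} (hp : IsType D l M) {k : Type u} [Field k]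
  {W : Type*} [Group W] (cs : CoxeterSystem M W) {r e : ℕ} [Fact r.Prime] [CharP k r]

/-! ### counting -/

/-- `c s ^ Q = s` has `Q` solutions. -/
theorem card_sol [IsAlgClosed k] (he : 0 < e) {c : k} (hc : c ≠ 0) :
    Nat.card {s : k // c * s ^ r ^ e = s} = r ^ e := by
  classical
  have hr := (Fact.out : r.Prime)
  have h1 : 1 < r ^ e := Nat.one_lt_pow he.ne' hr.one_lt
  set! f : Polynomial k := Polynomial.C c * Polynomial.X ^ (r ^ e) - Polynomial.X with hf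
  have hder : f.derivative = -1 := by
    have h2 : ((r ^ e : ℕ) : k) = 0 := by
      rw [Nat.cast_pow, CharP.cast_eq_zero k r, zero_pow he.ne']
    rw [hf, Polynomial.derivative_sub, Polynomial.derivative_C_mul, Polynomial.derivative_X_pow, h2]
    simp
  have hsep : f.Separable := by
    show IsCoprime f f.derivative
    rw [hder]
    exact isCoprime_one_right.neg_right
  have hdeg : f.natDegree = r ^ e := by
    rw [hf]
    have h2 : (Polynomial.C c * Polynomial.X ^ (r ^ e) : Polynomial k).natDegree = r ^ e :=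
      Polynomial.natDegree_C_mul_X_pow _ _ hc
    rw [Polynomial.natDegree_sub_eq_left_of_natDegree_lt (by rw [h2, Polynomial.natDegree_X]; exact h1), h2]
  have hcard : f.roots.toFinset.card = r ^ e := by
    rw [Multiset.toFinset_card_of_nodup (Polynomial.nodup_roots hsep), ← hdeg]
    exact (Polynomial.splits_iff_card_roots.1 (IsAlgClosed.splits f))
  have hf0 : f ≠ 0 := by
    intro h2
    rw [h2, Polynomial.natDegree_zero] at hdeg
    omega
  have h3 : ∀ s, c * s ^ r ^ e = s ↔ s ∈ f.roots.toFinset := by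
    intro s
    rw [Multiset.mem_toFinset, Polynomial.mem_roots hf0, Polynomial.IsRoot.def, hf, Polynomial.eval_sub,
      Polynomial.eval_mul, Polynomial.eval_C, Polynomial.eval_pow, Polynomial.eval_X, sub_eq_zero]
  calc Nat.card {s : k // c * s ^ r ^ e = s} = Nat.card f.roots.toFinset :=
        Nat.card_congr (Equiv.subtypeEquivRight h3)
    _ = r ^ e := by rw [Nat.card_eq_fintype_card, Fintype.card_coe, hcard]

variable {τ : MulAut ↥(D.group k)} {g : (Fin l → ℤ) ≃+ (Fin l → ℤ)}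

include cs in
theorem card_AA [IsAlgClosed k] (hk : LocFin k) (he : 0 < e) (hσ : IsFrob r e τ)
    (F : Fr cs hp.isCartan (TT D k) (XX D l k) τ g) {c : Fin l → ℤ} (hc : IsRoot cs hp.isCartan c) {m : ℕ}
    (hm0 : 0 < m) (hm : g^[m] c = c) : Nat.card ↥(AA (Xj hp (k := k)) τ m c) = (r ^ e) ^ m := by
  obtain ⟨g', F', hg'⟩ := F.pow m
  have hσ' := hσ.pow m
  obtain ⟨c0, hc0, hcx⟩ := HX.fr_xc hp cs hσ' F' hc
  rw [hg', hm] at hcx
  have hmem : ∀ y, y ∈ AA (Xj hp (k := k)) τ m c ↔ ∃ s : {s : k // c0 * s ^ r ^ (m * e) = s}, xc hp c s.1 = y := by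
    intro y
    have C := coordsL (k := k) hp cs hk r
    rw [mem_AA, XL_eq hp hk]
    constructor
    · rintro ⟨h1, h2⟩
      obtain ⟨s, rfl⟩ := ((C.coord c hc).mem y).1 h1
      refine ⟨⟨s, ?_⟩, rfl⟩
      rw [hcx] at h2
      exact (C.coord c hc).inj h2
    · rintro ⟨s, rfl⟩
      refine ⟨((C.coord c hc).mem _).2 ⟨_, rfl⟩, ?_⟩
      rw [hcx, s.2]
  have C := coordsL (k := k) hp cs hk r
  rw [← pow_mul, mul_comm e m, ← card_sol (k := k) (r := r) (Nat.mul_pos hm0 he) hc0]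
  refine (Nat.card_congr (Equiv.ofBijective (fun s : {s : k // c0 * s ^ r ^ (m * e) = s} =>
    (⟨xc hp c s.1, (hmem _).2 ⟨s, rfl⟩⟩ : ↥(AA (Xj hp (k := k)) τ m c))) ⟨?_, ?_⟩)).symm
  · intro s s' h
    exact Subtype.ext ((C.coord c hc).inj (congrArg Subtype.val h))
  · rintro ⟨y, hy⟩
    obtain ⟨s, hs⟩ := (hmem y).1 hy
    exact ⟨s, Subtype.ext hs⟩

/-! ### the characters of fixed elements -/

include cs in
theorem fr_chi [IsAlgClosed k] (hk : LocFin k) (hσ : IsFrob r e τ)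
    (F : Fr cs hp.isCartan (TT D k) (XX D l k) τ g) {y : ↥(D.group k)} (hy : y ∈ TT D k) (hτy : τ y = y)
    {a : Fin l → ℤ} (ha : IsRoot cs hp.isCartan a) : ch hp (g a) y = ch hp a y ^ r ^ e := by
  have C := coordsL (k := k) hp cs hk r
  obtain ⟨c, hc, hcx⟩ := HX.fr_xc hp cs hσ F ha
  have hga := (F.root a).2 ha
  have h1 := congrArg τ ((C.coord a ha).act y hy 1)
  rw [map_mul, map_mul, map_inv, hτy, hcx, hcx, (C.coord _ hga).act y hy] at h1
  have h2 := (C.coord _ hga).inj h1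
  rw [one_pow, mul_one, mul_one, mul_comm] at h2
  exact mul_left_cancel₀ hc h2

include cs in
theorem iter_chi [IsAlgClosed k] (hk : LocFin k) (hσ : IsFrob r e τ)
    (F : Fr cs hp.isCartan (TT D k) (XX D l k) τ g) {y : ↥(D.group k)} (hy : y ∈ TT D k) (hτy : τ y = y)
    {a : Fin l → ℤ} (ha : IsRoot cs hp.isCartan a) (i : ℕ) : ch hp (g^[i] a) y = ch hp a y ^ (r ^ e) ^ i := by
  have := finite_W hp cs
  induction i with
  | zero => rw [pow_zero, pow_one]; rfl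
  | succ i ih =>
    rw [Function.iterate_succ_apply', fr_chi hp cs hk hσ F hy hτy ((iter_root F.root i).2 ha), ih, ← pow_mul, pow_succ]

/-- an element of order dividing `2` and a power of an odd prime -/
theorem eq_one_of_sq {x : k} {p m : ℕ} (hp2 : p.Coprime 2) (h1 : x ^ p ^ m = 1) (h2 : x ^ 2 = 1) : x = 1 := by
  have h3 : orderOf x ∣ p ^ m := orderOf_dvd_of_pow_eq_one h1
  have h4 : orderOf x ∣ 2 := orderOf_dvd_of_pow_eq_one h2
  exact orderOf_eq_one_iff.1 (Nat.eq_one_of_dvd_coprimes (hp2.pow_left m) h3 h4)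

theorem eq_one_of_coprime {x : k} {a b : ℕ} (hab : a.Coprime b) (h1 : x ^ a = 1) (h2 : x ^ b = 1) : x = 1 :=
  orderOf_eq_one_iff.1 (Nat.eq_one_of_dvd_coprimes hab (orderOf_dvd_of_pow_eq_one h1) (orderOf_dvd_of_pow_eq_one h2))

include cs in
theorem chi_one (hk : LocFin k) (r : ℕ) [Fact r.Prime] [CharP k r] {a : Fin l → ℤ} (ha : IsRoot cs hp.isCartan a) :
    ch hp a (1 : ↥(D.group k)) = 1 := by
  have C := coordsL (k := k) hp cs hk r
  have h1 := (C.coord a ha).chi_mul (one_mem (TT D k)) (one_mem _)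
  rw [mul_one] at h1
  exact (mul_eq_left₀ ((C.coord a ha).chi_ne_zero (one_mem _))).1 h1.symm

include cs in
theorem chi_pow (hk : LocFin k) (r : ℕ) [Fact r.Prime] [CharP k r] {a : Fin l → ℤ} (ha : IsRoot cs hp.isCartan a)
    {t : ↥(D.group k)} (ht : t ∈ TT D k) (m : ℕ) : ch hp a (t ^ m) = ch hp a t ^ m := by
  have C := coordsL (k := k) hp cs hk r
  induction m with
  | zero => rw [pow_zero, pow_zero, chi_one hp cs hk r ha]
  | succ m ih => rw [pow_succ, pow_succ, (C.coord a ha).chi_mul (pow_mem ht m) ht, ih]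

include cs in
theorem chi_inv (hk : LocFin k) (r : ℕ) [Fact r.Prime] [CharP k r] {a : Fin l → ℤ} (ha : IsRoot cs hp.isCartan a)
    {t : ↥(D.group k)} (ht : t ∈ TT D k) : ch hp a t⁻¹ = (ch hp a t)⁻¹ := by
  have C := coordsL (k := k) hp cs hk r
  have h1 := (C.coord a ha).chi_mul (inv_mem ht) ht
  rw [inv_mul_cancel, chi_one hp cs hk r ha] at h1
  exact eq_inv_of_mul_eq_one_left h1.symm

include cs in
/-- **A strongly orthogonal orbit.** -/
theorem strong_case [IsAlgClosed k] (hk : LocFin k) (he : 0 < e) (hσ : IsFrob r e τ)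
    (F : Fr cs hp.isCartan (TT D k) (XX D l k) τ g) {p m : ℕ} (hp2 : p.Coprime 2) {y : ↥(D.group k)}
    (hy : y ∈ TT D k) (hyp : y ^ p ^ m = 1) (K : Subgroup ↥(D.group k)) [Finite ↥K]
    (hKp : p.Coprime (Nat.card ↥K)) (hyK : ∀ n ∈ K, y * n * y⁻¹ ∈ K) {c : Fin l → ℤ}
    (hc : IsRoot cs hp.isCartan c) (hs : Strong cs hp.isCartan g c) (hpos : ∀ i, 0 ≤ g^[i] c)
    (hK : ∀ x ∈ AA (Xj hp (k := k)) τ (Function.minimalPeriod g c) c, _root_.Cfsg.Agent.BpExc.NInst.op τ x (Function.minimalPeriod g c) ∈ K)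
    (hK' : ∀ x ∈ AA (Xj hp (k := k)) τ (Function.minimalPeriod g c) (-c), _root_.Cfsg.Agent.BpExc.NInst.op τ x (Function.minimalPeriod g c) ∈ K) :
    ch hp c y = 1 ∧ 1 + (r ^ e) ^ Function.minimalPeriod g c ∣ Nat.card ↥K := by
  have := finite_W hp cs
  have H := tow (k := k) hp cs hk r
  have C := coordsL (k := k) hp cs hk r
  have hA := chAddL (k := k) hp cs hk r
  have hG := GG_eq_top (k := k) hp cs hk
  have hTL := TL_eq (k := k) hp hk
  have hXL := XL_eq (k := k) hp hk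
  have F' : Fr cs hp.isCartan (TL (Tj hp (k := k))) (XL (Xj hp (k := k))) τ g := by rw [hTL, hXL]; exact F
  have hsep : ∀ a, IsRoot cs hp.isCartan a → ∃ s ∈ TL (Tj hp (k := k)), ∀ u ∈ XL (Xj hp (k := k)) a,
      u * s = s * u → u = 1 := by
    rw [hTL, hXL]
    exact fun a ha => NChev.sep hp cs hk r ha
  have hZ : Comm cs hp.isCartan (Xj hp (k := k)) := by
    intro a b ha hb hab hab' x hx y hy
    rw [hXL] at hx hy ⊢
    exact CommZ.comm_mem_Z hp cs ha hb hab hab' hx hy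
  have hper := period_pos F.root hc
  have hgc : g^[Function.minimalPeriod g c] c = c := Function.iterate_minimalPeriod
  have hne : ∃ u ∈ AA (Xj hp (k := k)) τ (Function.minimalPeriod g c) (-c), u ≠ 1 := by
    obtain ⟨u, hu, hu1, huf⟩ := HX.exists_fixed hp cs he hσ F hc.neg
    refine ⟨u, mem_AA.2 ⟨by rw [hXL]; exact hu, huf _ ?_⟩, hu1⟩
    rw [iter_neg, hgc]
  obtain ⟨⟨w, n, hn, hnK, hwc⟩, hcard⟩ := ExcOrbit.main H F' hZ
    (fun w k hk => NChev.rp_fr H hG hsep F' hk) hc hs hpos rfl hne K hK hK'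
  rw [card_AA hp cs hk he hσ F hc hper hgc] at hcard
  refine ⟨?_, hcard⟩
  have C' : Coords cs hp.isCartan (TL (Tj hp (k := k))) (nc hp k) (XL (Xj hp (k := k))) (xc hp) (ch hp) := by
    rw [hTL, hXL]; exact C
  have hyL : y ∈ TL (Tj hp (k := k)) := by rw [hTL]; exact hy
  -- `n y n⁻¹ ∈ T`
  have hny : n * y * n⁻¹ ∈ TT D k := by
    rw [← hTL]
    exact ((Subgroup.mem_normalizer_iff.1 hn.mem_normalizer) y).1 hyL
  have h1 : ch hp (-c) (n * y * n⁻¹) = ch hp c y := by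
    rw [← hwc]
    exact C'.chi_rp H.nsys hn hc hyL
  obtain ⟨φ, h0, hadd, hφ⟩ := hA _ hny
  have h2 : ch hp (-c) (n * y * n⁻¹) = (ch hp c (n * y * n⁻¹))⁻¹ := by
    rw [hφ _ hc.neg, hφ _ hc]
    apply eq_inv_of_mul_eq_one_left
    rw [← hadd, neg_add_cancel, h0]
  have h3 : ch hp c (n * y * n⁻¹ * y⁻¹) = (ch hp c y ^ 2)⁻¹ := by
    rw [(C.coord c hc).chi_mul hny (inv_mem hy), chi_inv hp cs hk r hc hy]
    have h4 : ch hp c (n * y * n⁻¹) = (ch hp c y)⁻¹ := by rw [← h1, h2, inv_inv]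
    rw [h4, sq, mul_inv]
  have h4 : n * y * n⁻¹ * y⁻¹ ∈ K := by
    have e1 : n * y * n⁻¹ * y⁻¹ = n * (y * n⁻¹ * y⁻¹) := by group
    rw [e1]
    exact mul_mem hnK (hyK _ (inv_mem hnK))
  have h5 : (n * y * n⁻¹ * y⁻¹) ^ Nat.card ↥K = 1 := by
    have := pow_card_eq_one' (x := (⟨_, h4⟩ : ↥K))
    exact congrArg Subtype.val this
  have h6 : ((ch hp c y ^ 2)⁻¹) ^ Nat.card ↥K = 1 := by
    rw [← h3, ← chi_pow hp cs hk r hc (mul_mem hny (inv_mem hy)), h5, chi_one hp cs hk r hc]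
  have h7 : ch hp c y ^ p ^ m = 1 := by rw [← chi_pow hp cs hk r hc hy, hyp, chi_one hp cs hk r hc]
  have h8 : ((ch hp c y ^ 2)⁻¹) ^ p ^ m = 1 := by
    rw [inv_pow, ← pow_mul, mul_comm, pow_mul, h7, one_pow, inv_one]
  have h9 := eq_one_of_coprime (hKp.pow_left m) h8 h6
  exact eq_one_of_sq hp2 h7 (inv_eq_one.1 h9)

/-- the height is positive on positive roots -/
theorem fh_pos' [Finite W] {S : Set (Fin l → ℤ)} (hS : ∀ a ∈ S, IsRoot cs hp.isCartan a) (hgS : ∀ a ∈ S, g a ∈ S)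
    (hpos : ∀ a ∈ S, 0 ≤ a → 0 ≤ g a) {N : ℕ} (hN : 0 < N) {a : Fin l → ℤ} (ha : a ∈ S) (h0 : 0 ≤ a) :
    0 < fh g N a := by
  refine Finset.sum_pos (fun i _ => ?_) ⟨0, Finset.mem_range.2 hN⟩
  have := iter_S hgS hpos ha h0 i
  exact RGD.ht_pos (hS _ this.1) this.2

include cs in
/-- **The root argument.** -/
theorem main [IsAlgClosed k] (hk : LocFin k) (he : 0 < e) (hσ : IsFrob r e τ)
    (F : Fr cs hp.isCartan (TT D k) (XX D l k) τ g) {p m : ℕ} (hpp : p.Prime) (hp2 : p ≠ 2) {y : ↥(D.group k)}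
    (hy : y ∈ TT D k) (hτy : τ y = y) (hyp : y ^ p ^ m = 1) (K : Subgroup ↥(D.group k)) [Finite ↥K]
    (hKp : p.Coprime (Nat.card ↥K)) (hyK : ∀ n ∈ K, y * n * y⁻¹ ∈ K) {S : Set (Fin l → ℤ)}
    (hS : ∀ a ∈ S, IsRoot cs hp.isCartan a) (hneg : ∀ a ∈ S, -a ∈ S)
    (hadd : ∀ a ∈ S, ∀ b ∈ S, IsRoot cs hp.isCartan (a + b) → a + b ∈ S)
    (hgS : ∀ a ∈ S, g a ∈ S) (hpos : ∀ a ∈ S, 0 ≤ a → 0 ≤ g a)
    (hK : ∀ c ∈ S, Strong cs hp.isCartan g c → ∀ x ∈ AA (Xj hp (k := k)) τ (Function.minimalPeriod g c) c,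
      _root_.Cfsg.Agent.BpExc.NInst.op τ x (Function.minimalPeriod g c) ∈ K) : ∀ a ∈ S, ch hp a y = 1 := by
  have := finite_W hp cs
  have hp2' : p.Coprime 2 := (Nat.coprime_primes hpp Nat.prime_two).2 hp2
  have C := coordsL (k := k) hp cs hk r
  have hA := chAddL (k := k) hp cs hk r
  obtain ⟨φ, φ0, φadd, hφ⟩ := hA y hy
  have hneg1 : ∀ a, IsRoot cs hp.isCartan a → ch hp a y = 1 → ch hp (-a) y = 1 := by
    intro a ha h1
    have h2 := φadd a (-a)
    rw [add_neg_cancel, φ0, ← hφ a ha, h1, one_mul, ← hφ _ ha.neg] at h2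
    exact h2.symm
  have hst : ∀ c ∈ S, 0 ≤ c → Strong cs hp.isCartan g c →
      ch hp c y = 1 ∧ 1 + (r ^ e) ^ Function.minimalPeriod g c ∣ Nat.card ↥K := by
    intro c hc h0 hs
    have F' : Fr cs hp.isCartan (TL (Tj hp (k := k))) (XL (Xj hp (k := k))) τ g := by
      rw [TL_eq hp hk, XL_eq hp hk]; exact F
    obtain ⟨hm1, hs1⟩ := strong_neg F' (hS c hc) hs
    refine strong_case hp cs hk he hσ F hp2' hy hyp K hKp hyK (hS c hc) hs
      (fun i => (iter_S hgS hpos hc h0 i).2) (hK c hc hs) ?_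
    have h2 := hK (-c) (hneg c hc) hs1
    rwa [hm1] at h2
  -- the positive roots suffice
  suffices hmain : ∀ a ∈ S, 0 ≤ a → ch hp a y = 1 by
    intro a ha
    rcases (hS a ha).pos_or_neg with h0 | h0
    · exact hmain a ha h0
    · have h1 := hmain (-a) (hneg a ha) (neg_nonneg.2 h0)
      have h2 := hneg1 (-a) (hS a ha).neg h1
      rwa [neg_neg] at h2
  by_contra hcon
  push Not at hcon
  obtain ⟨N, hN, hNg⟩ := NInst.exists_period F
  obtain ⟨a₀, ha₀S, ha₀0, ha₀1⟩ := hcon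
  have hfin : {a | a ∈ S ∧ 0 ≤ a ∧ ch hp a y ≠ 1}.Finite :=
    (RGD.finite_roots (cs := cs) (h := hp.isCartan)).subset fun a ha => hS a ha.1
  obtain ⟨a, ⟨haS, ha0, ha1⟩, hmin⟩ := hfin.exists_minimalFor (fh g N) _ ⟨a₀, ha₀S, ha₀0, ha₀1⟩
  have hmin' : ∀ b ∈ S, 0 ≤ b → ch hp b y ≠ 1 → fh g N a ≤ fh g N b := by
    intro b hb hb0 hb1
    rcases le_total (fh g N a) (fh g N b) with h1 | h1
    · exact h1
    · exact hmin (show b ∈ {a | a ∈ S ∧ 0 ≤ a ∧ ch hp a y ≠ 1} from ⟨hb, hb0, hb1⟩) h1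
  have hit : ∀ i, g^[i] a ∈ S ∧ 0 ≤ g^[i] a ∧ fh g N (g^[i] a) = fh g N a ∧ ch hp (g^[i] a) y ≠ 1 := by
    intro i
    obtain ⟨h1, h2⟩ := iter_S hgS hpos haS ha0 i
    refine ⟨h1, h2, ?_, ?_⟩
    · clear h1 h2
      induction i with
      | zero => rfl
      | succ i ih =>
        rw [Function.iterate_succ_apply', fh_g (hNg _ (hS _ (iter_S hgS hpos haS ha0 i).1)), ih]
    · rw [iter_chi hp cs hk hσ F hy hτy (hS a haS)]
      intro h3
      apply ha1
      have h4 : (ch hp a y) ^ (r ^ e) ^ i = 1 ^ (r ^ e) ^ i := by rw [h3, one_pow]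
      rw [← pow_mul] at h4
      exact iterateFrobenius_inj k r (e * i) h4
  have hInd : ∀ i, Ind S (g^[i] a) := by
    intro i
    obtain ⟨h1, h2, h3, h4⟩ := hit i
    refine ⟨h1, h2, fun b hb c hc hb0 hc0 hbc => ?_⟩
    have h5 : fh g N (b + c) = fh g N b + fh g N c := by
      have := fh_comb (g := g) N 1 1 b c
      rw [one_smul, one_smul, Nat.cast_one, one_mul, one_mul] at this
      exact this
    have hb' := fh_pos' hp cs hS hgS hpos hN hb hb0
    have hc' := fh_pos' hp cs hS hgS hpos hN hc hc0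
    rw [← hbc, h3] at h5
    have hb1 : ch hp b y = 1 := by
      by_contra hb1
      have := hmin' b hb hb0 hb1
      omega
    have hc1 : ch hp c y = 1 := by
      by_contra hc1
      have := hmin' c hc hc0 hc1
      omega
    apply h4
    rw [hbc, hφ (b + c) (by rw [← hbc]; exact hS _ h1), φadd, ← hφ b (hS b hb), ← hφ c (hS c hc), hb1, hc1, one_mul]
  rcases dichotomy F.root hS hneg hadd hgS hpos hInd with h1 | ⟨j, hj0, hm2, hcS, hc0, hminp, hstr⟩
  · exact ha1 (hst a haS ha0 h1).1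
  · obtain ⟨h1, h2⟩ := hst _ hcS hc0 hstr
    rw [hminp] at h2
    have h3 : ch hp a y ^ (1 + (r ^ e) ^ j) = 1 := by
      rw [pow_add, pow_one, ← iter_chi hp cs hk hσ F hy hτy (hS a haS), ← h1, hφ _ (hS _ hcS), φadd,
        ← hφ a (hS a haS), ← hφ _ (hS _ (hit j).1)]
    have h4 : ch hp a y ^ p ^ m = 1 := by
      rw [← chi_pow hp cs hk r (hS a haS) hy, hyp, chi_one hp cs hk r (hS a haS)]
    have h5 : p.Coprime (1 + (r ^ e) ^ j) := hKp.coprime_dvd_right h2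
    exact ha1 (eq_one_of_coprime (h5.pow_left m) h4 h3)

end Cfsg.Agent.H123.ExcRoot
end

-- part: H123/ExcMain
section
/-!
# Centralisers of toral `p`-elements with a normal `p`-complement (S2348, S5304, exceptional groups)

`Y = D.group k`, `k` the algebraic closure of a finite field of characteristic `r`, `σ` a frame automorphism of Frobenius
type, `x : ι → Y` a finite family of `p`-elements fixed by `σ`, simultaneously conjugate into the torus, `p ≠ 2, r`,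
`C = C_Y(x)^σ` finite with a normal `p'`-subgroup containing the `r`-elements. If `S` is a Sylow `p`-subgroup of `C`
conjugate into the torus with `x`, then `S` is normal in `C` and centralised by the root groups centralising `x`.
-/

set_option autoImplicit false
set_option linter.unusedSectionVars false

namespace Cfsg.Agent.H123.ExcMain

open CoxeterSystem Cfsg Cfsg.Lie Cfsg.Lie.ChevalleyDatum
open Cfsg.Agent.ChevalleyStructure Cfsg.Agent.ChevalleyStructure.Elts Cfsg.Agent.ChevalleyStructure.CoxeterGeom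
  Cfsg.Agent.ChevalleyStructure.CoxeterGeomTypes Cfsg.Agent.ChevalleyStructure.NPerm
open Cfsg.Agent.Tits.Roots Cfsg.Agent.Tits.Core Cfsg.Agent.Nodes Cfsg.Agent.Nodes.Reps Cfsg.Agent.Nodes.BNOf
  Cfsg.Agent.Nodes.RGDChev Cfsg.Agent.Nodes.Bruhat Cfsg.Agent.Nodes.NormalForm
open Cfsg.Agent.KFacts.RgdField Cfsg.Agent.KFacts.RgdChevCoord
open Cfsg.Agent.BpExc Cfsg.Agent.BpExc.TorCent Cfsg.Agent.BpExc.TorChev Cfsg.Agent.BpExc.Tow
  Cfsg.Agent.BpExc.TowChev Cfsg.Agent.BpExc.Fr Cfsg.Agent.BpExc.LangFr Cfsg.Agent.GpExc.Field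
  Cfsg.Agent.BpExc.NSol
  Cfsg.Agent.BpExc.NInst Cfsg.Agent.H123.ExcComb Cfsg.Agent.H123.ExcOrbit Cfsg.Agent.H123.ExcZ Cfsg.Agent.H123.ExcFin
open scoped commutatorElement Pointwise

universe u

variable {D : ChevalleyDatum} {l : ℕ} {M : CoxeterMatrix (Fin l)} (hp : IsType D l M) {k : Type u} [Field k]
  {W : Type*} [Group W] (cs : CoxeterSystem M W) {r e : ℕ} [Fact r.Prime] [CharP k r]
  {τ : MulAut ↥(D.group k)} {g : (Fin l → ℤ) ≃+ (Fin l → ℤ)} {ι : Type*}

/-- The data at a finite level. -/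
theorem exists_datZ [IsAlgClosed k] (hk : LocFin k) (he : 0 < e) (hτ : IsFrob r e τ)
    (F : Fr cs hp.isCartan (TT D k) (XX D l k) τ g) [Finite ι] {t : ι → ↥(D.group k)} (ht : ∀ i, t i ∈ TT D k)
    (hτt : ∀ i, τ (t i) = t i) (hpos : ∀ a ∈ SZ cs hp.isCartan (ch hp) t, 0 ≤ a → 0 ≤ g a) [Finite ↥(fixZ τ t)] :
    ∃ E : Lev k, DatZ ((tow (k := k) hp cs hk r).rgd E) t (SZ cs hp.isCartan (ch hp) t) τ g := by
  have := finite_W hp cs
  have H := tow (k := k) hp cs hk r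
  have C := coordsL (k := k) hp cs hk r
  have hA := chAddL (k := k) hp cs hk r
  have hG := GG_eq_top (k := k) hp cs hk
  have hTL := TL_eq (k := k) hp hk
  have hXL := XL_eq (k := k) hp hk
  have C' : Coords cs hp.isCartan (TL (Tj hp (k := k))) (nc hp k) (XL (Xj hp (k := k))) (xc hp) (ch hp) := by
    rw [hTL, hXL]; exact C
  have hA' : ChAdd cs hp.isCartan (TL (Tj hp (k := k))) (ch (K := k) hp) := by rw [hTL]; exact hA
  have F' : Fr cs hp.isCartan (TL (Tj hp (k := k))) (XL (Xj hp (k := k))) τ g := by rw [hTL, hXL]; exact F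
  have htL : ∀ i, t i ∈ TL (Tj hp (k := k)) := by rw [hTL]; exact ht
  have hsep : ∀ a, IsRoot cs hp.isCartan a → ∃ s ∈ TL (Tj hp (k := k)), ∀ u ∈ XL (Xj hp (k := k)) a,
      u * s = s * u → u = 1 := by
    rw [hTL, hXL]
    exact fun a ha => NChev.sep hp cs hk r ha
  -- the level
  obtain ⟨E1, hE1⟩ := HX.fr_level hp cs hk hτ F
  obtain ⟨E2, hE2⟩ := HX.exists_fixed_level hp cs hk he hτ F
  obtain ⟨E3, hE3⟩ := H.exists_level (S := fun j => (Tj hp j : Set ↥(D.group k))) (fun _ _ hab => H.monoT hab)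
    (f := t) (fun i => H.mem_TL.1 (htL i))
  obtain ⟨E4, hE4⟩ := exists_level_finite hp hk (S := (fixZ τ t : Set ↥(D.group k))) (Set.toFinite _)
  obtain ⟨E5, a1, a2⟩ := dir_lev hk E1 E2
  obtain ⟨E6, a3, a4⟩ := dir_lev hk E3 E4
  obtain ⟨E, b1, b2⟩ := dir_lev hk E5 E6
  have FE := hE1 E (a1.trans b1)
  have hT : Tj hp E ≤ TT D k := by rw [← hTL]; exact le_TL E
  refine ⟨E, ?_⟩
  exact
    { mem := fun i => H.monoT (a3.trans b2) (hE3 i)
      root := fun a ha => ha.1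
      neg := fun a ha => SZ_neg C' hA' htL ha
      cent := fun a ha => (le_XL E a).trans (X_le_cent C' htL ha)
      of_cent := fun a ha u hu hu1 hc => mem_SZ_of_cent C' htL ha (le_XL E a hu) hu1 hc
      fr := FE
      fix := hτt
      pos := hpos
      rp := fun w kk hkk => by
        obtain ⟨w', hw'⟩ := NChev.rp_fr H hG hsep F' (H.rp_up hkk)
        obtain ⟨k0, h0, h0'⟩ := H.exists_rp w'
        have h1 : k0⁻¹ * τ kk ∈ TT D k := by
          rw [← hTL]
          exact h0'.unique hw'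
        have h2 : k0⁻¹ * τ kk ∈ (emb hp.inList E.1.subtype).range := by
          rw [← GGj_eq hp cs]
          refine mul_mem (inv_mem ?_) (NChev.fr_GG FE ?_)
          · exact (mem_GG (H.rgd E)).2 ⟨w', cell_of_rp (h0 E)⟩
          · exact (mem_GG (H.rgd E)).2 ⟨w, cell_of_rp hkk⟩
        have h3 : k0⁻¹ * τ kk ∈ Tj hp E := (HX.mem_Tj hp cs hk r).2 ⟨h1, h2⟩
        have e : τ kk = k0 * (k0⁻¹ * τ kk) := by group
        exact ⟨w', by rw [e]; exact (h0 E).mul_mem_right h3⟩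
      comm := fun x hx y hy hxy hxy' a ha b hb => by
        have h1 := CommZ.comm_mem_Zj hp cs E hx.1 hy.1 hxy hxy' ha hb
        refine RGD.Sup_mono (S := CommZ.combZ cs hp x y) ?_ h1
        rintro z ⟨hz, i, j, hi, hj, e⟩
        refine ⟨⟨hz, fun i' => ?_⟩, i, j, hi, hj, e⟩
        obtain ⟨φ, h0, hadd, hφ⟩ := hA _ (ht i')
        have hn : ∀ (i : ℕ) (x : Fin l → ℤ), φ (i • x) = φ x ^ i := by
          intro i x
          induction i with
          | zero => rw [zero_smul, pow_zero, h0]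
          | succ i ih => rw [succ_nsmul, hadd, ih, pow_succ]
        rw [hφ z hz, e, hadd, hn, hn, ← hφ x hx.1, ← hφ y hy.1, hx.2, hy.2, one_pow, one_pow, one_mul]
      fixed := fun a ha => hE2 E (a2.trans b1) a ha.1
      le := fun y hy => by
        rw [GGj_eq hp cs]
        exact hE4 E (a4.trans b2) hy }

/-- `x τ(x) ⋯` is fixed by `τ`, centralises `t`, and is an `r`-element. -/
theorem op_props [IsAlgClosed k] (hk : LocFin k) (F : Fr cs hp.isCartan (TT D k) (XX D l k) τ g)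
    {t : ι → ↥(D.group k)} (ht : ∀ i, t i ∈ TT D k) (hτt : ∀ i, τ (t i) = t i) {c : Fin l → ℤ}
    (hc : c ∈ SZ cs hp.isCartan (ch hp) t) (hs : Strong cs hp.isCartan g c) {x : ↥(D.group k)}
    (hx : x ∈ AA (Xj hp (k := k)) τ (Function.minimalPeriod g c) c) :
    _root_.Cfsg.Agent.BpExc.NInst.op τ x (Function.minimalPeriod g c) ∈ fixZ τ t ∧ _root_.Cfsg.Agent.BpExc.NInst.op τ x (Function.minimalPeriod g c) ^ r = 1 := by
  have := finite_W hp cs
  have C := coordsL (k := k) hp cs hk r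
  have hTL := TL_eq (k := k) hp hk
  have hXL := XL_eq (k := k) hp hk
  have C' : Coords cs hp.isCartan (TL (Tj hp (k := k))) (nc hp k) (XL (Xj hp (k := k))) (xc hp) (ch hp) := by
    rw [hTL, hXL]; exact C
  have F' : Fr cs hp.isCartan (TL (Tj hp (k := k))) (XL (Xj hp (k := k))) τ g := by rw [hTL, hXL]; exact F
  have htL : ∀ i, t i ∈ TL (Tj hp (k := k)) := by rw [hTL]; exact ht
  have hZ : Comm cs hp.isCartan (Xj hp (k := k)) := by
    intro a b ha hb hab hab' x hx y hy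
    rw [hXL] at hx hy ⊢
    exact CommZ.comm_mem_Z hp cs ha hb hab hab' hx hy
  obtain ⟨hx1, hx2⟩ := mem_AA.1 hx
  have hper := period_pos F.root hc.1
  have hcom := commute_orbit F' hZ hc.1 hs
  have hxl : x ∈ LL (Xj hp (k := k)) c := Subgroup.mem_sup_left hx1
  have hcom' : ∀ i < Function.minimalPeriod g c, Commute x ((τ ^ i) x) := by
    intro i hi
    rcases Nat.eq_zero_or_pos i with rfl | hi0
    · exact Commute.refl x
    · have := hcom 0 hper i hi hi0.ne x hxl x hxl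
      rwa [pow_zero] at this
  refine ⟨mem_fixZ.2 ⟨op_fixed hx2 hcom' hper, ?_⟩, ?_⟩
  · refine mem_cent.1 (op_mem fun j _ => ?_)
    have h1 : g^[j] c ∈ SZ cs hp.isCartan (ch hp) t := by
      induction j with
      | zero => exact hc
      | succ j ih =>
        rw [Function.iterate_succ_apply']
        exact (Fr_mem_SZ C' F' htL hτt _).2 (ih (by omega))
    exact X_le_cent C' htL h1 ((pow_XL F' hc.1 j x).2 hx1)
  · have h1 : ∀ m, _root_.Cfsg.Agent.BpExc.NInst.op τ (x ^ m) (Function.minimalPeriod g c) = _root_.Cfsg.Agent.BpExc.NInst.op τ x (Function.minimalPeriod g c) ^ m := by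
      intro m
      have h0 : _root_.Cfsg.Agent.BpExc.NInst.op τ (1 : ↥(D.group k)) (Function.minimalPeriod g c) = 1 := by
        have := op_mul hcom (one_mem (LL (Xj hp (k := k)) c)) (one_mem (LL (Xj hp (k := k)) c))
        rw [mul_one, left_eq_mul] at this
        exact this
      induction m with
      | zero => rw [pow_zero, pow_zero, h0]
      | succ m ih => rw [pow_succ, pow_succ, op_mul hcom (pow_mem hxl m) hxl, ih]
    rw [← h1]
    rw [hXL] at hx1
    obtain ⟨s, rfl⟩ := ((C.coord c hc.1).mem x).1 hx1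
    have h2 : ∀ m : ℕ, xc hp c s ^ m = xc hp c ((m : k) * s) := by
      intro m
      induction m with
      | zero => rw [pow_zero, Nat.cast_zero, zero_mul, (C.coord c hc.1).zero]
      | succ m ih => rw [pow_succ, ih, ← (C.coord c hc.1).add]; congr 1; push_cast; ring
    rw [h2, CharP.cast_eq_zero, zero_mul, (C.coord c hc.1).zero]
    have := op_mul hcom (one_mem (LL (Xj hp (k := k)) c)) (one_mem (LL (Xj hp (k := k)) c))
    rw [mul_one, left_eq_mul] at this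
    exact this

/-- The setting: the simple facts on `D.group k` used below. -/
theorem coordsL' (hk : LocFin k) (r : ℕ) [Fact r.Prime] [CharP k r] : Coords cs hp.isCartan (TL (Tj hp (k := k))) (nc hp k) (XL (Xj hp (k := k)))
    (xc hp) (ch hp) := by
  rw [TL_eq (k := k) hp hk, XL_eq (k := k) hp hk]; exact coordsL (k := k) hp cs hk r

/-- `|Np ∩ C|` is prime to `r`. -/
theorem coprime_aux [IsAlgClosed k] (hk : LocFin k) [Finite ι] {t : ι → ↥(D.group k)} (ht : ∀ i, t i ∈ TT D k)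
    [Finite ↥(fixZ τ t)] {p : ℕ} [Fact p.Prime] (hpr : p ≠ r) (htp : ∀ i, ∃ m, t i ^ p ^ m = 1) (E : Lev k)
    (N : Subgroup ↥(D.group k)) (hN : ∀ y ∈ N, y ∈ fixZ τ t ∧ y ∈ NG ((tow (k := k) hp cs hk r).rgd E))
    (hpos : ∀ y ∈ N, ∀ w, Rp cs (tow (k := k) hp cs hk r).nsys w y →
      ∀ a ∈ SZ cs hp.isCartan (ch hp) t, 0 ≤ a → 0 ≤ rep cs hp.isCartan w a) :
    (Nat.card ↥N).Coprime r := by
  have := finite_W hp cs
  have hpp : p.Prime := Fact.out
  have hrr : r.Prime := Fact.out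
  have H := tow (k := k) hp cs hk r
  have R := H.rgd E
  have hA := chAddL (k := k) hp cs hk r
  have C' := coordsL' hp cs hk r
  have htL : ∀ i, t i ∈ TL (Tj hp (k := k)) := by rw [TL_eq (k := k) hp hk]; exact ht
  obtain ⟨f, hf⟩ := NInst.exists_hom R
  have hle : N ≤ NG R := fun y hy => (hN y hy).2
  let f1 : ↥N →* W := f.comp (Subgroup.inclusion hle)
  have hf1 : ∀ n : ↥N, Rp cs H.nsys (f1 n) (n : ↥(D.group k)) := fun n => H.rp_up (hf _)
  have hnt : ∀ n : ↥N, ∀ i, (n : ↥(D.group k)) * t i = t i * n := fun n => (mem_fixZ.1 (hN _ n.2).1).2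
  have hφ : ∀ i, ∃ φ : (Fin l → ℤ) → k, φ 0 = 1 ∧ (∀ x y, φ (x + y) = φ x * φ y) ∧
      ∀ a, IsRoot cs hp.isCartan a → ch hp a (t i) = φ a := fun i => hA _ (ht i)
  choose φ φ0 φadd hφ using hφ
  have hPr : IsPGroup p ↥f1.range := by
    refine isPGroup_of_chars (cs := cs) (h := hp.isCartan) hpp φ φ0 φadd (fun i => ?_) f1.range ?_ ?_
    · obtain ⟨m, hm⟩ := htp i
      refine ⟨m, fun a ha => ?_⟩
      rw [← hφ i a ha, ← ExcRoot.chi_pow hp cs hk r ha (ht i), hm, ExcRoot.chi_one hp cs hk r ha]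
    · rintro _ ⟨n, rfl⟩ i a ha
      have h1 := C'.chi_rp H.nsys (hf1 n) ha (htL i)
      have h2 : (n : ↥(D.group k)) * t i * (n : ↥(D.group k))⁻¹ = t i := by rw [hnt]; group
      rw [h2] at h1
      rw [← hφ i _ (ha.act _), h1, hφ i a ha]
    · rintro _ ⟨n, rfl⟩ a ha h1 h0
      exact hpos n n.2 _ (hf1 n) a ⟨ha, fun i => by rw [hφ i a ha, h1 i]⟩ h0
  have hTf : Finite ↥(Tj hp E) := by
    have h1 := R.tcop
    rcases Nat.eq_zero_or_pos (Nat.card ↥(Tj hp E)) with h2 | h2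
    · rw [h2, Nat.coprime_zero_left] at h1
      exact absurd h1 hrr.ne_one
    · exact (Nat.card_pos_iff.1 h2).2
  have hfinN : Finite ↥N := Finite.of_injective (fun x : ↥N => (⟨x.1, (hN _ x.2).1⟩ : ↥(fixZ τ t)))
    (fun a b e => Subtype.ext (congrArg (fun z : ↥(fixZ τ t) => (z : ↥(D.group k))) e))
  rw [← Subgroup.card_mul_index f1.ker]
  refine Nat.Coprime.mul_left ?_ ?_
  · have hker : ∀ n : ↥N, n ∈ f1.ker → (n : ↥(D.group k)) ∈ Tj hp E := by
      intro n hn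
      have h1 : f (Subgroup.inclusion hle n) = 1 := hn
      have h2 := hf (Subgroup.inclusion hle n)
      rw [h1] at h2
      exact h2.mem_of_one
    let f0 : ↥f1.ker →* ↥(Tj hp E) :=
      { toFun := fun n => ⟨(n : ↥N), hker n.1 n.2⟩
        map_one' := rfl
        map_mul' := fun _ _ => rfl }
    have hf0 : Function.Injective f0 := fun a b hab =>
      Subtype.ext (Subtype.ext (congrArg (fun z : ↥(Tj hp E) => (z : ↥(D.group k))) hab))
    exact R.tcop.coprime_dvd_left (Subgroup.card_dvd_of_injective f0 hf0)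
  · rw [Subgroup.index_ker]
    obtain ⟨m, hm⟩ := (IsPGroup.iff_card (p := p)).1 hPr
    rw [hm]
    exact Nat.Coprime.pow_left m ((Nat.coprime_primes hpp hrr).2 hpr)

/-- **Frattini.** -/
theorem frattini [IsAlgClosed k] (hk : LocFin k) (he : 0 < e) (hτ : IsFrob r e τ)
    (F : Fr cs hp.isCartan (TT D k) (XX D l k) τ g) [Finite ι] {t : ι → ↥(D.group k)} (ht : ∀ i, t i ∈ TT D k)
    (hτt : ∀ i, τ (t i) = t i) (hpos : ∀ a ∈ SZ cs hp.isCartan (ch hp) t, 0 ≤ a → 0 ≤ g a) [Finite ↥(fixZ τ t)]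
    {p : ℕ} [Fact p.Prime] (hpr : p ≠ r) (htp : ∀ i, ∃ m, t i ^ p ^ m = 1) :
    ∃ N₁ R₀ : Subgroup ↥(fixZ τ t), R₀.Normal ∧ R₀ ⊔ N₁ = ⊤ ∧
      (∀ y : ↥(fixZ τ t), (∃ m, y ^ r ^ m = 1) → y ∈ R₀) ∧
      (∀ Hn : Subgroup ↥(fixZ τ t), (∀ y : ↥(fixZ τ t), (∃ m, y ^ r ^ m = 1) → y ∈ Hn) → R₀ ≤ Hn) ∧
      (∀ y ∈ R₀, (y : ↥(D.group k)) ∈ MZ cs hp.isCartan (XX D l k) (ch hp) t) ∧
      ∀ n ∈ N₁, ∃ w, Rp cs (tow (k := k) hp cs hk r).nsys w (n : ↥(D.group k)) ∧
        ∀ a ∈ SZ cs hp.isCartan (ch hp) t, 0 ≤ a → 0 ≤ rep cs hp.isCartan w a := by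
  have := finite_W hp cs
  have H := tow (k := k) hp cs hk r
  have C' := coordsL' hp cs hk r
  have hG := GG_eq_top (k := k) hp cs hk
  have htL : ∀ i, t i ∈ TL (Tj hp (k := k)) := by rw [TL_eq (k := k) hp hk]; exact ht
  obtain ⟨E, Dt⟩ := exists_datZ hp cs hk he hτ F ht hτt hpos
  have R := H.rgd E
  have hform := Dt.form
  have hU : IsPGroup r ↥((RGD.Sup (Xj hp E) (SP (SZ cs hp.isCartan (ch hp) t))).subgroupOf (fixZ τ t)) :=
    (R.isPGroup_of_pos (S := SP (SZ cs hp.isCartan (ch hp) t)) fun a ha => ⟨ha.1.1, ha.2⟩).comap_subtype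
  have hN : ∀ y ∈ (NG R ⊓ Subgroup.normalizer (RGD.Sup (Xj hp E) (SP (SZ cs hp.isCartan (ch hp) t)) :
      Set ↥(D.group k))) ⊓ fixZ τ t, ∀ w, Rp cs H.nsys w y →
      ∀ a ∈ SZ cs hp.isCartan (ch hp) t, 0 ≤ a → 0 ≤ rep cs hp.isCartan w a := by
    rintro y ⟨⟨⟨w', hw'⟩, hy⟩, -⟩ w hw a ha h0
    have h1 := Dt.pos_of_mem_normalizer hw' hy ⟨ha, h0⟩
    have h2 : w = w' := by
      have h3 := H.normal_form_unique (one_mem _) (one_mem _) hw (H.rp_up hw') (one_mem _) (one_mem _) rfl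
      exact h3.1
    rw [h2]
    exact h1
  have hcop := coprime_aux hp cs hk ht hpr htp E ((NG R ⊓ Subgroup.normalizer (RGD.Sup (Xj hp E)
    (SP (SZ cs hp.isCartan (ch hp) t)) : Set ↥(D.group k))) ⊓ fixZ τ t)
    (fun y hy => ⟨(Subgroup.mem_inf.1 hy).2, (Subgroup.mem_inf.1 (Subgroup.mem_inf.1 hy).1).1⟩) hN
  obtain ⟨P, hP⟩ := hform.exists_sylow hU hcop
  refine ⟨((NG R ⊓ Subgroup.normalizer (RGD.Sup (Xj hp E) (SP (SZ cs hp.isCartan (ch hp) t)) :
      Set ↥(D.group k))) ⊓ fixZ τ t).subgroupOf (fixZ τ t),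
    (Subgroup.normalClosure ((P : Subgroup ↥(fixZ τ t)) : Set ↥(fixZ τ t)) :), Subgroup.normalClosure_normal,
    ?_, fun y hy => mem_normalClosure P hy, fun Hn hHr => ?_, ?_, ?_⟩
  · have hPR : (P : Subgroup ↥(fixZ τ t)) ≤ Subgroup.normalClosure ((P : Subgroup ↥(fixZ τ t)) : Set ↥(fixZ τ t)) :=
      Subgroup.le_normalClosure
    rw [eq_top_iff, ← Sylow.normalizer_sup_eq_top' P hPR]
    refine sup_le ?_ le_sup_left
    intro y hy
    have hy' : y ∈ Subgroup.normalizer (((P : Subgroup ↥(fixZ τ t)) : Subgroup ↥(fixZ τ t)) : Set ↥(fixZ τ t)) := hy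
    rw [hP] at hy'
    obtain ⟨u, hu, n, hn, e'⟩ := hform.mem_normalizer_iff.1 hy'
    have e1 : y = (⟨u, hu.2⟩ : ↥(fixZ τ t)) * ⟨n, hn.2⟩ := Subtype.ext e'
    rw [e1]
    refine mul_mem (Subgroup.mem_sup_left (hPR ?_)) (Subgroup.mem_sup_right (Subgroup.mem_subgroupOf.2 hn))
    rw [hP]
    exact Subgroup.mem_subgroupOf.2 hu.1
  · refine (Subgroup.closure_le _).2 fun y hy => ?_
    obtain ⟨z, hz, hzy⟩ := Group.mem_conjugatesOfSet_iff.1 hy
    obtain ⟨c, rfl⟩ := isConj_iff.1 hzy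
    obtain ⟨m, hm⟩ := P.2 ⟨z, hz⟩
    refine hHr _ ⟨m, ?_⟩
    have h1 : z ^ r ^ m = 1 := congrArg Subtype.val hm
    rw [conj_pow, h1, mul_one, mul_inv_cancel]
  · have hMZn : ((MZ cs hp.isCartan (XL (Xj hp (k := k))) (ch hp) t).subgroupOf (fixZ τ t)).Normal := by
      refine ⟨fun y hy c => ?_⟩
      rw [Subgroup.mem_subgroupOf] at hy ⊢
      exact (Subgroup.mem_normalizer_iff.1 (normalizer_MZ H C' hG htL (c := (c : ↥(D.group k)))
        (mem_fixZ.1 c.2).2) y.1).1 hy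
    have h1 : Subgroup.normalClosure ((P : Subgroup ↥(fixZ τ t)) : Set ↥(fixZ τ t)) ≤
        (MZ cs hp.isCartan (XL (Xj hp (k := k))) (ch hp) t).subgroupOf (fixZ τ t) := by
      refine Subgroup.normalClosure_le_normal fun y hy => ?_
      have hy' : y ∈ (P : Subgroup ↥(fixZ τ t)) := hy
      rw [hP, Subgroup.mem_subgroupOf] at hy'
      refine Subgroup.mem_subgroupOf.2 ?_
      exact RGD.Sup_mono (S := SP (SZ cs hp.isCartan (ch hp) t)) (S' := SZ cs hp.isCartan (ch hp) t)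
        (fun a ha => ha.1) (Sup_le_SupL E _ hy')
    intro y hy
    have h2 := h1 hy
    rw [XL_eq (k := k) hp hk] at h2
    exact h2
  · intro n hn
    obtain ⟨w, hw⟩ := hn.1.1
    exact ⟨w, H.rp_up hw, hN n hn w (H.rp_up hw)⟩

/-- **The core theorem**, positive form. `G₁` is a normal subgroup of `C_Y(t)^τ` containing the `r`-elements, `S` a
Sylow `p`-subgroup of `G₁`. -/
theorem core [IsAlgClosed k] (hk : LocFin k) (he : 0 < e) (hτ : IsFrob r e τ)
    (F : Fr cs hp.isCartan (TT D k) (XX D l k) τ g) [Finite ι] {t : ι → ↥(D.group k)} (ht : ∀ i, t i ∈ TT D k)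
    (hτt : ∀ i, τ (t i) = t i) (hpos : ∀ a ∈ SZ cs hp.isCartan (ch hp) t, 0 ≤ a → 0 ≤ g a) [Finite ↥(fixZ τ t)]
    {p : ℕ} [Fact p.Prime] (hp2 : p ≠ 2) (hpr : p ≠ r) (htp : ∀ i, ∃ m, t i ^ p ^ m = 1)
    (G₁ : Subgroup ↥(fixZ τ t)) (hG₁r : ∀ y : ↥(fixZ τ t), (∃ m, y ^ r ^ m = 1) → y ∈ G₁)
    (Hn : Subgroup ↥(fixZ τ t)) (hHp : ¬ p ∣ Nat.card ↥Hn)
    (hHr : ∀ y : ↥(fixZ τ t), (∃ m, y ^ r ^ m = 1) → y ∈ Hn) (S : Sylow p ↥G₁)
    (hS : ∀ y ∈ S, ∃ l : ↥(D.group k), (∀ i, l * t i = t i * l) ∧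
      l⁻¹ * ((y : ↥(fixZ τ t)) : ↥(D.group k)) * l ∈ TT D k) :
    ((S : Subgroup ↥G₁).Normal :) ∧ ∀ y ∈ S, ((y : ↥(fixZ τ t)) : ↥(D.group k)) ∈ TT D k ∧
      ∀ a ∈ SZ cs hp.isCartan (ch hp) t, ch hp a ((y : ↥(fixZ τ t)) : ↥(D.group k)) = 1 := by
  have := finite_W hp cs
  have hpp : p.Prime := Fact.out
  have H := tow (k := k) hp cs hk r
  have C := coordsL (k := k) hp cs hk r
  have hA := chAddL (k := k) hp cs hk r
  have hG := GG_eq_top (k := k) hp cs hk
  have hTL := TL_eq (k := k) hp hk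
  have hXL := XL_eq (k := k) hp hk
  have C' := coordsL' hp cs hk r
  have hA' : ChAdd cs hp.isCartan (TL (Tj hp (k := k))) (ch (K := k) hp) := by rw [hTL]; exact hA
  have F' : Fr cs hp.isCartan (TL (Tj hp (k := k))) (XL (Xj hp (k := k))) τ g := by rw [hTL, hXL]; exact F
  have htL : ∀ i, t i ∈ TL (Tj hp (k := k)) := by rw [hTL]; exact ht
  obtain ⟨N₁, R₀, hR₀n, hfrat, hR₀r, hR₀l, hR₀M, hN₁⟩ := frattini hp cs hk he hτ F ht hτt hpos (p := p) hpr htp
  have hR₀H : R₀ ≤ Hn := hR₀l Hn hHr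
  have hR₀G : R₀ ≤ G₁ := hR₀l G₁ hG₁r
  have hR₀p : ¬ p ∣ Nat.card ↥R₀ := fun h1 => hHp (h1.trans (Subgroup.card_dvd_of_le hR₀H))
  -- inside `G₁`
  have hfrat₁ : R₀.subgroupOf G₁ ⊔ N₁.subgroupOf G₁ = ⊤ := by
    rw [eq_top_iff]
    rintro ⟨y, hy⟩ -
    obtain ⟨a, ha, b, hb, rfl⟩ := _root_.Cfsg.Agent.H123.ExcFin.exists_mul R₀ N₁ hfrat y
    have hbG : b ∈ G₁ := (Subgroup.mul_mem_cancel_left G₁ (hR₀G ha)).1 hy
    have e1 : (⟨a * b, hy⟩ : ↥G₁) = ⟨a, hR₀G ha⟩ * ⟨b, hbG⟩ := rfl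
    simp only [e1]
    exact mul_mem (Subgroup.mem_sup_left (Subgroup.mem_subgroupOf.2 ha))
      (Subgroup.mem_sup_right (Subgroup.mem_subgroupOf.2 hb))
  have hR₀p₁ : ¬ p ∣ Nat.card ↥(R₀.subgroupOf G₁) := by
    rwa [Nat.card_congr (Subgroup.subgroupOfEquivOfLe hR₀G).toEquiv]
  obtain ⟨d, hd⟩ := exists_conj_le (p := p) (R₀.subgroupOf G₁) (N₁.subgroupOf G₁) hfrat₁ hR₀p₁ S
  obtain ⟨S', hS'⟩ : ∃ S' : Sylow p ↥G₁, S' = d • S := ⟨_, rfl⟩
  have hS'mem : ∀ y' ∈ S', ∃ y ∈ S, d * y * d⁻¹ = y' := by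
    intro y' hy'
    rw [hS', Sylow.smul_def] at hy'
    obtain ⟨y, hy, e⟩ := hy'
    exact ⟨y, hy, e⟩
  have hS'N : ∀ y' ∈ S', (y' : ↥(fixZ τ t)) ∈ N₁ := by
    intro y' hy'
    obtain ⟨y, hy, rfl⟩ := hS'mem y' hy'
    exact Subgroup.mem_subgroupOf.1 (hd y hy)
  have hS'T : ∀ y' ∈ S', ((y' : ↥(fixZ τ t)) : ↥(D.group k)) ∈ TT D k := by
    intro y' hy'
    obtain ⟨w, hw, hwpos⟩ := hN₁ _ (hS'N y' hy')
    obtain ⟨y, hy, rfl⟩ := hS'mem y' hy'
    obtain ⟨l', hl', hT⟩ := hS y hy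
    rw [← hTL]
    refine mem_T_of_pos H C' hG htL (l := ((d : ↥(fixZ τ t)) : ↥(D.group k)) * l') hw
      (mem_fixZ.1 ((d * y * d⁻¹ : ↥G₁) : ↥(fixZ τ t)).2).2 hwpos ?_ ?_
    · intro i
      have h2 := (mem_fixZ.1 (d : ↥(fixZ τ t)).2).2 i
      calc ((d : ↥(fixZ τ t)) : ↥(D.group k)) * l' * t i = (d : ↥(fixZ τ t)) * (l' * t i) := by group
        _ = (d : ↥(fixZ τ t)) * (t i * l') := by rw [hl']
        _ = ((d : ↥(fixZ τ t)) * t i) * l' := by group
        _ = (t i * (d : ↥(fixZ τ t))) * l' := by rw [h2]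
        _ = t i * ((d : ↥(fixZ τ t)) * l') := by group
    · have h2 : (((d : ↥(fixZ τ t)) : ↥(D.group k)) * l')⁻¹ *
          (((d * y * d⁻¹ : ↥G₁) : ↥(fixZ τ t)) : ↥(D.group k)) * ((d : ↥(fixZ τ t)) * l') =
          l'⁻¹ * (y : ↥(fixZ τ t)) * l' := by
        push_cast
        group
      rw [h2, hTL]
      exact hT
  -- the root argument
  have hfinR : Finite ↥(R₀.map (fixZ τ t).subtype) := Finite.of_equiv _ (R₀.equivMapOfInjective _
    (Subgroup.subtype_injective _)).toEquiv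
  have hcardR : Nat.card ↥(R₀.map (fixZ τ t).subtype) = Nat.card ↥R₀ :=
    (Nat.card_congr (R₀.equivMapOfInjective _ (Subgroup.subtype_injective _)).toEquiv).symm
  have hroot : ∀ y' ∈ S', ∀ a ∈ SZ cs hp.isCartan (ch hp) t, ch hp a ((y' : ↥(fixZ τ t)) : ↥(D.group k)) = 1 := by
    intro y' hy'
    obtain ⟨m, hm⟩ := S'.2 ⟨y', hy'⟩
    have hm' : ((y' : ↥(fixZ τ t)) : ↥(D.group k)) ^ p ^ m = 1 := by
      have h1 := congrArg Subtype.val (congrArg Subtype.val (congrArg Subtype.val hm))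
      exact h1
    refine ExcRoot.main hp cs hk he hτ F hpp hp2 (hS'T y' hy') (mem_fixZ.1 (y' : ↥(fixZ τ t)).2).1 hm'
      (R₀.map (fixZ τ t).subtype) ?_ ?_ (S := SZ cs hp.isCartan (ch hp) t) (fun a ha => ha.1)
      (fun a ha => SZ_neg C' hA' htL ha)
      (fun a ha b hb hab => SZ_add hA' htL ha hb hab) (fun a ha => (Fr_mem_SZ C' F' htL hτt a).2 ha) hpos ?_
    · rw [hcardR]
      exact (Nat.Prime.coprime_iff_not_dvd hpp).2 hR₀p
    · rintro _ ⟨z, hz, rfl⟩
      exact ⟨y' * z * (y' : ↥(fixZ τ t))⁻¹, hR₀n.conj_mem z hz y', rfl⟩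
    · intro c hc hs x hx
      obtain ⟨h1, h2⟩ := op_props (r := r) hp cs hk F ht hτt hc hs hx
      refine ⟨⟨_, h1⟩, hR₀r _ ⟨1, Subtype.ext ?_⟩, rfl⟩
      rw [pow_one]
      exact h2
  -- the normality
  have hcent : ∀ y' ∈ S', MZ cs hp.isCartan (XX D l k) (ch hp) t ≤
      Subgroup.centralizer {((y' : ↥(fixZ τ t)) : ↥(D.group k))} := by
    intro y' hy'
    refine RGD.Sup_le fun a ha => ?_
    exact X_le_centralizer C (hS'T y' hy') ⟨ha.1, hroot y' hy' a ha⟩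
  have hnorm : ((S' : Subgroup ↥G₁).Normal :) := by
    refine normal_of (R₀.subgroupOf G₁) (N₁.subgroupOf G₁) (((TT D k).subgroupOf (fixZ τ t)).subgroupOf G₁) hfrat₁ S'
      (fun y hy => Subgroup.mem_subgroupOf.2 (Subgroup.mem_subgroupOf.2 (hS'T y hy)))
      ?_ ?_ ?_
    · intro x hx y hy
      exact Subtype.ext (Subtype.ext (TT_comm hp _ (Subgroup.mem_subgroupOf.1 (Subgroup.mem_subgroupOf.1 hx)) _
        (Subgroup.mem_subgroupOf.1 (Subgroup.mem_subgroupOf.1 hy))))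
    · intro n hn x hx
      obtain ⟨w, hw, -⟩ := hN₁ n (Subgroup.mem_subgroupOf.1 hn)
      have h1 := hw.mem_normalizer
      rw [Subgroup.mem_subgroupOf, Subgroup.mem_subgroupOf] at hx ⊢
      have h2 := (Subgroup.mem_normalizer_iff.1 h1 ((x : ↥(fixZ τ t)) : ↥(D.group k))).1 (by rw [hTL]; exact hx)
      rw [hTL] at h2
      exact h2
    · intro x hx y hy
      have h1 := hcent y hy (hR₀M x (Subgroup.mem_subgroupOf.1 hx))
      rw [Subgroup.mem_centralizer_singleton_iff] at h1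
      exact Subtype.ext (Subtype.ext h1)
  have hSS' : S = S' := by
    have := Sylow.unique_of_normal S' hnorm
    exact Subsingleton.elim _ _
  rw [hSS']
  exact ⟨hnorm, fun y hy => ⟨hS'T y hy, hroot y hy⟩⟩

seal _root_.Finset.sum _root_.dotProduct in
/-- **The main theorem.** `C = C_Y(x)^σ`, `G₁` a normal subgroup of `C` containing the `r`-elements, `S` a Sylow
`p`-subgroup of `G₁`, conjugate into the torus together with `x`; the `r`-elements of `C` lie in a `p'`-subgroup. Then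
`S` is normal in `G₁`, and every root trivial on (the conjugate in the torus of) `x` is trivial on (the conjugate of)
`S`. -/
theorem main2 [IsAlgClosed k] (hk : LocFin k) (he : 0 < e) {σ : MulAut ↥(D.group k)} (hσ : IsFrob r e σ)
    (Fσ : Fr cs hp.isCartan (TT D k) (XX D l k) σ g) [Finite ι] {x : ι → ↥(D.group k)} {z₀ : ↥(D.group k)}
    (hσx : ∀ i, σ (x i) = x i) (hxT : ∀ i, z₀⁻¹ * x i * z₀ ∈ TT D k) {p : ℕ} [Fact p.Prime] (hp2 : p ≠ 2)
    (hpr : p ≠ r) (hxp : ∀ i, ∃ m, x i ^ p ^ m = 1) [Finite ↥(fixZ σ x)]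
    (G₁ : Subgroup ↥(fixZ σ x)) (hG₁r : ∀ y : ↥(fixZ σ x), (∃ m, y ^ r ^ m = 1) → y ∈ G₁)
    (Hn : Subgroup ↥(fixZ σ x)) (hHp : ¬ p ∣ Nat.card ↥Hn)
    (hHr : ∀ y : ↥(fixZ σ x), (∃ m, y ^ r ^ m = 1) → y ∈ Hn) (S : Sylow p ↥G₁)
    (hS : ∀ y ∈ S, z₀⁻¹ * ((y : ↥(fixZ σ x)) : ↥(D.group k)) * z₀ ∈ TT D k) :
    ((S : Subgroup ↥G₁).Normal :) ∧ ∀ y ∈ S, ∀ a, IsRoot cs hp.isCartan a →
      (∀ i, ch hp a (z₀⁻¹ * x i * z₀) = 1) → ch hp a (z₀⁻¹ * ((y : ↥(fixZ σ x)) : ↥(D.group k)) * z₀) = 1 := by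
  have := finite_W hp cs
  have H := tow (k := k) hp cs hk r
  have hA := chAddL (k := k) hp cs hk r
  have C := coordsL (k := k) hp cs hk r
  have hG := GG_eq_top (k := k) hp cs hk
  have hTL := TL_eq (k := k) hp hk
  have hXL := XL_eq (k := k) hp hk
  have C' := coordsL' hp cs hk r
  have hA' : ChAdd cs hp.isCartan (TL (Tj hp (k := k))) (ch (K := k) hp) := by rw [hTL]; exact hA
  have Fσ' : Fr cs hp.isCartan (TL (Tj hp (k := k))) (XL (Xj hp (k := k))) σ g := by rw [hTL, hXL]; exact Fσ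
  obtain ⟨t, ht⟩ : ∃ t : ι → ↥(D.group k), ∀ i, z₀⁻¹ * x i * z₀ = t i := ⟨_, fun _ => rfl⟩
  have htT : ∀ i, t i ∈ TT D k := fun i => by rw [← ht]; exact hxT i
  have htL : ∀ i, t i ∈ TL (Tj hp (k := k)) := by rw [hTL]; exact htT
  obtain ⟨z', k', g', h1, h2, F', h4, h5⟩ := ExcZ.pair_reduction H C' hA' hG Fσ' (x := x) (t := t) (z := z₀)
    hσx ht htL (fun k' g' F' htt m hm => by
      have h1 := fun a => Fr_mem_SZ C' F' htL htt a
      rw [hTL, hXL] at F'
      rw [hXL] at hm ⊢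
      exact lang_fr hp cs he (hσ.conj_mul k') F' (S := SZ cs hp.isCartan (ch hp) t) (fun a ha => ha.1)
        (fun a ha => (h1 a).2 ha) hm)
  rw [hTL, hXL] at F'
  obtain ⟨τ, hτ⟩ : ∃ τ, τ = MulAut.conj k' * σ := ⟨_, rfl⟩
  obtain ⟨ψ, hψ⟩ : ∃ ψ : ↥(fixZ τ t) ≃* ↥(fixZ σ x), ∀ y, (ψ y : ↥(D.group k)) = z' * y * z'⁻¹ := by
    subst hτ
    exact ⟨fixEquivZ h1 h2, fun _ => rfl⟩
  rw [← hτ] at F' h4
  have hFτ : IsFrob r e τ := by rw [hτ]; exact hσ.conj_mul k'
  have hfin : Finite ↥(fixZ τ t) := Finite.of_equiv _ ψ.symm.toEquiv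
  have htp : ∀ i, ∃ m, t i ^ p ^ m = 1 := by
    intro i
    obtain ⟨m, hm⟩ := hxp i
    refine ⟨m, ?_⟩
    have h6 : t i = z₀⁻¹ * x i * z₀⁻¹⁻¹ := by rw [← ht, inv_inv]
    rw [h6, conj_pow, hm]
    group
  -- the transported data
  have hcomap : ∀ Q : Subgroup ↥(fixZ σ x), ∃ φ : ↥(Q.comap ψ.toMonoidHom) ≃* ↥Q,
      ∀ y, (φ y : ↥(fixZ σ x)) = ψ (y : ↥(fixZ τ t)) := fun Q =>
    ⟨{ toFun := fun y => ⟨ψ y.1, y.2⟩
       invFun := fun y => ⟨ψ.symm y.1, by
         show ψ (ψ.symm y.1) ∈ Q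
         rw [MulEquiv.apply_symm_apply]
         exact y.2⟩
       left_inv := fun y => Subtype.ext (ψ.symm_apply_apply y.1)
       right_inv := fun y => Subtype.ext (ψ.apply_symm_apply y.1)
       map_mul' := fun a b => Subtype.ext (map_mul ψ _ _) }, fun _ => rfl⟩
  have hcard : Nat.card ↥(Hn.comap ψ.toMonoidHom) = Nat.card ↥Hn := by
    obtain ⟨φ, -⟩ := hcomap Hn
    exact Nat.card_congr φ.toEquiv
  obtain ⟨ψ₁, hψ₁⟩ := hcomap G₁
  have hrange : (S : Subgroup ↥G₁) ≤ ψ₁.toMonoidHom.range := fun y _ => ⟨ψ₁.symm y, ψ₁.apply_symm_apply y⟩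
  obtain ⟨S', hS'⟩ : ∃ S' : Sylow p ↥(G₁.comap ψ.toMonoidHom), ∀ y, y ∈ S' ↔ ψ₁ y ∈ S :=
    ⟨S.comapOfInjective ψ₁.toMonoidHom ψ₁.injective hrange, fun _ => Iff.rfl⟩
  have hl : ∀ i, z'⁻¹ * z₀ * t i = t i * (z'⁻¹ * z₀) := by
    intro i
    calc z'⁻¹ * z₀ * t i = z'⁻¹ * (z₀ * t i * z₀⁻¹) * z₀ := by group
      _ = z'⁻¹ * x i * z₀ := by rw [← ht]; group
      _ = (z'⁻¹ * x i * z') * (z'⁻¹ * z₀) := by group
      _ = t i * (z'⁻¹ * z₀) := by rw [h1]
  have hrel : ∀ y : ↥(fixZ τ t), (∃ m, y ^ r ^ m = 1) → ∃ m, ψ y ^ r ^ m = 1 := by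
    rintro y ⟨m, hm⟩
    exact ⟨m, by rw [← map_pow, hm, map_one]⟩
  have hcore := core hp cs hk he hFτ F' htT h4 h5 hp2 hpr htp (G₁.comap ψ.toMonoidHom)
    (fun y hy => hG₁r _ (hrel y hy)) (Hn.comap ψ.toMonoidHom) (by rw [hcard]; exact hHp)
    (fun y hy => hHr _ (hrel y hy)) S' (fun y hy => by
      refine ⟨z'⁻¹ * z₀, hl, ?_⟩
      have h6 := hS _ ((hS' y).1 hy)
      rw [hψ₁, hψ] at h6
      have h7 : (z'⁻¹ * z₀)⁻¹ * ((y : ↥(fixZ τ t)) : ↥(D.group k)) * (z'⁻¹ * z₀) =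
          z₀⁻¹ * (z' * (y : ↥(fixZ τ t)) * z'⁻¹) * z₀ := by group
      rw [h7]
      exact h6)
  obtain ⟨hn, hr⟩ := hcore
  constructor
  · refine ⟨fun y hy c => ?_⟩
    have h6 := hn.conj_mem (ψ₁.symm y) ((hS' _).2 (by rw [MulEquiv.apply_symm_apply]; exact hy)) (ψ₁.symm c)
    have h7 := (hS' _).1 h6
    have h8 : ∀ {A B : Type _} [Group A] [Group B] (e : A ≃* B) (c y : B),
        e (e.symm c * e.symm y * (e.symm c)⁻¹) = c * y * c⁻¹ := by
      intro A B _ _ e c y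
      rw [map_mul, map_mul, map_inv, MulEquiv.apply_symm_apply, MulEquiv.apply_symm_apply]
    exact (congrArg (· ∈ S) (h8 ψ₁ c y)).mp h7
  · intro y hy a ha hat
    obtain ⟨y₁, hy₁⟩ := ψ₁.surjective y
    subst hy₁
    obtain ⟨hyT, hychi⟩ := hr y₁ ((hS' y₁).2 hy)
    have haZ : a ∈ SZ cs hp.isCartan (ch hp) t := ⟨ha, fun i => by rw [← ht]; exact hat i⟩
    -- `y₁` centralises `MZ`
    have h6 : MZ cs hp.isCartan (XL (Xj hp (k := k))) (ch hp) t ≤
        Subgroup.centralizer {((y₁ : ↥(fixZ τ t)) : ↥(D.group k))} := by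
      refine RGD.Sup_le fun a ha => ?_
      rw [hXL]
      exact X_le_centralizer C hyT ⟨ha.1, hychi a ha⟩
    have h7 := normalizer_MZ H C' hG htL (c := z'⁻¹ * z₀) hl
    have h8 : z₀⁻¹ * ((ψ₁ y₁ : ↥(fixZ σ x)) : ↥(D.group k)) * z₀ =
        (z'⁻¹ * z₀)⁻¹ * ((y₁ : ↥(fixZ τ t)) : ↥(D.group k)) * (z'⁻¹ * z₀) := by
      rw [hψ₁, hψ]; group
    have h9 : ∀ u ∈ MZ cs hp.isCartan (XL (Xj hp (k := k))) (ch hp) t,
        u ∈ Subgroup.centralizer {z₀⁻¹ * ((ψ₁ y₁ : ↥(fixZ σ x)) : ↥(D.group k)) * z₀} := by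
      intro u hu
      have h10 := h6 ((Subgroup.mem_normalizer_iff.1 h7 u).1 hu)
      rw [Subgroup.mem_centralizer_singleton_iff] at h10 ⊢
      rw [h8]
      obtain ⟨c, hc⟩ : ∃ c, c = z'⁻¹ * z₀ := ⟨_, rfl⟩
      obtain ⟨y₂, hy₂⟩ : ∃ y₂, y₂ = ((y₁ : ↥(fixZ τ t)) : ↥(D.group k)) := ⟨_, rfl⟩
      simp only [← hc, ← hy₂] at h10 ⊢
      calc u * (c⁻¹ * y₂ * c) = c⁻¹ * (c * u * c⁻¹ * y₂) * c := by group
        _ = c⁻¹ * (y₂ * (c * u * c⁻¹)) * c := by rw [h10]
        _ = _ := by group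
    have h11 : xc hp a (1 : k) ∈ XX D l k a := ((C.coord a ha).mem _).2 ⟨1, rfl⟩
    have h12 : xc hp a (1 : k) ∈ MZ cs hp.isCartan (XL (Xj hp (k := k))) (ch hp) t := by
      refine RGD.le_Sup haZ ?_
      rw [hXL]
      exact h11
    exact (mem_Sx_of_centralizer C (hS _ hy) ha h11 ((C.coord a ha).ne_one one_ne_zero) (h9 _ h12)).2

/-- `main2` for `G₁ = C`. -/
theorem main [IsAlgClosed k] (hk : LocFin k) (he : 0 < e) {σ : MulAut ↥(D.group k)} (hσ : IsFrob r e σ)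
    (Fσ : Fr cs hp.isCartan (TT D k) (XX D l k) σ g) [Finite ι] {x : ι → ↥(D.group k)} {z₀ : ↥(D.group k)}
    (hσx : ∀ i, σ (x i) = x i) (hxT : ∀ i, z₀⁻¹ * x i * z₀ ∈ TT D k) {p : ℕ} [Fact p.Prime] (hp2 : p ≠ 2)
    (hpr : p ≠ r) (hxp : ∀ i, ∃ m, x i ^ p ^ m = 1) [Finite ↥(fixZ σ x)]
    (Hn : Subgroup ↥(fixZ σ x)) [hHn : Hn.Normal] (hHp : ¬ p ∣ Nat.card ↥Hn)
    (hHr : ∀ y : ↥(fixZ σ x), (∃ m, y ^ r ^ m = 1) → y ∈ Hn) (S : Sylow p ↥(fixZ σ x))
    (hS : ∀ y ∈ S, z₀⁻¹ * (y : ↥(D.group k)) * z₀ ∈ TT D k) :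
    ((S : Subgroup ↥(fixZ σ x)).Normal :) ∧ ∀ y ∈ S, ∀ a, IsRoot cs hp.isCartan a →
      (∀ i, ch hp a (z₀⁻¹ * x i * z₀) = 1) → ch hp a (z₀⁻¹ * (y : ↥(D.group k)) * z₀) = 1 := by
  obtain ⟨S', hS'⟩ : ∃ S' : Sylow p ↥(⊤ : Subgroup ↥(fixZ σ x)), ∀ y, y ∈ S' ↔ (y : ↥(fixZ σ x)) ∈ S :=
    ⟨S.subtype le_top, fun _ => Iff.rfl⟩
  have h := main2 hp cs hk he hσ Fσ hσx hxT hp2 hpr hxp ⊤ (fun y _ => Subgroup.mem_top y) Hn hHp hHr S'
    (fun y hy => hS _ ((hS' y).1 hy))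
  constructor
  · refine ⟨fun y hy c => ?_⟩
    have h1 := h.1.conj_mem ⟨y, Subgroup.mem_top y⟩ ((hS' _).2 hy) ⟨c, Subgroup.mem_top c⟩
    exact (hS' _).1 h1
  · intro y hy
    exact h.2 ⟨y, Subgroup.mem_top y⟩ ((hS' _).2 hy)

end Cfsg.Agent.H123.ExcMain
end
end

-- part: H795/RootConn
section
set_option linter.all false
open scoped Cfsg.Agent.FastGrp

/-!
# Connectivity of the roots nontrivial on a group of `p`-elements of the torus

`φ e` (`e ∈ E`) multiplicative functions on the root lattice of exponent `p ≥ 5`, `NT` the roots nontrivial on `E`.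
`Adj a b` : some root `c` of `NT` is such that `a` and `b` have the same kernel on the kernel of `c`.

* `IrrC` : irreducibility; `irrC_of_conn` : from the connectivity of the diagram;
* `conn` : `NT` is connected under `Adj`.
-/

set_option autoImplicit false
set_option linter.unusedSectionVars false

namespace Cfsg.Agent.H795.RootConn

open CoxeterSystem Cfsg.Agent.ChevalleyStructure.CoxeterGeom Cfsg.Agent.Tits.Roots Cfsg.Agent.Tits.Core
  Cfsg.Agent.Nodes.Reps Cfsg.Agent.Nodes.SubComb Cfsg.Agent.Nodes.Coroot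

variable {I W : Type*} [Fintype I] [DecidableEq I] [Group W] {M : CoxeterMatrix I}
  {cs : CoxeterSystem M W} {A : I → I → ℤ} {h : IsCartan M A}

/-- The root system is not the union of two nonempty orthogonal subsets. -/
def IrrC (cs : CoxeterSystem M W) (h : IsCartan M A) : Prop :=
  ∀ P Q : Set (I → ℤ), (∀ a, IsRoot cs h a → a ∈ P ∨ a ∈ Q) → (∀ a ∈ P, IsRoot cs h a) → (∀ a ∈ Q, IsRoot cs h a) →
    (∀ a ∈ P, ∀ b ∈ Q, cpr cs h a b = 0) → P.Nonempty → Q.Nonempty → False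

theorem eq_sum_sr' (x : I → ℤ) : x = ∑ i, x i • (sr i : I → ℤ) := by
  funext j
  rw [Finset.sum_apply]
  simp only [Pi.smul_apply, smul_eq_mul]
  rw [Finset.sum_eq_single j]
  · rw [sr_self, mul_one]
  · intro i _ hi
    rw [sr_ne (Ne.symm hi), mul_zero]
  · intro hj
    exact absurd (Finset.mem_univ j) hj

theorem cpr_sum [Finite W] {y : I → ℤ} (hy : IsRoot cs h y) (x : I → ℤ) :
    cpr cs h x y = ∑ i, x i * cpr cs h (sr i) y := by
  have h1 : ell cs h hy x = ∑ i, x i * cpr cs h (sr i) y := by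
    conv_lhs => rw [eq_sum_sr' x]
    rw [map_sum]
    refine Finset.sum_congr rfl fun i _ => ?_
    rw [map_zsmul, ell_apply, smul_eq_mul]
  rw [← h1, ell_apply]

/-- Irreducibility from the connectivity of the diagram. -/
theorem irrC_of_conn [Finite W] (hc : ∀ S : Set I, S.Nonempty → Sᶜ.Nonempty → ∃ i ∈ S, ∃ j ∈ Sᶜ, A i j ≠ 0) :
    IrrC cs h := by
  intro P Q hPQ hP hQ horth hPne hQne
  have horth' : ∀ b ∈ Q, ∀ a ∈ P, cpr cs h b a = 0 := fun b hb a ha =>
    (cpr_zero_comm cs h (hP a ha) (hQ b hb)).1 (horth a ha b hb)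
  have key : ∀ P' Q' : Set (I → ℤ), (∀ a ∈ P', IsRoot cs h a) → (∀ b ∈ Q', ∀ a ∈ P', cpr cs h b a = 0) →
      P'.Nonempty → (∀ a, IsRoot cs h a → a ∈ P' ∨ a ∈ Q') → ∃ i, (sr i : I → ℤ) ∈ P' := by
    intro P' Q' hP' ho hne hcov
    by_contra hcon
    push Not at hcon
    obtain ⟨a, ha⟩ := hne
    have h1 := cpr_self cs h (hP' a ha)
    rw [cpr_sum (hP' a ha)] at h1
    have h2 : ∑ i, a i * cpr cs h (sr i) a = 0 := by
      refine Finset.sum_eq_zero fun i _ => ?_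
      rw [ho (sr i) ((hcov _ (isRoot_sr cs h i)).resolve_left (hcon i)) a ha, mul_zero]
    rw [h2] at h1
    omega
  obtain ⟨i, hi⟩ := key P Q hP horth' hPne hPQ
  obtain ⟨j, hj⟩ := key Q P hQ horth hQne (fun a ha => (hPQ a ha).symm)
  have hdisj : ∀ a ∈ P, a ∉ Q := by
    intro a ha hb
    have h1 := horth a ha a hb
    rw [cpr_self cs h (hP a ha)] at h1
    omega
  obtain ⟨i', hi', j', hj', hA⟩ := hc {i | (sr i : I → ℤ) ∈ P} ⟨i, hi⟩ ⟨j, fun h' => hdisj _ h' hj⟩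
  have hj'' : (sr j' : I → ℤ) ∈ Q := (hPQ _ (isRoot_sr cs h j')).resolve_left hj'
  apply hA
  have h1 := horth' _ hj'' _ hi'
  rw [cpr_sr] at h1
  rw [← h1]
  unfold pairing
  rw [Finset.sum_eq_single j']
  · rw [sr_self, mul_one]
  · intro b _ hb
    rw [sr_ne hb, mul_zero]
  · intro hb
    exact absurd (Finset.mem_univ _) hb

/-- `|⟨x, y^∨⟩| ≤ 4` for roots. -/
theorem natAbs_cpr_le [Finite W] {x y : I → ℤ} (hx : IsRoot cs h x) (hy : IsRoot cs h y) :
    (cpr cs h x y).natAbs ≤ 4 := by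
  have := Fintype.ofFinite W
  by_cases h0 : cpr cs h x y = 0
  · rw [h0]; simp
  have h0' : cpr cs h y x ≠ 0 := fun h1 => h0 ((cpr_zero_comm cs h hy hx).1 h1)
  have hxx := form_pos cs h hx.ne_zero
  have hyy := form_pos cs h hy.ne_zero
  have e1 := two_form_cpr cs h x hy
  have e2 := two_form_cpr cs h y hx
  rw [form_comm cs h y x] at e2
  set a := form cs h x y with ha
  set X := form cs h x x with hX
  set Y := form cs h y y with hY
  set c := cpr cs h x y with hc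
  set c' := cpr cs h y x with hc'
  -- Cauchy-Schwarz
  have hcs : a * a ≤ X * Y := by
    by_cases hz : Y • x - a • y = 0
    · -- then `Y x = a y`
      have h1 : Y • x = a • y := sub_eq_zero.1 hz
      have h2 : form cs h x (Y • x) = form cs h x (a • y) := by rw [h1]
      have h3 : form cs h x (Y • x) = Y * X := by
        rw [form_smul_right]
      have h4 : form cs h x (a • y) = a * a := by
        rw [form_smul_right]
      rw [h3, h4] at h2
      rw [← h2, mul_comm]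
    · have h1 := form_pos cs h hz
      have h2 : form cs h (Y • x - a • y) (Y • x - a • y) = Y * (X * Y - a * a) := by
        rw [form_sub_right, form_sub_left, form_sub_left, form_smul_right, form_smul_right, form_smul_right,
          form_smul_right, form_smul_left, form_smul_left, form_smul_left, form_smul_left, form_comm cs h y x,
          ← ha, ← hX, ← hY]
        ring
      rw [h2] at h1
      have h3 := (mul_pos_iff_of_pos_left hyy).1 h1
      linarith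
  have h4 : (c * c') * (X * Y) = 4 * (a * a) := by
    have : (c * c') * (X * Y) = (c * Y) * (c' * X) := by ring
    rw [this, ← e1, ← e2]; ring
  have hXY : 0 < X * Y := mul_pos hxx hyy
  have h5 : c * c' ≤ 4 := by
    by_contra hcon
    push Not at hcon
    have h6 : 4 * (X * Y) < (c * c') * (X * Y) := mul_lt_mul_of_pos_right hcon hXY
    rw [h4] at h6
    linarith
  have h6 : 0 ≤ c * c' := by
    by_contra hcon
    push Not at hcon
    have h7 : (c * c') * (X * Y) < 0 := mul_neg_of_neg_of_pos hcon hXY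
    rw [h4] at h7
    have := mul_self_nonneg a
    linarith
  have h7 : (c.natAbs) * (c'.natAbs) ≤ 4 := by
    rw [← Int.natAbs_mul]
    omega
  have h8 : 1 ≤ c'.natAbs := Int.natAbs_pos.2 h0'
  calc c.natAbs = c.natAbs * 1 := (mul_one _).symm
    _ ≤ c.natAbs * c'.natAbs := Nat.mul_le_mul_left _ h8
    _ ≤ 4 := h7

section Conn

variable {E F : Type*} [Field F] (φ : E → (I → ℤ) → F)

/-- the roots nontrivial on `E` -/
def NT (cs : CoxeterSystem M W) (h : IsCartan M A) (φ : E → (I → ℤ) → F) (a : I → ℤ) : Prop :=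
  IsRoot cs h a ∧ ∃ e, φ e a ≠ 1

/-- `a` and `b` have the same kernel on the kernel of a root `c` nontrivial on `E` -/
def Adj (cs : CoxeterSystem M W) (h : IsCartan M A) (φ : E → (I → ℤ) → F) (a b : I → ℤ) : Prop :=
  NT cs h φ b ∧ ∃ c, NT cs h φ c ∧ ∀ e, φ e c = 1 → (φ e a = 1 ↔ φ e b = 1)

theorem zpow_eq_one_iff {p : ℕ} (hp : p.Prime) (h5 : 5 ≤ p) {c : ℤ} (hc0 : c ≠ 0) (hc : c.natAbs ≤ 4) {z : F}
    (hz : z ^ p = 1) : z ^ c = 1 ↔ z = 1 := by
  constructor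
  · intro h1
    have h2 : z ^ c.natAbs = 1 := by
      rcases Int.natAbs_eq c with h3 | h3
      · rw [h3, zpow_natCast] at h1
        exact h1
      · rw [h3, zpow_neg, inv_eq_one, zpow_natCast] at h1
        exact h1
    have h3 : Nat.Coprime c.natAbs p := by
      rw [Nat.coprime_comm, hp.coprime_iff_not_dvd]
      intro hd
      have := Nat.le_of_dvd (Int.natAbs_pos.2 hc0) hd
      omega
    have h4 : orderOf z ∣ 1 := by
      rw [← h3]
      exact Nat.dvd_gcd (orderOf_dvd_of_pow_eq_one h2) (orderOf_dvd_of_pow_eq_one hz)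
    exact orderOf_eq_one_iff.1 (Nat.dvd_one.1 h4)
  · rintro rfl
    exact one_zpow c

/-- **Connectivity.** -/
theorem conn [Finite W] (hirr : IrrC cs h) (h0 : ∀ e, φ e 0 = 1) (hadd : ∀ e x y, φ e (x + y) = φ e x * φ e y)
    {p : ℕ} (hp : p.Prime) (h5 : 5 ≤ p) (hφp : ∀ e x, φ e x ^ p = 1) {a b : I → ℤ} (ha : NT cs h φ a)
    (hb : NT cs h φ b) : Relation.ReflTransGen (Adj cs h φ) a b := by
  classical
  have hne : ∀ e x, φ e x ≠ 0 := by
    intro e x h1
    have h2 := hφp e x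
    rw [h1, zero_pow hp.ne_zero] at h2
    exact zero_ne_one h2
  have hneg : ∀ e x, φ e (-x) = (φ e x)⁻¹ := by
    intro e x
    apply eq_inv_of_mul_eq_one_left
    rw [← hadd, neg_add_cancel, h0]
  have hnsmul : ∀ e (n : ℕ) x, φ e (n • x) = φ e x ^ n := by
    intro e n x
    induction n with
    | zero => rw [zero_smul, h0, pow_zero]
    | succ n ih => rw [succ_nsmul, hadd, ih, pow_succ]
  have hzsmul : ∀ e (n : ℤ) x, φ e (n • x) = φ e x ^ n := by
    intro e n x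
    obtain ⟨m, rfl | rfl⟩ := Int.eq_nat_or_neg n
    · rw [natCast_zsmul, hnsmul, zpow_natCast]
    · rw [neg_smul, natCast_zsmul, hneg, hnsmul, zpow_neg, zpow_natCast]
  -- `φ e b = φ e (b - c a) * (φ e a) ^ c`
  have hdec : ∀ e (x y : I → ℤ) (c : ℤ), φ e x = φ e (x - c • y) * φ e y ^ c := by
    intro e x y c
    rw [← hzsmul, ← hadd, sub_add_cancel]
  -- nonorthogonal roots are adjacent
  have l1 : ∀ x y, NT cs h φ x → NT cs h φ y → cpr cs h y x ≠ 0 → Adj cs h φ x y := by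
    intro x y hx hy hxy
    refine ⟨hy, ?_⟩
    have hγ := isRoot_refl cs h hy.1 hx.1
    have hle := natAbs_cpr_le hy.1 hx.1
    set c := cpr cs h y x with hc
    have key : ∀ e, φ e (y - c • x) = 1 → (φ e x = 1 ↔ φ e y = 1) := by
      intro e he
      rw [hdec e y x c, he, one_mul, zpow_eq_one_iff hp h5 hxy hle (hφp e x)]
    by_cases h1 : ∃ e, φ e (y - c • x) ≠ 1
    · exact ⟨y - c • x, ⟨hγ, h1⟩, key⟩
    · push Not at h1
      exact ⟨x, hx, fun e _ => key e (h1 e)⟩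
  -- reflections in roots trivial on `E`
  have l2 : ∀ x d, NT cs h φ x → IsRoot cs h d → (∀ e, φ e d = 1) →
      NT cs h φ (x - cpr cs h x d • d) ∧ Adj cs h φ x (x - cpr cs h x d • d) := by
    intro x d hx hd hd1
    have key : ∀ e, φ e (x - cpr cs h x d • d) = φ e x := by
      intro e
      rw [hdec e x d (cpr cs h x d), hd1 e, one_zpow, mul_one]
    have h1 : NT cs h φ (x - cpr cs h x d • d) := by
      refine ⟨isRoot_refl cs h hx.1 hd, ?_⟩
      obtain ⟨e, he⟩ := hx.2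
      exact ⟨e, by rw [key]; exact he⟩
    exact ⟨h1, h1, x, hx, fun e _ => by rw [key]⟩
  by_contra hcon
  -- the partition
  set Φ1 : Set (I → ℤ) := {x | NT cs h φ x ∧ Relation.ReflTransGen (Adj cs h φ) a x} with hΦ1
  set Φ2 : Set (I → ℤ) := {x | NT cs h φ x ∧ ¬ Relation.ReflTransGen (Adj cs h φ) a x} with hΦ2
  have horth : ∀ x ∈ Φ1, ∀ y ∈ Φ2, cpr cs h y x = 0 := by
    intro x hx y hy
    by_contra h1
    exact hy.2 (hx.2.tail (l1 x y hx.1 hy.1 h1))
  have hΦ1refl : ∀ x ∈ Φ1, ∀ d, IsRoot cs h d → (∀ e, φ e d = 1) → x - cpr cs h x d • d ∈ Φ1 := by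
    intro x hx d hd hd1
    obtain ⟨h1, h2⟩ := l2 x d hx.1 hd hd1
    exact ⟨h1, hx.2.tail h2⟩
  set P : Set (I → ℤ) := Φ1 ∪ {d | IsRoot cs h d ∧ (∀ e, φ e d = 1) ∧ ∃ x ∈ Φ1, cpr cs h x d ≠ 0} with hP
  set Q : Set (I → ℤ) := Φ2 ∪ {d | IsRoot cs h d ∧ (∀ e, φ e d = 1) ∧ ∀ x ∈ Φ1, cpr cs h x d = 0} with hQ
  have hPr : ∀ x ∈ P, IsRoot cs h x := by
    rintro x (hx | hx)
    · exact hx.1.1
    · exact hx.1
  have hQr : ∀ x ∈ Q, IsRoot cs h x := by
    rintro x (hx | hx)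
    · exact hx.1.1
    · exact hx.1
  have h1Q : ∀ x ∈ Φ1, ∀ y ∈ Q, cpr cs h x y = 0 := by
    rintro x hx y (hy | hy)
    · exact (cpr_zero_comm cs h hy.1.1 hx.1.1).1 (horth x hx y hy)
    · exact hy.2.2 x hx
  refine hirr P Q ?_ hPr hQr ?_ ⟨a, Or.inl ⟨ha, Relation.ReflTransGen.refl⟩⟩ ⟨b, Or.inl ⟨hb, hcon⟩⟩
  · intro x hx
    by_cases h1 : ∃ e, φ e x ≠ 1
    · by_cases h2 : Relation.ReflTransGen (Adj cs h φ) a x
      · exact Or.inl (Or.inl ⟨⟨hx, h1⟩, h2⟩)
      · exact Or.inr (Or.inl ⟨⟨hx, h1⟩, h2⟩)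
    · push Not at h1
      by_cases h2 : ∃ y ∈ Φ1, cpr cs h y x ≠ 0
      · exact Or.inl (Or.inr ⟨hx, h1, h2⟩)
      · push Not at h2
        exact Or.inr (Or.inr ⟨hx, h1, h2⟩)
  · rintro x (hx | hx) y hy
    · exact h1Q x hx y hy
    · obtain ⟨hxr, hx1, z, hz, hzx⟩ := hx
      have h1 := h1Q z hz y hy
      have h2 := h1Q _ (hΦ1refl z hz x hxr hx1) y hy
      have h3 : cpr cs h (z - cpr cs h z x • x) y = cpr cs h z y - cpr cs h z x * cpr cs h x y := by
        have h4 := map_sub (ell cs h (hQr y hy)) z (cpr cs h z x • x)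
        rw [map_zsmul, ell_apply, ell_apply, ell_apply, smul_eq_mul] at h4
        exact h4
      rw [h3, h1, zero_sub, neg_eq_zero] at h2
      exact (mul_eq_zero.1 h2).resolve_left hzx

end Conn

end Cfsg.Agent.H795.RootConn

private theorem dce_f94b2f578824 : _root_.True := by
  try have : _root_.True := by simp only [_root_.Cfsg.Agent.Nodes.Coroot.cpr.congr_simp]
  exact _root_.True.intro
end

-- part: H795/Core
section
prune_inst 0x102404022200000018000240003c5282000492006b8801d14008440482bf412003272130c01a101110aa640038804813540079421800000a008600411d00800ca80242b108a100020006009804400000000000000000000000000000041000000000000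
set_option linter.all false
open scoped Cfsg.Agent.FastGrp

-- part: H795/Toral
section
/-!
# Irreducibility and `C_G(Ω₁(S)) ≤ N_G(S)` for toral abelian Sylow subgroups

`f : G →* D.group k` injective, `S` an abelian Sylow `p`-subgroup of `G` mapped into the torus `TT D k`.

* `CoreL p S f` : for `A ≤ S` without reflection data, every root trivial on `A` is trivial on `S`;
* `irr_of_core` : `CoreL` and `p ≥ 5` imply that `N_G(S)` is irreducible on `Ω₁(S)`;
* `normOm_of_core` : `CoreL` implies `C_G(Ω₁(S)) ≤ N_G(S)`.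
-/

set_option autoImplicit false
set_option linter.unusedSectionVars false

namespace Cfsg.Agent.H795.Toral

open CoxeterSystem Cfsg Cfsg.Lie Cfsg.Lie.ChevalleyDatum
open Cfsg.Agent.ChevalleyStructure Cfsg.Agent.ChevalleyStructure.Elts Cfsg.Agent.ChevalleyStructure.CoxeterGeom
  Cfsg.Agent.ChevalleyStructure.CoxeterGeomTypes Cfsg.Agent.ChevalleyStructure.NPerm
open Cfsg.Agent.Tits.Roots Cfsg.Agent.Tits.Core Cfsg.Agent.Nodes Cfsg.Agent.Nodes.Reps Cfsg.Agent.Nodes.BNOf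
  Cfsg.Agent.Nodes.RGDChev Cfsg.Agent.Nodes.Bruhat
open Cfsg.Agent.KFacts.RgdField Cfsg.Agent.KFacts.RgdChevCoord Cfsg.Agent.BpExc.TorCent Cfsg.Agent.BpExc.TorChev
open Cfsg.Agent.GpExc.Field Cfsg.Agent.BpExc.Tow Cfsg.Agent.BpExc.TowChev
open Cfsg.Agent.H129.TorusChar Cfsg.Agent.H795.SetCent Cfsg.Agent.H795.RootConn

universe u v

variable {D : ChevalleyDatum} {l : ℕ} {M : CoxeterMatrix (Fin l)} (hp : IsType D l M)
  {k : Type u} [Field k] {G : Type v} [Group G]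

/-- For `A ≤ S` without reflection data, every root trivial on `A` is trivial on `S`. -/
def CoreL (hp : IsType D l M) (p : ℕ) (S : Subgroup G) (f : G →* ↥(D.group k)) : Prop :=
  ∀ A : Subgroup G, A ≤ S → ¬ Refl p A → ∀ a, IsRoot M.toCoxeterSystem hp.isCartan a →
    (∀ x ∈ A, ch hp a (f x) = 1) → ∀ x ∈ S, ch hp a (f x) = 1

section

variable {p : ℕ} [hpp : Fact p.Prime] {S : Subgroup G} {hS : IsMulCommutative S} {f : G →* ↥(D.group k)}
  (hfS : ∀ x ∈ S, f x ∈ TT D k)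

/-- the kernel of the root `a` on `Ω₁(S)` -/
noncomputable def Rk (hp : IsType D l M) (p : ℕ) (S : Subgroup G) (hS : IsMulCommutative S) (f : G →* ↥(D.group k))
    (hfS : ∀ x ∈ S, f x ∈ TT D k) (a : Fin l → ℤ) : Subgroup G where
  carrier := {x | x ∈ om p S hS ∧ cX hp (f x) a = 1}
  one_mem' := ⟨one_mem _, by rw [map_one]; exact cX_one hp a⟩
  mul_mem' := by
    rintro x y ⟨hx, h1⟩ ⟨hy, h2⟩
    exact ⟨mul_mem hx hy, by rw [map_mul, cX_mul hp (hfS x hx.1) (hfS y hy.1), h1, h2, one_mul]⟩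
  inv_mem' := by
    rintro x ⟨hx, h1⟩
    refine ⟨inv_mem hx, ?_⟩
    have h2 := cX_mul hp (hfS x hx.1) (hfS x⁻¹ (inv_mem hx.1)) a
    rw [← map_mul, mul_inv_cancel, map_one, cX_one, h1, one_mul] at h2
    exact h2.symm

include hfS in
theorem cX_pow_p {x : G} (hx : x ∈ om p S hS) (a : Fin l → ℤ) : cX hp (f x) a ^ p = 1 := by
  rw [← cX_pow hp (hfS x hx.1), ← map_pow, hx.2, map_one, cX_one]

theorem hyp_Rk (a : Fin l → ℤ) : Hyp p S hS (Rk hp p S hS f hfS a) := by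
  intro x hx hxR y hy
  have h1 : cX hp (f x) a ≠ 1 := fun h1 => hxR ⟨hx, h1⟩
  have h2 := cX_pow_p hp hfS hx a
  have h3 := cX_pow_p hp hfS hy a
  have hprim : IsPrimitiveRoot (cX hp (f x) a) p := by
    have h4 : orderOf (cX hp (f x) a) = p := orderOf_eq_prime h2 h1
    rw [← h4]
    exact IsPrimitiveRoot.orderOf _
  obtain ⟨i, -, hi⟩ := hprim.eq_pow_of_pow_eq_one h3
  have hinv : cX hp (f x⁻¹) a = (cX hp (f x) a)⁻¹ := by
    have h5 := cX_mul hp (hfS x hx.1) (hfS x⁻¹ (inv_mem hx.1)) a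
    rw [← map_mul, mul_inv_cancel, map_one, cX_one] at h5
    exact eq_inv_of_mul_eq_one_right h5.symm
  refine ⟨-(i : ℤ), mul_mem hy (zpow_mem hx _), ?_⟩
  have e : x ^ (-(i : ℤ)) = (x⁻¹) ^ i := by
    rw [zpow_neg, zpow_natCast, inv_pow]
  rw [e, map_mul, cX_mul hp (hfS y hy.1) (hfS _ (pow_mem (inv_mem hx.1) i)), map_pow,
    cX_pow hp (hfS _ (inv_mem hx.1)), hinv, ← hi, inv_pow, mul_inv_cancel₀]
  exact pow_ne_zero _ ((isMC_cX hp (hfS x hx.1)).ne_zero a)

end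

variable [Finite G] {p : ℕ} [hpp : Fact p.Prime] (S : Sylow p G) (hS : IsMulCommutative (S : Subgroup G))
  {f : G →* ↥(D.group k)} (hf : Function.Injective f) (hfS : ∀ x ∈ (S : Subgroup G), f x ∈ TT D k)

include hS hf hfS in
/-- **Irreducibility on `Ω₁(S)`.** -/
theorem irr_of_core (hirr : IrrC M.toCoxeterSystem hp.isCartan) (h5 : 5 ≤ p)
    (hcore : CoreL hp p (S : Subgroup G) f) (B : Subgroup G) (hBS : B ≤ (S : Subgroup G)) (hB : ∀ b ∈ B, b ^ p = 1)
    (hinv : ∀ n ∈ Subgroup.normalizer ((S : Subgroup G) : Set G), ∀ b ∈ B, n * b * n⁻¹ ∈ B) :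
    B = ⊥ ∨ ∀ x ∈ (S : Subgroup G), x ^ p = 1 → x ∈ B := by
  classical
  have hWf := finite_W hp (M.toCoxeterSystem)
  let E := ↥(om p (S : Subgroup G) hS)
  let φ : E → (Fin l → ℤ) → k := fun e a => cX hp (f e.1) a
  have hMC : ∀ e : E, IsMC (φ e) := fun e => isMC_cX hp (hfS _ e.2.1)
  let ι := {a : Fin l → ℤ // NT M.toCoxeterSystem hp.isCartan φ a}
  let R : ι → Subgroup G := fun a => Rk hp p (S : Subgroup G) hS f hfS a.1
  have hRle : ∀ a : ι, R a ≤ (S : Subgroup G) := fun a x hx => hx.1.1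
  have hroot : ∀ a : ι, IsRoot M.toCoxeterSystem hp.isCartan a.1 := fun a => a.2.1
  have hrefl : ∀ a : ι, Refl p (R a) := by
    intro a
    by_contra hcon
    obtain ⟨e, he⟩ := a.2.2
    apply he
    have h1 := hcore (R a) (hRle a) hcon a.1 a.2.1 (fun x hx => by
      rw [← cX_root hp M.toCoxeterSystem (hfS x hx.1.1) a.2.1]
      exact hx.2) e.1 e.2.1
    show cX hp (f e.1) a.1 = 1
    rw [cX_root hp M.toCoxeterSystem (hfS _ e.2.1) a.2.1]
    exact h1
  refine irr_of_hyperplanes S hS R hRle (fun a => hyp_Rk hp hfS a.1) ?_ hrefl ?_ ?_ B hBS hB hinv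
  · intro a hle
    obtain ⟨e, he⟩ := a.2.2
    exact he (hle e.2).2
  · intro e he hall
    -- all roots are trivial on `e`
    have h1 : ∀ i, cX hp (f e) (sr i) = cX hp (1 : ↥(D.group k)) (sr i) := by
      intro i
      rw [cX_one]
      by_contra hne
      exact hne (hall ⟨sr i, isRoot_sr _ _ i, ⟨e, he⟩, hne⟩).2
    have h2 := cX_inj hp (hfS e he.1) (one_mem _) h1
    exact hf (h2.trans (map_one f).symm)
  · intro a b
    have h1 := conn φ hirr (fun e => (hMC e).zero) (fun e => (hMC e).add) (p := p) hpp.out h5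
      (fun e x => cX_pow_p hp hfS e.2 x) a.2 b.2
    -- lift the path
    have key : ∀ c : Fin l → ℤ, Relation.ReflTransGen (Adj M.toCoxeterSystem hp.isCartan φ) a.1 c →
        ∀ hc : NT M.toCoxeterSystem hp.isCartan φ c,
        Relation.ReflTransGen (fun i j => ∃ H : Subgroup G, H ≤ (S : Subgroup G) ∧
        Hyp p (S : Subgroup G) hS H ∧ Refl p H ∧ H ⊓ R i = H ⊓ R j) a ⟨c, hc⟩ := by
      intro c hac
      induction hac with
      | refl => intro hc; exact Relation.ReflTransGen.refl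
      | @tail x y hax hxy ih =>
        intro hy
        obtain ⟨-, c, hc, hcc⟩ := hxy
        -- `x` is in `NT` as well
        have hx : NT M.toCoxeterSystem hp.isCartan φ x := by
          rcases Relation.ReflTransGen.cases_tail hax with h2 | ⟨z, -, h2⟩
          · rw [h2]; exact a.2
          · exact h2.1
        refine (ih hx).tail ⟨R ⟨c, hc⟩, hRle _, hyp_Rk hp hfS c, hrefl ⟨c, hc⟩, ?_⟩
        ext e
        constructor
        · rintro ⟨h3, h4⟩
          exact ⟨h3, h3.1, (hcc ⟨e, h3.1⟩ h3.2).1 h4.2⟩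
        · rintro ⟨h3, h4⟩
          exact ⟨h3, h3.1, (hcc ⟨e, h3.1⟩ h3.2).2 h4.2⟩
    exact key b.1 h1 b.2

include hS hf hfS in
/-- **`C_G(Ω₁(S)) ≤ N_G(S)`.** -/
theorem normOm_of_core [IsAlgClosed k] (hk : LocFin k) (r : ℕ) [Fact r.Prime] [CharP k r]
    (hcore : CoreL hp p (S : Subgroup G) f) {c : G}
    (hc : ∀ x ∈ (S : Subgroup G), x ^ p = 1 → c * x * c⁻¹ = x) :
    c ∈ Subgroup.normalizer ((S : Subgroup G) : Set G) := by
  classical
  have hWf := finite_W hp (M.toCoxeterSystem)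
  have H := tow hp M.toCoxeterSystem hk r
  have C : Coords M.toCoxeterSystem hp.isCartan (TL (Tj hp (k := k))) (nc hp k) (XL (Xj hp)) (xc hp) (ch hp) := by
    rw [TL_eq hp hk, XL_eq hp hk]
    exact coordsL hp M.toCoxeterSystem hk r
  have hGt := GG_eq_top hp M.toCoxeterSystem hk
  set Z : Set ↥(D.group k) := f '' (om p (S : Subgroup G) hS : Set G) with hZ
  have hZfin : Z.Finite := (Set.toFinite _).image _
  have hZT : Z ⊆ TL (Tj hp (k := k)) := by
    rintro _ ⟨x, hx, rfl⟩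
    rw [TL_eq hp hk]
    exact hfS x hx.1
  have hcZ : ∀ t ∈ Z, f c * t = t * f c := by
    rintro _ ⟨x, hx, rfl⟩
    rw [← map_mul, ← map_mul]
    congr 1
    have h1 := hc x hx.1 hx.2
    rw [mul_inv_eq_iff_eq_mul] at h1
    exact h1
  obtain ⟨m, hm, w, n, hn, hnZ, e⟩ := exists_form_centralizer H C hGt hZfin hZT hcZ
  have hwC := mem_CW_of_comm H C hZT hn hnZ
  -- the roots trivial on `Z` are trivial on `S`
  have hroots : ∀ a ∈ SxZ M.toCoxeterSystem hp.isCartan (ch hp) Z, ∀ x ∈ (S : Subgroup G), ch hp a (f x) = 1 := by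
    intro a ha
    exact hcore (om p (S : Subgroup G) hS) (fun x hx => hx.1) (not_refl S hS) a ha.1
      (fun x hx => ha.2 _ ⟨x, hx, rfl⟩)
  have hcomm := TT_comm hp (K := k)
  -- conjugates of elements of `S`
  have hconj : ∀ s ∈ (S : Subgroup G), f (c * s * c⁻¹) ∈ TT D k := by
    intro s hs
    have hsT : f s ∈ TL (Tj hp (k := k)) := by rw [TL_eq hp hk]; exact hfS s hs
    have hnT : n * f s * n⁻¹ ∈ TL (Tj hp (k := k)) := (Subgroup.mem_normalizer_iff.1 hn.mem_normalizer _).1 hsT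
    -- `m` commutes with `n (f s) n⁻¹`
    have hsub : SxZ M.toCoxeterSystem hp.isCartan (ch (K := k) hp) Z ⊆
        SxZ M.toCoxeterSystem hp.isCartan (ch hp) {n * f s * n⁻¹} := by
      intro a ha
      refine ⟨ha.1, ?_⟩
      rintro _ rfl
      -- `a = w (w⁻¹ a)`
      have h1 : rep M.toCoxeterSystem hp.isCartan w⁻¹ a ∈ SxZ M.toCoxeterSystem hp.isCartan (ch (K := k) hp) Z := by
        refine ⟨ha.1.act _, fun t ht => ?_⟩
        rw [(inv_mem hwC : w⁻¹ ∈ CW M.toCoxeterSystem hp.isCartan (ch hp) Z) a ha.1 t ht, ha.2 t ht]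
      have h2 := C.chi_rp H.nsys hn h1.1 hsT
      rw [rep_apply_inv] at h2
      rw [h2]
      exact hroots _ h1 s hs
    have h3 : m ∈ Subgroup.centralizer {n * f s * n⁻¹} := by
      have h4 := MMZ_le_centralizer C (Z := {n * f s * n⁻¹}) (Set.singleton_subset_iff.2 hnT)
      exact h4 (RGD.Sup_mono hsub hm)
    rw [Subgroup.mem_centralizer_singleton_iff] at h3
    have h5 : f (c * s * c⁻¹) = n * f s * n⁻¹ := by
      rw [map_mul, map_mul, map_inv, e]
      calc m * n * f s * (m * n)⁻¹ = m * (n * f s * n⁻¹) * m⁻¹ := by group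
        _ = n * f s * n⁻¹ := by rw [h3]; group
    rw [h5, ← TL_eq hp hk]
    exact hnT
  -- they commute with `S`
  have hmem : ∀ s ∈ (S : Subgroup G), c * s * c⁻¹ ∈ (S : Subgroup G) := by
    intro s hs
    obtain ⟨j, hj⟩ := S.2 ⟨s, hs⟩
    have hj' : s ^ p ^ j = 1 := congrArg Subtype.val hj
    refine mem_sylow_of_normalizer S (k := j) (by rw [conj_pow', hj', mul_one, mul_inv_cancel]) ?_
    refine Subgroup.mem_normalizer_iff.2 fun y => ?_
    have key : ∀ y ∈ (S : Subgroup G), (c * s * c⁻¹) * y = y * (c * s * c⁻¹) := by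
      intro y hy
      apply hf
      rw [map_mul f (c * s * c⁻¹) y, map_mul f y (c * s * c⁻¹)]
      exact hcomm _ (hconj s hs) _ (hfS y hy)
    constructor
    · intro hy
      rw [key y hy, mul_inv_cancel_right]
      exact hy
    · intro hy
      have h1 := key _ hy
      have h2 : y = (c * s * c⁻¹) * y * (c * s * c⁻¹)⁻¹ := by
        have h3 : (c * s * c⁻¹) * y = (c * s * c⁻¹) * y * (c * s * c⁻¹)⁻¹ * (c * s * c⁻¹) := by group
        have h4 : (c * s * c⁻¹) * ((c * s * c⁻¹) * y * (c * s * c⁻¹)⁻¹) = (c * s * c⁻¹) * y := by rw [h1]; group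
        exact (mul_left_cancel h4).symm
      rw [h2]
      exact hy
  have hle : (S : Subgroup G).map (MulAut.conj c).toMonoidHom ≤ (S : Subgroup G) := by
    rintro _ ⟨s, hs, rfl⟩
    exact hmem s hs
  rw [Subgroup.mem_normalizer_iff_map_conj_eq]
  refine Subgroup.eq_of_le_of_card_ge hle ?_
  rw [Subgroup.card_map_of_injective (MulAut.conj c).injective]

end Cfsg.Agent.H795.Toral
end

-- part: H795/Reduce
section
/-!
# Reduction of a toral Sylow subgroup to a subgroup of the torus fixed by a frame automorphism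

`f : G →* D.group k` injective with values fixed by the frame automorphism `σ` (Frobenius type), `S` a Sylow
`p`-subgroup of `G` with `f(S)` conjugate into the torus; all `p`-elements fixed by `σ` are values of `f`.

* `exists_frame` : there are `y`, `a ∈ G` such that `x ↦ y⁻¹ f(a x a⁻¹) y` maps `S` into the torus, and
  `conj (y⁻¹ σ(y)) * σ` is a frame automorphism.
-/

set_option autoImplicit false
set_option linter.unusedSectionVars false

namespace Cfsg.Agent.H795.Reduce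

open CoxeterSystem Cfsg Cfsg.Lie Cfsg.Lie.ChevalleyDatum
open Cfsg.Agent.ChevalleyStructure Cfsg.Agent.ChevalleyStructure.Elts Cfsg.Agent.ChevalleyStructure.CoxeterGeom
  Cfsg.Agent.ChevalleyStructure.CoxeterGeomTypes Cfsg.Agent.ChevalleyStructure.NPerm
open Cfsg.Agent.Tits.Roots Cfsg.Agent.Tits.Core Cfsg.Agent.Nodes Cfsg.Agent.Nodes.Reps Cfsg.Agent.Nodes.BNOf
  Cfsg.Agent.Nodes.RGDChev Cfsg.Agent.Nodes.Bruhat
open Cfsg.Agent.KFacts.RgdField Cfsg.Agent.KFacts.RgdChevCoord Cfsg.Agent.BpExc.TorCent Cfsg.Agent.BpExc.TorChev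
open Cfsg.Agent.GpExc.Field Cfsg.Agent.BpExc.Tow Cfsg.Agent.BpExc.TowChev Cfsg.Agent.BpExc.Fr
  Cfsg.Agent.BpExc.LangFr Cfsg.Agent.H795.SetCent
open scoped Pointwise

universe u v

variable {D : ChevalleyDatum} {l : ℕ} {M : CoxeterMatrix (Fin l)} (hp : IsType D l M)
  {k : Type u} [Field k] [IsAlgClosed k] (hk : LocFin k) (r : ℕ) [Fact r.Prime] [CharP k r]

/-- the conjugate embedding -/
def cf {Y : Type*} [Group Y] {G : Type v} [Group G] (f : G →* Y) (y : Y) (a : G) : G →* Y :=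
  ((MulAut.conj y⁻¹).toMonoidHom.comp f).comp (MulAut.conj a).toMonoidHom

theorem cf_apply {Y : Type*} [Group Y] {G : Type v} [Group G] (f : G →* Y) (y : Y) (a x : G) :
    cf f y a x = y⁻¹ * f (a * x * a⁻¹) * y := by
  show y⁻¹ * f (a * x * a⁻¹) * y⁻¹⁻¹ = _
  rw [inv_inv]

theorem cf_injective {Y : Type*} [Group Y] {G : Type v} [Group G] {f : G →* Y} (hf : Function.Injective f) (y : Y)
    (a : G) : Function.Injective (cf f y a) :=
  ((MulAut.conj y⁻¹).injective.comp hf).comp (MulAut.conj a).injective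

/-- the conjugate automorphism -/
def ct {Y : Type*} [Group Y] (σ : MulAut Y) (y : Y) : MulAut Y := MulAut.conj (y⁻¹ * σ y) * σ

theorem ct_apply {Y : Type*} [Group Y] (σ : MulAut Y) (y u : Y) : ct σ y u = y⁻¹ * σ (y * u * y⁻¹) * y := by
  show y⁻¹ * σ y * σ u * (y⁻¹ * σ y)⁻¹ = _
  rw [map_mul, map_mul, map_inv]
  group

theorem ct_fix {Y : Type*} [Group Y] {σ : MulAut Y} {y u : Y} : ct σ y u = u ↔ σ (y * u * y⁻¹) = y * u * y⁻¹ := by
  rw [ct_apply]
  constructor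
  · intro h
    calc σ (y * u * y⁻¹) = y * (y⁻¹ * σ (y * u * y⁻¹) * y) * y⁻¹ := by group
      _ = _ := by rw [h]
  · intro h
    rw [h]; group

include hk in
/-- **The reduction.** -/
theorem exists_frame {G : Type v} [Group G] [Finite G] {f : G →* ↥(D.group k)} (hf : Function.Injective f)
    {σ : MulAut ↥(D.group k)} {e : ℕ} (he : 0 < e) (hσ : IsFrob r e σ) {g : (Fin l → ℤ) ≃+ (Fin l → ℤ)}
    (F : Fr M.toCoxeterSystem hp.isCartan (TT D k) (XX D l k) σ g) (hfix : ∀ x, σ (f x) = f x) {p : ℕ}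
    [hpp : Fact p.Prime]
    (hidx : ∀ y, σ y = y → (∃ j : ℕ, y ^ p ^ j = 1) → ∃ x, f x = y) (S : Sylow p G)
    (htor : ∃ z : ↥(D.group k), ∀ x ∈ (S : Subgroup G), z * f x * z⁻¹ ∈ TT D k) :
    ∃ (y : ↥(D.group k)) (a : G) (w : M.Group),
      (∀ x ∈ (S : Subgroup G), cf f y a x ∈ TT D k) ∧ (∀ x, ct σ y (cf f y a x) = cf f y a x) ∧
      IsFrob r e (ct σ y) ∧
      Fr M.toCoxeterSystem hp.isCartan (TT D k) (XX D l k) (ct σ y)
        (g.trans (repAut M.toCoxeterSystem hp.isCartan w)) ∧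
      Rp M.toCoxeterSystem (tow hp M.toCoxeterSystem hk r).nsys w (y⁻¹ * σ y) := by
  classical
  have hWf := finite_W hp (M.toCoxeterSystem)
  have H := tow hp M.toCoxeterSystem hk r
  have C : Coords M.toCoxeterSystem hp.isCartan (TL (Tj hp (k := k))) (nc hp k) (XL (Xj hp)) (xc hp) (ch hp) := by
    rw [TL_eq hp hk, XL_eq hp hk]
    exact coordsL hp M.toCoxeterSystem hk r
  have hGt := GG_eq_top hp M.toCoxeterSystem hk
  obtain ⟨z, hz⟩ := htor
  have hfinS : Finite ↥(S : Subgroup G) := inferInstance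
  set A : ↥(S : Subgroup G) → ↥(D.group k) := fun s => z * f s * z⁻¹ with hA
  have hAT : ∀ s, A s ∈ TT D k := fun s => hz s.1 s.2
  have hσAT : ∀ s, σ (A s) ∈ TT D k := fun s => (F.tor _).2 (hAT s)
  obtain ⟨m, -, w, n, hn, hns, -⟩ := exists_formZ H C (ι := ↥(S : Subgroup G)) (s := fun s => σ (A s)) (t := A)
    (fun s => by rw [TL_eq hp hk]; exact hσAT s) (fun s => by rw [TL_eq hp hk]; exact hAT s) (c := z * (σ z)⁻¹)
    (by rw [hGt]; exact Subgroup.mem_top _) (fun s => by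
      show z * (σ z)⁻¹ * σ (z * f s * z⁻¹) = z * f s * z⁻¹ * (z * (σ z)⁻¹)
      rw [map_mul, map_mul, map_inv, hfix]
      group)
  -- Lang
  obtain ⟨u, hu⟩ := lang_all hp M.toCoxeterSystem he hσ F 1 n
  have hu' : n = u⁻¹ * σ u := by
    rw [map_one, one_mul] at hu
    exact hu
  have hfixA : ∀ s, σ (u * A s * u⁻¹) = u * A s * u⁻¹ := by
    intro s
    rw [map_mul, map_mul, map_inv]
    have h1 : σ u = u * n := by rw [hu']; group
    have h2 := hns s
    have h3 : n * σ (A s) * n⁻¹ = A s := by rw [h2]; group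
    rw [h1]
    calc u * n * σ (A s) * (u * n)⁻¹ = u * (n * σ (A s) * n⁻¹) * u⁻¹ := by group
      _ = _ := by rw [h3]
  -- the second Sylow subgroup
  have hex : ∀ s : ↥(S : Subgroup G), ∃ x, f x = u * A s * u⁻¹ := by
    intro s
    refine hidx _ (hfixA s) ?_
    obtain ⟨j, hj⟩ := S.2 s
    have hj' : (s : G) ^ p ^ j = 1 := congrArg Subtype.val hj
    refine ⟨j, ?_⟩
    show (u * (z * f s * z⁻¹) * u⁻¹) ^ p ^ j = 1
    rw [conj_pow, conj_pow, ← map_pow, hj', map_one, mul_one, mul_inv_cancel, mul_one, mul_inv_cancel]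
  choose ρ hρ using hex
  let ρh : ↥(S : Subgroup G) →* G :=
    { toFun := ρ
      map_one' := by
        apply hf
        rw [hρ, map_one]
        show u * (z * f 1 * z⁻¹) * u⁻¹ = 1
        rw [map_one, mul_one, mul_inv_cancel, mul_one, mul_inv_cancel]
      map_mul' := fun s t => by
        apply hf
        rw [map_mul, hρ, hρ, hρ]
        show u * (z * f (s.1 * t.1) * z⁻¹) * u⁻¹ = _
        rw [map_mul]
        show _ = u * (z * f s.1 * z⁻¹) * u⁻¹ * (u * (z * f t.1 * z⁻¹) * u⁻¹)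
        group }
  have hρinj : Function.Injective ρh := by
    intro s t hst
    have h1 : ρ s = ρ t := hst
    have h2 : u * (z * f s.1 * z⁻¹) * u⁻¹ = u * (z * f t.1 * z⁻¹) * u⁻¹ := by
      have := congrArg f h1
      rwa [hρ, hρ] at this
    have h3 := mul_left_cancel (mul_right_cancel h2)
    exact Subtype.ext (hf (mul_left_cancel (mul_right_cancel h3)))
  have hcard : Nat.card ↥ρh.range = Nat.card ↥(S : Subgroup G) :=
    (Nat.card_congr (MonoidHom.ofInjective hρinj).toEquiv).symm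
  have hpg : IsPGroup p ↥ρh.range := S.2.of_surjective ρh.rangeRestrict ρh.rangeRestrict_surjective
  have hidx2 : ¬ p ∣ ρh.range.index := by
    have h1 : ρh.range.index = (S : Subgroup G).index := by
      have h2 := Subgroup.card_mul_index ρh.range
      have h3 := Subgroup.card_mul_index (S : Subgroup G)
      rw [hcard, ← h3] at h2
      exact Nat.eq_of_mul_eq_mul_left Nat.card_pos h2
    rw [h1]
    exact S.not_dvd_index
  obtain ⟨a, ha⟩ := MulAction.exists_smul_eq G S (hpg.toSylow hidx2)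
  have haS : ∀ x ∈ (S : Subgroup G), a * x * a⁻¹ ∈ ρh.range := by
    intro x hx
    have h1 : ((a • S : Sylow p G) : Subgroup G) = ρh.range := by rw [ha]; rfl
    rw [← h1, Sylow.coe_subgroup_smul, Subgroup.mem_pointwise_smul_iff_inv_smul_mem, ← map_inv, MulAut.smul_def,
      MulAut.conj_apply, inv_inv]
    have e2 : a⁻¹ * (a * x * a⁻¹) * a = x := by group
    rw [e2]
    exact hx
  refine ⟨u, a, w, ?_, ?_, hσ.conj_mul _, ?_, ?_⟩
  · intro x hx
    obtain ⟨s, hs⟩ := haS x hx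
    rw [cf_apply, ← hs]
    show u⁻¹ * f (ρ s) * u ∈ _
    rw [hρ]
    have e2 : u⁻¹ * (u * A s * u⁻¹) * u = A s := by group
    rw [e2]
    exact hAT s
  · intro x
    rw [ct_fix, cf_apply]
    have e2 : u * (u⁻¹ * f (a * x * a⁻¹) * u) * u⁻¹ = f (a * x * a⁻¹) := by group
    rw [e2, hfix]
  · have h1 := Fr.conj H (by rw [hu'] at hn; exact hn : Rp M.toCoxeterSystem H.nsys w (u⁻¹ * σ u))
    rw [TL_eq hp hk, XL_eq hp hk] at h1
    exact h1.mul F
  · rw [← hu']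
    exact hn

end Cfsg.Agent.H795.Reduce
end

-- part: H795/Core
section
/-!
# The rows `AbIrr` and `NormOm` from a frame automorphism and torality

* `Setup hp p r e f σ g` : `f : G →* D.group k` is injective with range normal in `(D.group k)^σ` and containing all
  `p`-elements and all `r`-elements of `(D.group k)^σ`;
* `coreL_of_setup` : `CoreL`;
* `abIrr_of_setup`, `normOm_of_setup` : the rows.
-/

set_option autoImplicit false
set_option linter.unusedSectionVars false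

namespace Cfsg.Agent.H795.Core

open CoxeterSystem Cfsg Cfsg.Lie Cfsg.Lie.ChevalleyDatum
open Cfsg.Agent.ChevalleyStructure Cfsg.Agent.ChevalleyStructure.Elts Cfsg.Agent.ChevalleyStructure.CoxeterGeom
  Cfsg.Agent.ChevalleyStructure.CoxeterGeomTypes Cfsg.Agent.ChevalleyStructure.NPerm
open Cfsg.Agent.Tits.Roots Cfsg.Agent.Tits.Core Cfsg.Agent.Nodes Cfsg.Agent.Nodes.Reps Cfsg.Agent.Nodes.BNOf
  Cfsg.Agent.Nodes.RGDChev Cfsg.Agent.Nodes.Bruhat
open Cfsg.Agent.KFacts.RgdField Cfsg.Agent.KFacts.RgdChevCoord Cfsg.Agent.BpExc.TorCent Cfsg.Agent.BpExc.TorChev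
open Cfsg.Agent.GpExc.Field Cfsg.Agent.BpExc.Tow Cfsg.Agent.BpExc.TowChev Cfsg.Agent.BpExc.Fr
  Cfsg.Agent.BpExc.LangFr Cfsg.Agent.H795.SetCent Cfsg.Agent.H795.Toral Cfsg.Agent.H795.Reduce
  Cfsg.Agent.H795.RootConn Cfsg.Agent.H123.ExcZ
open scoped Pointwise

universe u v

variable {D : ChevalleyDatum} {l : ℕ} {M : CoxeterMatrix (Fin l)} (hp : IsType D l M)
  {k : Type u} [Field k] {r : ℕ} [Fact r.Prime] [CharP k r]

/-- `G` embedded as a normal subgroup of `(D.group k)^σ` containing the `p`-elements and the `r`-elements. -/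
structure Setup {G : Type v} [Group G] (hp : IsType D l M) (p r e : ℕ) [Fact r.Prime] [CharP k r]
    (f : G →* ↥(D.group k)) (σ : MulAut ↥(D.group k)) (g : (Fin l → ℤ) ≃+ (Fin l → ℤ)) : Prop where
  inj : Function.Injective f
  e_pos : 0 < e
  frob : IsFrob r e σ
  fr : Fr M.toCoxeterSystem hp.isCartan (TT D k) (XX D l k) σ g
  fix : ∀ x, σ (f x) = f x
  norm : ∀ y, σ y = y → ∀ x, ∃ x', f x' = y * f x * y⁻¹
  p_mem : ∀ y, σ y = y → (∃ j : ℕ, y ^ p ^ j = 1) → ∃ x, f x = y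
  r_mem : ∀ y, σ y = y → (∃ j : ℕ, y ^ r ^ j = 1) → ∃ x, f x = y
  fin : Finite {y : ↥(D.group k) // σ y = y}

section

variable {G : Type v} [Group G] [Finite G] {p : ℕ} [hpp : Fact p.Prime]

/-- **The normal `p`-complement of `C_G(A)`**. -/
theorem exists_compl (S : Sylow p G) (hS : IsMulCommutative (S : Subgroup G)) {A : Subgroup G}
    (hA : A ≤ (S : Subgroup G)) (hrf : ¬ Refl p A) :
    ∃ K : Subgroup G, K ≤ Subgroup.centralizer (A : Set G) ∧ ¬ p ∣ Nat.card ↥K ∧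
      ∀ x, x ∈ K ↔ x ∈ Subgroup.centralizer (A : Set G) ∧ ¬ p ∣ orderOf x := by
  classical
  set C := Subgroup.centralizer (A : Set G) with hC
  have hSC : (S : Subgroup G) ≤ C := by
    intro s hs
    rw [hC, Subgroup.mem_centralizer_iff]
    intro a ha
    exact comm_of hS (hA ha) hs
  let P : Sylow p ↥C := S.subtype hSC
  have hP : Subgroup.normalizer ((P : Subgroup ↥C) : Set ↥C) ≤ Subgroup.centralizer ((P : Subgroup ↥C) : Set ↥C) := by
    intro n hn
    rw [Subgroup.mem_centralizer_iff]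
    intro x hx
    have hxS : (x : G) ∈ (S : Subgroup G) := hx
    by_contra hne
    apply hrf
    have h1 : n * x * n⁻¹ ∈ (P : Subgroup ↥C) := (Subgroup.mem_normalizer_iff.1 hn x).1 hx
    have h1' : (n : G) * x * (n : G)⁻¹ ∈ (S : Subgroup G) := h1
    obtain ⟨j, hj⟩ := S.2 ⟨x, hxS⟩
    refine ⟨x, n, ?_, ?_, ⟨j, congrArg Subtype.val hj⟩, ?_, ?_⟩
    · intro h hh
      exact Subgroup.mem_centralizer_iff.1 x.2 h hh
    · intro h hh
      exact Subgroup.mem_centralizer_iff.1 n.2 h hh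
    · exact comm_of hS hxS h1'
    · intro h2
      apply hne
      apply Subtype.ext
      show (x : G) * n = n * x
      rw [mul_inv_eq_iff_eq_mul] at h2
      exact h2.symm
  let T := MonoidHom.transferSylow P hP
  refine ⟨T.ker.map C.subtype, ?_, ?_, ?_⟩
  · rintro _ ⟨y, -, rfl⟩
    exact y.2
  · rw [Subgroup.card_map_of_injective (Subgroup.subtype_injective _)]
    exact MonoidHom.not_dvd_card_ker_transferSylow P hP
  · intro x
    constructor
    · rintro ⟨y, hy, rfl⟩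
      refine ⟨y.2, fun h => ?_⟩
      apply MonoidHom.not_dvd_card_ker_transferSylow P hP
      refine h.trans ?_
      have h1 : orderOf (C.subtype y) = orderOf (⟨y, hy⟩ : ↥T.ker) := by
        exact (Subgroup.orderOf_coe y).trans (Subgroup.orderOf_coe (⟨y, hy⟩ : ↥T.ker))
      rw [h1]
      exact orderOf_dvd_natCard _
    · rintro ⟨hx, hxp⟩
      refine ⟨⟨x, hx⟩, ?_, rfl⟩
      rw [SetLike.mem_coe, MonoidHom.mem_ker]
      have h1 : orderOf (T ⟨x, hx⟩) ∣ orderOf x := by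
        have h2 := orderOf_map_dvd T (⟨x, hx⟩ : ↥C)
        have h3 : orderOf (⟨x, hx⟩ : ↥C) = orderOf x := (Subgroup.orderOf_coe _).symm
        rwa [h3] at h2
      obtain ⟨j, hj⟩ := P.2 (T ⟨x, hx⟩)
      have h3 : orderOf (T ⟨x, hx⟩) ∣ p ^ j := orderOf_dvd_of_pow_eq_one hj
      have h4 : Nat.Coprime (orderOf x) (p ^ j) :=
        (Nat.Coprime.pow_left j ((Nat.Prime.coprime_iff_not_dvd hpp.out).2 hxp)).symm
      have h5 : orderOf (T ⟨x, hx⟩) = 1 := Nat.eq_one_of_dvd_coprimes h4 h1 h3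
      exact orderOf_eq_one_iff.1 h5

end

variable {G : Type v} [Group G] {p e : ℕ} {f : G →* ↥(D.group k)}
  {σ : MulAut ↥(D.group k)} {g : (Fin l → ℤ) ≃+ (Fin l → ℤ)}

theorem Setup.finite_fixZ (h : Setup hp p r e f σ g) {ι : Type*} (x : ι → ↥(D.group k)) : Finite ↥(fixZ σ x) := by
  have := h.fin
  exact Finite.of_injective (fun y : ↥(fixZ σ x) => (⟨y.1, (mem_fixZ.1 y.2).1⟩ : {y : ↥(D.group k) // σ y = y}))
    (fun a b hab => Subtype.ext (congrArg (fun z : {y : ↥(D.group k) // σ y = y} => z.1) hab))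

variable [Finite G] [hpp : Fact p.Prime] [IsAlgClosed k] (hk : LocFin k)

include hk in
/-- **`CoreL` from `Setup`.** -/
theorem coreL_of_setup (h : Setup hp p r e f σ g) (hp2 : p ≠ 2) (hpr : p ≠ r) (S : Sylow p G)
    (hS : IsMulCommutative (S : Subgroup G)) {z : ↥(D.group k)}
    (hz : ∀ x ∈ (S : Subgroup G), z⁻¹ * f x * z ∈ TT D k) :
    CoreL hp p (S : Subgroup G) (cf f z 1) := by
  classical
  intro A hA hrf a ha hAa x hx
  obtain ⟨K, hKC, hKp, hK⟩ := exists_compl S hS hA hrf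
  let xs : ↥A → ↥(D.group k) := fun a => f a
  have hfin : Finite ↥(fixZ σ xs) := h.finite_fixZ hp xs
  have hCA : ∀ y ∈ Subgroup.centralizer (A : Set G), f y ∈ fixZ σ xs := by
    intro y hy
    refine mem_fixZ.2 ⟨h.fix y, fun i => ?_⟩
    show f y * f i = f i * f y
    rw [← map_mul, ← map_mul, Subgroup.mem_centralizer_iff.1 hy i i.2]
  have hSC : (S : Subgroup G) ≤ Subgroup.centralizer (A : Set G) := by
    intro s hs
    rw [Subgroup.mem_centralizer_iff]
    intro a ha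
    exact comm_of hS (hA ha) hs
  have hback : ∀ y : G, f y ∈ fixZ σ xs → y ∈ Subgroup.centralizer (A : Set G) := by
    intro y hy
    rw [Subgroup.mem_centralizer_iff]
    intro a ha
    apply h.inj
    rw [map_mul, map_mul]
    exact ((mem_fixZ.1 hy).2 ⟨a, ha⟩).symm
  -- the normal subgroup
  let Hn : Subgroup ↥(fixZ σ xs) := (K.map f).subgroupOf (fixZ σ xs)
  have hHnmem : ∀ y : ↥(fixZ σ xs), y ∈ Hn ↔ ∃ u ∈ K, f u = y := fun y => Iff.rfl
  have hHn : Hn.Normal := by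
    refine ⟨fun y hy c => ?_⟩
    obtain ⟨u, hu, e1⟩ := (hHnmem y).1 hy
    obtain ⟨u', hu'⟩ := h.norm c (mem_fixZ.1 c.2).1 u
    refine (hHnmem _).2 ⟨u', ?_, ?_⟩
    · refine (hK u').2 ⟨hback u' ?_, ?_⟩
      · rw [hu', e1]
        exact (c * y * c⁻¹).2
      · have h1 : orderOf u' = orderOf u := by
          rw [← orderOf_injective f h.inj u', ← orderOf_injective f h.inj u, hu']
          have h2 := orderOf_injective (MulAut.conj (c : ↥(D.group k))).toMonoidHom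
            (MulAut.conj (c : ↥(D.group k))).injective (f u)
          exact h2
        rw [h1]
        exact ((hK u).1 hu).2
    · rw [hu', e1]
      rfl
  have hHp : ¬ p ∣ Nat.card ↥Hn := by
    have h1 : Nat.card ↥Hn ∣ Nat.card ↥K := by
      have h2 : Nat.card ↥Hn = Nat.card ↥(Hn.map (fixZ σ xs).subtype) :=
        (Subgroup.card_map_of_injective (Subgroup.subtype_injective _)).symm
      have h3 : Hn.map (fixZ σ xs).subtype ≤ K.map f := by
        rintro _ ⟨y, hy, rfl⟩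
        exact hy
      have h4 : Finite ↥(K.map f) := by
        exact Finite.of_surjective (fun u : ↥K => (⟨f u, ⟨u, u.2, rfl⟩⟩ : ↥(K.map f))) (by
          rintro ⟨_, ⟨u, hu, rfl⟩⟩
          exact ⟨⟨u, hu⟩, rfl⟩)
      have h5 : Nat.card ↥(K.map f) = Nat.card ↥K :=
        (Nat.card_congr (K.equivMapOfInjective f h.inj).toEquiv).symm
      rw [h2, ← h5]
      exact Subgroup.card_dvd_of_le h3
    exact fun h2 => hKp (h2.trans h1)
  have hHr : ∀ y : ↥(fixZ σ xs), (∃ m, y ^ r ^ m = 1) → y ∈ Hn := by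
    rintro y ⟨m, hm⟩
    have hm' : (y : ↥(D.group k)) ^ r ^ m = 1 := congrArg Subtype.val hm
    obtain ⟨u, hu⟩ := h.r_mem y (mem_fixZ.1 y.2).1 ⟨m, hm'⟩
    refine (hHnmem y).2 ⟨u, (hK u).2 ⟨hback u (by rw [hu]; exact y.2), ?_⟩, hu⟩
    have h1 : u ^ r ^ m = 1 := by
      apply h.inj
      rw [map_pow, hu, hm', map_one]
    intro h2
    have h3 := h2.trans (orderOf_dvd_of_pow_eq_one h1)
    have h4 := hpp.out.dvd_of_dvd_pow h3
    exact hpr ((Nat.prime_dvd_prime_iff_eq hpp.out Fact.out).1 h4)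
  -- the Sylow subgroup
  have hPp : IsPGroup p ↥(((S : Subgroup G).map f).subgroupOf (fixZ σ xs)) := by
    rintro ⟨y, hy⟩
    obtain ⟨u, hu, e1⟩ := (show ∃ u ∈ (S : Subgroup G), f u = y from hy)
    obtain ⟨j, hj⟩ := S.2 ⟨u, hu⟩
    have hj' : u ^ p ^ j = 1 := congrArg Subtype.val hj
    refine ⟨j, Subtype.ext (Subtype.ext ?_)⟩
    show (y : ↥(D.group k)) ^ p ^ j = 1
    rw [← e1, ← map_pow, hj', map_one]
  let P : Sylow p ↥(fixZ σ xs) :=
    { toSubgroup := ((S : Subgroup G).map f).subgroupOf (fixZ σ xs)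
      isPGroup' := hPp
      is_maximal' := by
        intro Q hQ hle
        apply le_antisymm _ hle
        intro q hq
        -- the preimage of `Q`
        have h1 : IsPGroup p ↥((Q.map (fixZ σ xs).subtype).comap f) :=
          (hQ.map (fixZ σ xs).subtype).comap_of_injective f h.inj
        have h2 : (S : Subgroup G) ≤ (Q.map (fixZ σ xs).subtype).comap f := by
          intro s hs
          refine ⟨⟨f s, hCA s (hSC hs)⟩, hle ?_, rfl⟩
          exact ⟨s, hs, rfl⟩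
        have h3 := S.3 h1 h2
        obtain ⟨j, hj⟩ := hQ ⟨q, hq⟩
        have hj' : (q : ↥(D.group k)) ^ p ^ j = 1 := congrArg Subtype.val (congrArg Subtype.val hj)
        obtain ⟨u, hu⟩ := h.p_mem q (mem_fixZ.1 q.2).1 ⟨j, hj'⟩
        refine ⟨u, ?_, hu⟩
        show u ∈ (S : Subgroup G)
        rw [← h3]
        exact ⟨q, hq, hu.symm⟩ }
  have hmain := Cfsg.Agent.H123.ExcMain.main hp M.toCoxeterSystem hk h.e_pos h.frob h.fr (x := xs) (z₀ := z)
    (fun i => h.fix i) (fun i => hz i (hA i.2)) hp2 hpr (fun i => by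
      obtain ⟨j, hj⟩ := S.2 ⟨i, hA i.2⟩
      have hj' : (i : G) ^ p ^ j = 1 := congrArg Subtype.val hj
      refine ⟨j, ?_⟩
      show f i ^ p ^ j = 1
      rw [← map_pow, hj', map_one]) Hn hHp hHr P (fun y hy => by
      obtain ⟨u, hu, e1⟩ := (show ∃ u ∈ (S : Subgroup G), f u = y from hy)
      rw [← e1]
      exact hz u hu)
  have hcf : ∀ y : G, cf f z 1 y = z⁻¹ * f y * z := by
    intro y
    rw [cf_apply, one_mul, inv_one, mul_one]
  rw [hcf]
  refine hmain.2 ⟨f x, hCA x (hSC hx)⟩ ⟨x, hx, rfl⟩ a ha (fun i => ?_)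
  have h1 := hAa i i.2
  rw [hcf] at h1
  exact h1

/-- torality of the abelian Sylow subgroups -/
def Tor (p : ℕ) (f : G →* ↥(D.group k)) : Prop :=
  ∀ S : Sylow p G, IsMulCommutative (S : Subgroup G) → ∃ z : ↥(D.group k), ∀ x ∈ (S : Subgroup G), z⁻¹ * f x * z ∈ TT D k

include hk in
/-- **The row `AbIrr`.** -/
theorem abIrr_of_setup (h : Setup hp p r e f σ g) (hirr : IrrC M.toCoxeterSystem hp.isCartan) (h5 : 5 ≤ p)
    (hpr : p ≠ r) (htor : Tor p f) : AbIrr p G := by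
  intro S hS B hBS hB hinv
  obtain ⟨z, hz⟩ := htor S hS
  have hcf : ∀ y : G, cf f z 1 y = z⁻¹ * f y * z := by
    intro y
    rw [cf_apply, one_mul, inv_one, mul_one]
  exact irr_of_core hp S hS (cf_injective h.inj z 1) (fun x hx => by rw [hcf]; exact hz x hx) hirr h5
    (coreL_of_setup hp hk h (by omega) hpr S hS hz) B hBS hB hinv

include hk in
/-- **The row `NormOm`.** -/
theorem normOm_of_setup (h : Setup hp p r e f σ g) (hp2 : p ≠ 2) (hpr : p ≠ r) (htor : Tor p f) : NormOm p G := by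
  intro S hS c hc
  obtain ⟨z, hz⟩ := htor S hS
  have hcf : ∀ y : G, cf f z 1 y = z⁻¹ * f y * z := by
    intro y
    rw [cf_apply, one_mul, inv_one, mul_one]
  exact normOm_of_core hp S hS (cf_injective h.inj z 1) (fun x hx => by rw [hcf]; exact hz x hx) hk r
    (coreL_of_setup hp hk h hp2 hpr S hS hz) hc

end Cfsg.Agent.H795.Core
end
end

-- part: H795/TorsData
section
prune_inst 0x30106504762200000818001262003c72f2000402006b880091c00c060d8fdf41a0472f2172d01e121174b8f43838800813540070423000002a00be00411f00a08cab62a2b318bd0436000780f803580c00000000000000000000000000041000000000000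
set_option linter.all false
open scoped Cfsg.Agent.FastGrp

/-!
# Elements of order 5 and 7 of the Weyl groups of type E

`tors_of_data`; the data for `E₆` (5), `E₇` (5, 7), `E₈` (7).
-/

set_option autoImplicit false
set_option linter.unusedSectionVars false

namespace Cfsg.Agent.H795.TorsData

open CoxeterSystem Cfsg Cfsg.Lie Cfsg.Lie.ChevalleyDatum
open Cfsg.Agent.ChevalleyStructure Cfsg.Agent.ChevalleyStructure.CoxeterGeom
  Cfsg.Agent.ChevalleyStructure.CoxeterGeomTypes Cfsg.Agent.ChevalleyStructure.NPerm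
open Cfsg.Agent.Tits.Roots Cfsg.Agent.Tits.Core Cfsg.Agent.Nodes Cfsg.Agent.Nodes.Reps
  Cfsg.Agent.Nodes.RGDChev
open Cfsg.Agent.H129.WData Cfsg.Agent.H129.TorusChar Cfsg.Agent.H795.SetTor

/-- the first matrix of a list -/
def hdm {l : ℕ} : List (Mat l) → Mat l
  | [] => fun j m => if j = m then 1 else 0
  | U :: _ => U

/-- a list of powers of the matrix `Th` -/
def PowOK {l : ℕ} (Th : Mat l) : List (Mat l) → Prop
  | [] => True
  | P :: L => (∀ j m, P j m = ∑ n, hdm L j n * Th n m) ∧ PowOK Th L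

instance decPowOK {l : ℕ} (Th : Mat l) : ∀ L : List (Mat l), Decidable (PowOK Th L)
  | [] => isTrue trivial
  | P :: L =>
    have := decPowOK Th L
    inferInstanceAs (Decidable ((∀ j m, P j m = ∑ n, hdm L j n * Th n m) ∧ PowOK Th L))

section

variable {D : ChevalleyDatum} {l : ℕ} {M : CoxeterMatrix (Fin l)} (hp : IsType D l M)
  {W : Type*} [Group W] (cs : CoxeterSystem M W)

theorem rep_of_sr {w : W} {Th : Mat l} (h : ∀ j, rep cs hp.isCartan w (sr j) = Th j) (x : Fin l → ℤ) (m : Fin l) :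
    rep cs hp.isCartan w x m = ∑ n, x n * Th n m := by
  conv_lhs => rw [IsMC.eq_sum_sr x]
  rw [map_sum, Finset.sum_apply]
  refine Finset.sum_congr rfl fun j _ => ?_
  rw [map_zsmul, Pi.smul_apply, smul_eq_mul, h j]

theorem pow_rep {w : W} {Th : Mat l} (h : ∀ j, rep cs hp.isCartan w (sr j) = Th j) {L : List (Mat l)}
    (hL : PowOK Th L) (j : Fin l) : rep cs hp.isCartan (w ^ L.length) (sr j) = hdm L j := by
  induction L with
  | nil =>
    rw [List.length_nil, pow_zero, map_one, Module.End.one_apply]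
    funext m
    show (sr j : Fin l → ℤ) m = if j = m then 1 else 0
    by_cases hm : j = m
    · subst hm; rw [if_pos rfl, sr_self]
    · rw [if_neg hm, sr_ne (Ne.symm hm)]
  | cons P L ih =>
    obtain ⟨h1, h2⟩ := hL
    rw [List.length_cons, pow_succ', rep_mul_apply, ih h2]
    funext m
    rw [rep_of_sr hp cs h]
    exact (h1 j m).symm

theorem tors_of_data [Finite W] {A : Mat l} (hA : ∀ i j, A i j = cartanOf D l i j) {C : List (Fin l × Mat l)}
    (hC : ChainOK A C) {q : ℕ} (hq : q.Prime) {P : List (Mat l)} (hP : PowOK (hd C) P) (hlen : P.length = q)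
    (h1 : ∀ j m, hdm P j m = if j = m then 1 else 0) (hne : ∃ j m, hd C j m ≠ if j = m then 1 else 0)
    {x : Fin l → Fin l → ℤ}
    (hx : ∀ j ∈ C.map Prod.fst, ∀ m, ∑ n, x j n * hd C n m - x j m = if m = j then 1 else 0)
    (hW : ¬ q ^ 2 ∣ Nat.card W) : Tors cs hp.isCartan q := by
  have hrep := chain_rep hp cs hA hC
  have hid : ∀ j m : Fin l, (sr j : Fin l → ℤ) m = if j = m then 1 else 0 := by
    intro j m
    by_cases hm : j = m
    · subst hm; rw [if_pos rfl, sr_self]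
    · rw [if_neg hm, sr_ne (Ne.symm hm)]
  refine tors_of_cert hq hW (C.map Prod.fst) _ rfl ?_ ?_
  · have hfq : Fact q.Prime := ⟨hq⟩
    refine orderOf_eq_prime ?_ ?_
    · apply rep_injective cs hp.isCartan
      rw [map_one]
      apply LinearMap.ext
      intro y
      funext m
      rw [← hlen, rep_of_sr hp cs (Th := hdm P) (pow_rep hp cs hrep hP) y m, Module.End.one_apply]
      simp only [h1]
      simp
    · intro h2
      obtain ⟨j, m, hjm⟩ := hne
      apply hjm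
      rw [← hrep j, h2, map_one, Module.End.one_apply, hid]
  · intro j hj
    refine ⟨x j, ?_⟩
    funext m
    rw [Pi.sub_apply, rep_of_sr hp cs hrep, hx j hj m, hid]
    by_cases h : j = m
    · rw [if_pos h, if_pos h.symm]
    · rw [if_neg h, if_neg (Ne.symm h)]

end

namespace E6q5

/-- the Cartan matrix -/
def Am : Mat 6 := ![![2, 0, -1, 0, 0, 0], ![0, 2, 0, -1, 0, 0], ![-1, 0, 2, -1, 0, 0], ![0, -1, -1, 2, -1, 0], ![0, 0, 0, -1, 2, -1], ![0, 0, 0, 0, -1, 2]]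

/-- the partial products -/
def chain : List (Fin 6 × Mat 6) := [
    (0, ![![0, 0, 1, 0, 0, 0], ![1, 1, 1, 1, 0, 0], ![0, 0, 0, 1, 0, 0], ![0, 0, 0, 0, 1, 0], ![-1, 0, -1, -1, -1, 0], ![1, 0, 1, 1, 1, 1]]),
    (2, ![![1, 0, 1, 0, 0, 0], ![0, 1, 1, 1, 0, 0], ![0, 0, 0, 1, 0, 0], ![0, 0, 0, 0, 1, 0], ![0, 0, -1, -1, -1, 0], ![0, 0, 1, 1, 1, 1]]),
    (3, ![![1, 0, 0, 0, 0, 0], ![0, 1, 0, 1, 0, 0], ![0, 0, 1, 1, 0, 0], ![0, 0, 0, 0, 1, 0], ![0, 0, 0, -1, -1, 0], ![0, 0, 0, 1, 1, 1]]),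
    (4, ![![1, 0, 0, 0, 0, 0], ![0, 1, 0, 0, 0, 0], ![0, 0, 1, 0, 0, 0], ![0, 0, 0, 1, 1, 0], ![0, 0, 0, 0, -1, 0], ![0, 0, 0, 0, 1, 1]])]

/-- the powers -/
def pw : List (Mat 6) := [
    ![![1, 0, 0, 0, 0, 0], ![0, 1, 0, 0, 0, 0], ![0, 0, 1, 0, 0, 0], ![0, 0, 0, 1, 0, 0], ![0, 0, 0, 0, 1, 0], ![0, 0, 0, 0, 0, 1]],
    ![![-1, 0, -1, -1, -1, 0], ![0, 1, 0, 1, 1, 0], ![1, 0, 0, 0, 0, 0], ![0, 0, 1, 0, 0, 0], ![0, 0, 0, 1, 0, 0], ![0, 0, 0, 0, 1, 1]],
    ![![0, 0, 0, 0, 1, 0], ![0, 1, 1, 2, 1, 0], ![-1, 0, -1, -1, -1, 0], ![1, 0, 0, 0, 0, 0], ![0, 0, 1, 0, 0, 0], ![0, 0, 0, 1, 1, 1]],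
    ![![0, 0, 0, 1, 0, 0], ![1, 1, 2, 2, 1, 0], ![0, 0, 0, 0, 1, 0], ![-1, 0, -1, -1, -1, 0], ![1, 0, 0, 0, 0, 0], ![0, 0, 1, 1, 1, 1]],
    ![![0, 0, 1, 0, 0, 0], ![1, 1, 1, 1, 0, 0], ![0, 0, 0, 1, 0, 0], ![0, 0, 0, 0, 1, 0], ![-1, 0, -1, -1, -1, 0], ![1, 0, 1, 1, 1, 1]]]

/-- the solutions -/
def xs : Mat 6 := ![![0, 2, 1, 2, 1, 0], ![0, 0, 0, 0, 0, 0], ![1, 2, 1, 2, 1, 0], ![1, 2, 2, 2, 1, 0], ![1, 2, 2, 3, 1, 0], ![0, 0, 0, 0, 0, 0]]

theorem hA : ∀ i j, Am i j = cartanOf chevE6 6 i j :=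
  H129.RootF.cE6
theorem chainOK : ChainOK Am chain :=
  H129.ChainF.ok H129.ChainF.i6 H129.ChainF.m6 (H129.ChainF.c6 <| H129.ChainF.c6 <| H129.ChainF.c6 <| H129.ChainF.c6 <| H129.ChainF.nil) (by decide +kernel)
theorem powOK : PowOK (hd chain) pw := by decide +kernel
theorem oneOK : ∀ j m, hdm pw j m = if j = m then 1 else 0 := by decide +kernel
theorem neOK : ∃ j m, hd chain j m ≠ if j = m then 1 else 0 := by decide +kernel
theorem xOK : ∀ j ∈ chain.map Prod.fst, ∀ m, ∑ n, xs j n * hd chain n m - xs j m = if m = j then 1 else 0 := by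
  decide +kernel

end E6q5

namespace E7q5

/-- the Cartan matrix -/
def Am : Mat 7 := ![![2, 0, -1, 0, 0, 0, 0], ![0, 2, 0, -1, 0, 0, 0], ![-1, 0, 2, -1, 0, 0, 0], ![0, -1, -1, 2, -1, 0, 0], ![0, 0, 0, -1, 2, -1, 0], ![0, 0, 0, 0, -1, 2, -1], ![0, 0, 0, 0, 0, -1, 2]]

/-- the partial products -/
def chain : List (Fin 7 × Mat 7) := [
    (0, ![![0, 0, 1, 0, 0, 0, 0], ![1, 1, 1, 1, 0, 0, 0], ![0, 0, 0, 1, 0, 0, 0], ![0, 0, 0, 0, 1, 0, 0], ![-1, 0, -1, -1, -1, 0, 0], ![1, 0, 1, 1, 1, 1, 0], ![0, 0, 0, 0, 0, 0, 1]]),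
    (2, ![![1, 0, 1, 0, 0, 0, 0], ![0, 1, 1, 1, 0, 0, 0], ![0, 0, 0, 1, 0, 0, 0], ![0, 0, 0, 0, 1, 0, 0], ![0, 0, -1, -1, -1, 0, 0], ![0, 0, 1, 1, 1, 1, 0], ![0, 0, 0, 0, 0, 0, 1]]),
    (3, ![![1, 0, 0, 0, 0, 0, 0], ![0, 1, 0, 1, 0, 0, 0], ![0, 0, 1, 1, 0, 0, 0], ![0, 0, 0, 0, 1, 0, 0], ![0, 0, 0, -1, -1, 0, 0], ![0, 0, 0, 1, 1, 1, 0], ![0, 0, 0, 0, 0, 0, 1]]),
    (4, ![![1, 0, 0, 0, 0, 0, 0], ![0, 1, 0, 0, 0, 0, 0], ![0, 0, 1, 0, 0, 0, 0], ![0, 0, 0, 1, 1, 0, 0], ![0, 0, 0, 0, -1, 0, 0], ![0, 0, 0, 0, 1, 1, 0], ![0, 0, 0, 0, 0, 0, 1]])]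

/-- the powers -/
def pw : List (Mat 7) := [
    ![![1, 0, 0, 0, 0, 0, 0], ![0, 1, 0, 0, 0, 0, 0], ![0, 0, 1, 0, 0, 0, 0], ![0, 0, 0, 1, 0, 0, 0], ![0, 0, 0, 0, 1, 0, 0], ![0, 0, 0, 0, 0, 1, 0], ![0, 0, 0, 0, 0, 0, 1]],
    ![![-1, 0, -1, -1, -1, 0, 0], ![0, 1, 0, 1, 1, 0, 0], ![1, 0, 0, 0, 0, 0, 0], ![0, 0, 1, 0, 0, 0, 0], ![0, 0, 0, 1, 0, 0, 0], ![0, 0, 0, 0, 1, 1, 0], ![0, 0, 0, 0, 0, 0, 1]],
    ![![0, 0, 0, 0, 1, 0, 0], ![0, 1, 1, 2, 1, 0, 0], ![-1, 0, -1, -1, -1, 0, 0], ![1, 0, 0, 0, 0, 0, 0], ![0, 0, 1, 0, 0, 0, 0], ![0, 0, 0, 1, 1, 1, 0], ![0, 0, 0, 0, 0, 0, 1]],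
    ![![0, 0, 0, 1, 0, 0, 0], ![1, 1, 2, 2, 1, 0, 0], ![0, 0, 0, 0, 1, 0, 0], ![-1, 0, -1, -1, -1, 0, 0], ![1, 0, 0, 0, 0, 0, 0], ![0, 0, 1, 1, 1, 1, 0], ![0, 0, 0, 0, 0, 0, 1]],
    ![![0, 0, 1, 0, 0, 0, 0], ![1, 1, 1, 1, 0, 0, 0], ![0, 0, 0, 1, 0, 0, 0], ![0, 0, 0, 0, 1, 0, 0], ![-1, 0, -1, -1, -1, 0, 0], ![1, 0, 1, 1, 1, 1, 0], ![0, 0, 0, 0, 0, 0, 1]]]

/-- the solutions -/
def xs : Mat 7 := ![![0, 2, 1, 2, 1, 0, 0], ![0, 0, 0, 0, 0, 0, 0], ![1, 2, 1, 2, 1, 0, 0], ![1, 2, 2, 2, 1, 0, 0], ![1, 2, 2, 3, 1, 0, 0], ![0, 0, 0, 0, 0, 0, 0], ![0, 0, 0, 0, 0, 0, 0]]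

theorem hA : ∀ i j, Am i j = cartanOf chevE7 7 i j :=
  H129.RootF.cE7
theorem chainOK : ChainOK Am chain :=
  H129.ChainF.ok H129.ChainF.i7 H129.ChainF.m7 (H129.ChainF.c7 <| H129.ChainF.c7 <| H129.ChainF.c7 <| H129.ChainF.c7 <| H129.ChainF.nil) (by decide +kernel)
theorem powOK : PowOK (hd chain) pw := by decide +kernel
theorem oneOK : ∀ j m, hdm pw j m = if j = m then 1 else 0 := by decide +kernel
theorem neOK : ∃ j m, hd chain j m ≠ if j = m then 1 else 0 := by decide +kernel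
attribute [local instance high] _root_.List.decidableBAll in
theorem xOK : ∀ j ∈ chain.map Prod.fst, ∀ m, ∑ n, xs j n * hd chain n m - xs j m = if m = j then 1 else 0 := by
  decide +kernel

end E7q5

namespace E7q7

/-- the Cartan matrix -/
def Am : Mat 7 := ![![2, 0, -1, 0, 0, 0, 0], ![0, 2, 0, -1, 0, 0, 0], ![-1, 0, 2, -1, 0, 0, 0], ![0, -1, -1, 2, -1, 0, 0], ![0, 0, 0, -1, 2, -1, 0], ![0, 0, 0, 0, -1, 2, -1], ![0, 0, 0, 0, 0, -1, 2]]

/-- the partial products -/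
def chain : List (Fin 7 × Mat 7) := [
    (0, ![![0, 0, 1, 0, 0, 0, 0], ![1, 1, 1, 1, 0, 0, 0], ![0, 0, 0, 1, 0, 0, 0], ![0, 0, 0, 0, 1, 0, 0], ![0, 0, 0, 0, 0, 1, 0], ![0, 0, 0, 0, 0, 0, 1], ![-1, 0, -1, -1, -1, -1, -1]]),
    (2, ![![1, 0, 1, 0, 0, 0, 0], ![0, 1, 1, 1, 0, 0, 0], ![0, 0, 0, 1, 0, 0, 0], ![0, 0, 0, 0, 1, 0, 0], ![0, 0, 0, 0, 0, 1, 0], ![0, 0, 0, 0, 0, 0, 1], ![0, 0, -1, -1, -1, -1, -1]]),
    (3, ![![1, 0, 0, 0, 0, 0, 0], ![0, 1, 0, 1, 0, 0, 0], ![0, 0, 1, 1, 0, 0, 0], ![0, 0, 0, 0, 1, 0, 0], ![0, 0, 0, 0, 0, 1, 0], ![0, 0, 0, 0, 0, 0, 1], ![0, 0, 0, -1, -1, -1, -1]]),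
    (4, ![![1, 0, 0, 0, 0, 0, 0], ![0, 1, 0, 0, 0, 0, 0], ![0, 0, 1, 0, 0, 0, 0], ![0, 0, 0, 1, 1, 0, 0], ![0, 0, 0, 0, 0, 1, 0], ![0, 0, 0, 0, 0, 0, 1], ![0, 0, 0, 0, -1, -1, -1]]),
    (5, ![![1, 0, 0, 0, 0, 0, 0], ![0, 1, 0, 0, 0, 0, 0], ![0, 0, 1, 0, 0, 0, 0], ![0, 0, 0, 1, 0, 0, 0], ![0, 0, 0, 0, 1, 1, 0], ![0, 0, 0, 0, 0, 0, 1], ![0, 0, 0, 0, 0, -1, -1]]),
    (6, ![![1, 0, 0, 0, 0, 0, 0], ![0, 1, 0, 0, 0, 0, 0], ![0, 0, 1, 0, 0, 0, 0], ![0, 0, 0, 1, 0, 0, 0], ![0, 0, 0, 0, 1, 0, 0], ![0, 0, 0, 0, 0, 1, 1], ![0, 0, 0, 0, 0, 0, -1]])]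

/-- the powers -/
def pw : List (Mat 7) := [
    ![![1, 0, 0, 0, 0, 0, 0], ![0, 1, 0, 0, 0, 0, 0], ![0, 0, 1, 0, 0, 0, 0], ![0, 0, 0, 1, 0, 0, 0], ![0, 0, 0, 0, 1, 0, 0], ![0, 0, 0, 0, 0, 1, 0], ![0, 0, 0, 0, 0, 0, 1]],
    ![![-1, 0, -1, -1, -1, -1, -1], ![0, 1, 0, 1, 1, 1, 1], ![1, 0, 0, 0, 0, 0, 0], ![0, 0, 1, 0, 0, 0, 0], ![0, 0, 0, 1, 0, 0, 0], ![0, 0, 0, 0, 1, 0, 0], ![0, 0, 0, 0, 0, 1, 0]],
    ![![0, 0, 0, 0, 0, 0, 1], ![0, 1, 1, 2, 2, 2, 1], ![-1, 0, -1, -1, -1, -1, -1], ![1, 0, 0, 0, 0, 0, 0], ![0, 0, 1, 0, 0, 0, 0], ![0, 0, 0, 1, 0, 0, 0], ![0, 0, 0, 0, 1, 0, 0]],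
    ![![0, 0, 0, 0, 0, 1, 0], ![1, 1, 2, 3, 3, 2, 1], ![0, 0, 0, 0, 0, 0, 1], ![-1, 0, -1, -1, -1, -1, -1], ![1, 0, 0, 0, 0, 0, 0], ![0, 0, 1, 0, 0, 0, 0], ![0, 0, 0, 1, 0, 0, 0]],
    ![![0, 0, 0, 0, 1, 0, 0], ![1, 1, 2, 3, 2, 1, 0], ![0, 0, 0, 0, 0, 1, 0], ![0, 0, 0, 0, 0, 0, 1], ![-1, 0, -1, -1, -1, -1, -1], ![1, 0, 0, 0, 0, 0, 0], ![0, 0, 1, 0, 0, 0, 0]],
    ![![0, 0, 0, 1, 0, 0, 0], ![1, 1, 2, 2, 1, 0, 0], ![0, 0, 0, 0, 1, 0, 0], ![0, 0, 0, 0, 0, 1, 0], ![0, 0, 0, 0, 0, 0, 1], ![-1, 0, -1, -1, -1, -1, -1], ![1, 0, 0, 0, 0, 0, 0]],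
    ![![0, 0, 1, 0, 0, 0, 0], ![1, 1, 1, 1, 0, 0, 0], ![0, 0, 0, 1, 0, 0, 0], ![0, 0, 0, 0, 1, 0, 0], ![0, 0, 0, 0, 0, 1, 0], ![0, 0, 0, 0, 0, 0, 1], ![-1, 0, -1, -1, -1, -1, -1]]]

/-- the solutions -/
def xs : Mat 7 := ![![-2, -2, -3, -4, -3, -2, -1], ![0, 0, 0, 0, 0, 0, 0], ![-1, -2, -3, -4, -3, -2, -1], ![-1, -2, -2, -4, -3, -2, -1], ![-1, -2, -2, -3, -3, -2, -1], ![-1, -2, -2, -3, -2, -2, -1], ![-1, -2, -2, -3, -2, -1, -1]]

theorem hA : ∀ i j, Am i j = cartanOf chevE7 7 i j :=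
  H129.RootF.cE7
theorem chainOK : ChainOK Am chain :=
  H129.ChainF.ok H129.ChainF.i7 H129.ChainF.m7 (H129.ChainF.c7 <| H129.ChainF.c7 <| H129.ChainF.c7 <| H129.ChainF.c7 <| H129.ChainF.c7 <| H129.ChainF.c7 <| H129.ChainF.nil) (by decide +kernel)
theorem powOK : PowOK (hd chain) pw := by decide +kernel
theorem oneOK : ∀ j m, hdm pw j m = if j = m then 1 else 0 := by decide +kernel
theorem neOK : ∃ j m, hd chain j m ≠ if j = m then 1 else 0 := by decide +kernel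
attribute [local instance high] _root_.List.decidableBAll in
theorem xOK : ∀ j ∈ chain.map Prod.fst, ∀ m, ∑ n, xs j n * hd chain n m - xs j m = if m = j then 1 else 0 := by
  decide +kernel

end E7q7

namespace E8q7

/-- the Cartan matrix -/
def Am : Mat 8 := ![![2, 0, -1, 0, 0, 0, 0, 0], ![0, 2, 0, -1, 0, 0, 0, 0], ![-1, 0, 2, -1, 0, 0, 0, 0], ![0, -1, -1, 2, -1, 0, 0, 0], ![0, 0, 0, -1, 2, -1, 0, 0], ![0, 0, 0, 0, -1, 2, -1, 0], ![0, 0, 0, 0, 0, -1, 2, -1], ![0, 0, 0, 0, 0, 0, -1, 2]]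

/-- the partial products -/
def chain : List (Fin 8 × Mat 8) := [
    (1, ![![1, 0, 0, 0, 0, 0, 0, 0], ![0, 0, 0, 1, 0, 0, 0, 0], ![0, 1, 1, 1, 0, 0, 0, 0], ![0, 0, 0, 0, 1, 0, 0, 0], ![0, 0, 0, 0, 0, 1, 0, 0], ![0, 0, 0, 0, 0, 0, 1, 0], ![0, 0, 0, 0, 0, 0, 0, 1], ![0, -1, 0, -1, -1, -1, -1, -1]]),
    (3, ![![1, 0, 0, 0, 0, 0, 0, 0], ![0, 1, 0, 1, 0, 0, 0, 0], ![0, 0, 1, 1, 0, 0, 0, 0], ![0, 0, 0, 0, 1, 0, 0, 0], ![0, 0, 0, 0, 0, 1, 0, 0], ![0, 0, 0, 0, 0, 0, 1, 0], ![0, 0, 0, 0, 0, 0, 0, 1], ![0, 0, 0, -1, -1, -1, -1, -1]]),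
    (4, ![![1, 0, 0, 0, 0, 0, 0, 0], ![0, 1, 0, 0, 0, 0, 0, 0], ![0, 0, 1, 0, 0, 0, 0, 0], ![0, 0, 0, 1, 1, 0, 0, 0], ![0, 0, 0, 0, 0, 1, 0, 0], ![0, 0, 0, 0, 0, 0, 1, 0], ![0, 0, 0, 0, 0, 0, 0, 1], ![0, 0, 0, 0, -1, -1, -1, -1]]),
    (5, ![![1, 0, 0, 0, 0, 0, 0, 0], ![0, 1, 0, 0, 0, 0, 0, 0], ![0, 0, 1, 0, 0, 0, 0, 0], ![0, 0, 0, 1, 0, 0, 0, 0], ![0, 0, 0, 0, 1, 1, 0, 0], ![0, 0, 0, 0, 0, 0, 1, 0], ![0, 0, 0, 0, 0, 0, 0, 1], ![0, 0, 0, 0, 0, -1, -1, -1]]),
    (6, ![![1, 0, 0, 0, 0, 0, 0, 0], ![0, 1, 0, 0, 0, 0, 0, 0], ![0, 0, 1, 0, 0, 0, 0, 0], ![0, 0, 0, 1, 0, 0, 0, 0], ![0, 0, 0, 0, 1, 0, 0, 0], ![0, 0, 0, 0, 0, 1, 1, 0], ![0, 0, 0, 0, 0, 0, 0, 1], ![0, 0, 0, 0, 0, 0, -1, -1]]),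
    (7, ![![1, 0, 0, 0, 0, 0, 0, 0], ![0, 1, 0, 0, 0, 0, 0, 0], ![0, 0, 1, 0, 0, 0, 0, 0], ![0, 0, 0, 1, 0, 0, 0, 0], ![0, 0, 0, 0, 1, 0, 0, 0], ![0, 0, 0, 0, 0, 1, 0, 0], ![0, 0, 0, 0, 0, 0, 1, 1], ![0, 0, 0, 0, 0, 0, 0, -1]])]

/-- the powers -/
def pw : List (Mat 8) := [
    ![![1, 0, 0, 0, 0, 0, 0, 0], ![0, 1, 0, 0, 0, 0, 0, 0], ![0, 0, 1, 0, 0, 0, 0, 0], ![0, 0, 0, 1, 0, 0, 0, 0], ![0, 0, 0, 0, 1, 0, 0, 0], ![0, 0, 0, 0, 0, 1, 0, 0], ![0, 0, 0, 0, 0, 0, 1, 0], ![0, 0, 0, 0, 0, 0, 0, 1]],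
    ![![1, 0, 0, 0, 0, 0, 0, 0], ![0, -1, 0, -1, -1, -1, -1, -1], ![0, 0, 1, 1, 1, 1, 1, 1], ![0, 1, 0, 0, 0, 0, 0, 0], ![0, 0, 0, 1, 0, 0, 0, 0], ![0, 0, 0, 0, 1, 0, 0, 0], ![0, 0, 0, 0, 0, 1, 0, 0], ![0, 0, 0, 0, 0, 0, 1, 0]],
    ![![1, 0, 0, 0, 0, 0, 0, 0], ![0, 0, 0, 0, 0, 0, 0, 1], ![0, 1, 1, 2, 2, 2, 2, 1], ![0, -1, 0, -1, -1, -1, -1, -1], ![0, 1, 0, 0, 0, 0, 0, 0], ![0, 0, 0, 1, 0, 0, 0, 0], ![0, 0, 0, 0, 1, 0, 0, 0], ![0, 0, 0, 0, 0, 1, 0, 0]],
    ![![1, 0, 0, 0, 0, 0, 0, 0], ![0, 0, 0, 0, 0, 0, 1, 0], ![0, 1, 1, 2, 2, 2, 1, 0], ![0, 0, 0, 0, 0, 0, 0, 1], ![0, -1, 0, -1, -1, -1, -1, -1], ![0, 1, 0, 0, 0, 0, 0, 0], ![0, 0, 0, 1, 0, 0, 0, 0], ![0, 0, 0, 0, 1, 0, 0, 0]],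
    ![![1, 0, 0, 0, 0, 0, 0, 0], ![0, 0, 0, 0, 0, 1, 0, 0], ![0, 1, 1, 2, 2, 1, 0, 0], ![0, 0, 0, 0, 0, 0, 1, 0], ![0, 0, 0, 0, 0, 0, 0, 1], ![0, -1, 0, -1, -1, -1, -1, -1], ![0, 1, 0, 0, 0, 0, 0, 0], ![0, 0, 0, 1, 0, 0, 0, 0]],
    ![![1, 0, 0, 0, 0, 0, 0, 0], ![0, 0, 0, 0, 1, 0, 0, 0], ![0, 1, 1, 2, 1, 0, 0, 0], ![0, 0, 0, 0, 0, 1, 0, 0], ![0, 0, 0, 0, 0, 0, 1, 0], ![0, 0, 0, 0, 0, 0, 0, 1], ![0, -1, 0, -1, -1, -1, -1, -1], ![0, 1, 0, 0, 0, 0, 0, 0]],
    ![![1, 0, 0, 0, 0, 0, 0, 0], ![0, 0, 0, 1, 0, 0, 0, 0], ![0, 1, 1, 1, 0, 0, 0, 0], ![0, 0, 0, 0, 1, 0, 0, 0], ![0, 0, 0, 0, 0, 1, 0, 0], ![0, 0, 0, 0, 0, 0, 1, 0], ![0, 0, 0, 0, 0, 0, 0, 1], ![0, -1, 0, -1, -1, -1, -1, -1]]]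

/-- the solutions -/
def xs : Mat 8 := ![![0, 0, 0, 0, 0, 0, 0, 0], ![0, 2, 4, 5, 4, 3, 2, 1], ![0, 0, 0, 0, 0, 0, 0, 0], ![0, 3, 4, 5, 4, 3, 2, 1], ![0, 3, 4, 6, 4, 3, 2, 1], ![0, 3, 4, 6, 5, 3, 2, 1], ![0, 3, 4, 6, 5, 4, 2, 1], ![0, 3, 4, 6, 5, 4, 3, 1]]

theorem hA : ∀ i j, Am i j = cartanOf chevE8 8 i j :=
  H129.RootF.cE8
theorem chainOK : ChainOK Am chain :=
  H129.ChainF.ok H129.ChainF.i8 H129.ChainF.m8 (H129.ChainF.c8 <| H129.ChainF.c8 <| H129.ChainF.c8 <| H129.ChainF.c8 <| H129.ChainF.c8 <| H129.ChainF.c8 <| H129.ChainF.nil) (by decide +kernel)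
theorem powOK : PowOK (hd chain) pw := by decide +kernel
theorem oneOK : ∀ j m, hdm pw j m = if j = m then 1 else 0 := by decide +kernel
theorem neOK : ∃ j m, hd chain j m ≠ if j = m then 1 else 0 := by decide +kernel
theorem xOK : ∀ j ∈ chain.map Prod.fst, ∀ m, ∑ n, xs j n * hd chain n m - xs j m = if m = j then 1 else 0 := by
  decide +kernel

end E8q7

end Cfsg.Agent.H795.TorsData
end

-- part: H795/Untw
section
set_option linter.all false
open scoped Cfsg.Agent.FastGrp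

-- part: H795/IrrTypes
section
/-!
# Irreducibility of the root systems of the exceptional types (`IrrC`)
-/

set_option autoImplicit false
set_option linter.unusedSectionVars false

namespace Cfsg.Agent.H795.IrrTypes

open CoxeterSystem Cfsg Cfsg.Lie Cfsg.Lie.ChevalleyDatum
open Cfsg.Agent.ChevalleyStructure Cfsg.Agent.ChevalleyStructure.Elts Cfsg.Agent.ChevalleyStructure.CoxeterGeom
  Cfsg.Agent.ChevalleyStructure.CoxeterGeomTypes Cfsg.Agent.ChevalleyStructure.NPerm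
open Cfsg.Agent.Tits.Roots Cfsg.Agent.Tits.Core Cfsg.Agent.H795.RootConn
  Cfsg.Agent.Nodes.RGDChev

/-- connectivity of the diagram, decidable form: every node different from `0` is joined to a smaller position in a
list exhausting the nodes -/
def Tree {n : ℕ} (A : Fin n → Fin n → ℤ) (pr : Fin n → Fin n) (dep : Fin n → ℕ) : Prop :=
  ∀ j, dep j ≠ 0 → A (pr j) j ≠ 0 ∧ A j (pr j) ≠ 0 ∧ dep (pr j) < dep j

instance decTree {n : ℕ} (A : Fin n → Fin n → ℤ) (pr : Fin n → Fin n) (dep : Fin n → ℕ) : Decidable (Tree A pr dep) := by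
  unfold Tree; infer_instance

theorem conn_of_tree {n : ℕ} {A : Fin n → Fin n → ℤ} {pr : Fin n → Fin n} {dep : Fin n → ℕ} (h : Tree A pr dep)
    (h0 : ∀ i j, dep i = 0 → dep j = 0 → i = j) (S : Set (Fin n)) (hS : S.Nonempty) (hS' : Sᶜ.Nonempty) :
    ∃ i ∈ S, ∃ j ∈ Sᶜ, A i j ≠ 0 := by
  by_contra hcon
  push Not at hcon
  -- `S` and its complement are closed under `pr`
  have key : ∀ m : ℕ, ∀ i, dep i = m → ∃ i0, dep i0 = 0 ∧ (i ∈ S ↔ i0 ∈ S) := by
    intro m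
    induction m using Nat.strong_induction_on with
    | _ m ih =>
      intro i hi
      by_cases hm : dep i = 0
      · exact ⟨i, hm, Iff.rfl⟩
      · obtain ⟨h1, h2, h3⟩ := h i hm
        obtain ⟨i0, h4, h5⟩ := ih (dep (pr i)) (by omega) (pr i) rfl
        refine ⟨i0, h4, ?_⟩
        rw [← h5]
        constructor
        · intro hiS
          by_contra hp
          exact h2 (hcon i hiS (pr i) hp)
        · intro hpS
          by_contra hi'
          exact h1 (hcon (pr i) hpS i hi')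
  obtain ⟨a, ha⟩ := hS
  obtain ⟨b, hb⟩ := hS'
  obtain ⟨a0, h1, h2⟩ := key _ a rfl
  obtain ⟨b0, h3, h4⟩ := key _ b rfl
  have h5 := h0 a0 b0 h1 h3
  subst h5
  exact hb (h4.2 (h2.1 ha))

variable {D : ChevalleyDatum} {l : ℕ} {M : CoxeterMatrix (Fin l)}

theorem irrC_of_tree (hp : IsType D l M) {pr : Fin l → Fin l} {dep : Fin l → ℕ} (h : Tree (cartanOf D l) pr dep)
    (h0 : ∀ i j, dep i = 0 → dep j = 0 → i = j) : IrrC M.toCoxeterSystem hp.isCartan := by
  have := finite_W hp M.toCoxeterSystem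
  exact irrC_of_conn (conn_of_tree h h0)

theorem g2 (hp : IsType chevG2 2 CoxeterMatrix.G₂) : IrrC CoxeterMatrix.G₂.toCoxeterSystem hp.isCartan :=
  irrC_of_tree hp (pr := ![0, 0]) (dep := ![0, 1]) (by decide +kernel) (by decide +kernel)

theorem d4 (hp : IsType chevD4 4 coxeterD4) : IrrC coxeterD4.toCoxeterSystem hp.isCartan :=
  irrC_of_tree hp (pr := ![1, 1, 1, 1]) (dep := ![1, 0, 1, 1]) (by decide +kernel) (by decide +kernel)

theorem f4 (hp : IsType chevF4 4 CoxeterMatrix.F₄) : IrrC CoxeterMatrix.F₄.toCoxeterSystem hp.isCartan :=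
  irrC_of_tree hp (pr := ![0, 0, 1, 2]) (dep := ![0, 1, 2, 3]) (by decide +kernel) (by decide +kernel)

theorem e6 (hp : IsType chevE6 6 CoxeterMatrix.E₆) : IrrC CoxeterMatrix.E₆.toCoxeterSystem hp.isCartan :=
  irrC_of_tree hp (pr := ![0, 3, 0, 2, 3, 4]) (dep := ![0, 3, 1, 2, 3, 4]) (by decide +kernel) (by decide +kernel)

theorem e7 (hp : IsType chevE7 7 CoxeterMatrix.E₇) : IrrC CoxeterMatrix.E₇.toCoxeterSystem hp.isCartan :=
  irrC_of_tree hp (pr := ![0, 3, 0, 2, 3, 4, 5]) (dep := ![0, 3, 1, 2, 3, 4, 5]) (by decide +kernel)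
    (by decide +kernel)

theorem e8 (hp : IsType chevE8 8 CoxeterMatrix.E₈) : IrrC CoxeterMatrix.E₈.toCoxeterSystem hp.isCartan :=
  irrC_of_tree hp (pr := ![0, 3, 0, 2, 3, 4, 5, 6]) (dep := ![0, 3, 1, 2, 3, 4, 5, 6]) (by decide +kernel)
    (by decide +kernel)

end Cfsg.Agent.H795.IrrTypes
end

-- part: H795/Untw
section
/-!
# The rows `AbIrr` and `NormOm` for the untwisted groups, `p ≥ 5`, `p² ∤ |W|`
-/

set_option autoImplicit false
set_option linter.unusedSectionVars false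

namespace Cfsg.Agent.H795.Untw

open CoxeterSystem Cfsg Cfsg.Lie Cfsg.Lie.ChevalleyDatum
open Cfsg.Agent.ChevalleyStructure Cfsg.Agent.ChevalleyStructure.Elts Cfsg.Agent.ChevalleyStructure.CoxeterGeom
  Cfsg.Agent.ChevalleyStructure.CoxeterGeomTypes Cfsg.Agent.ChevalleyStructure.NPerm
open Cfsg.Agent.Tits.Roots Cfsg.Agent.Tits.Core Cfsg.Agent.Nodes Cfsg.Agent.Nodes.Reps Cfsg.Agent.Nodes.BNOf
  Cfsg.Agent.Nodes.RGDChev Cfsg.Agent.Nodes.Bruhat
open Cfsg.Agent.KFacts.RgdField Cfsg.Agent.KFacts.RgdChevCoord Cfsg.Agent.BpExc.TorCent Cfsg.Agent.BpExc.TorChev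
open Cfsg.Agent.GpExc.Field Cfsg.Agent.BpExc.Tow Cfsg.Agent.BpExc.TowChev Cfsg.Agent.BpExc.Fr
  Cfsg.Agent.BpExc.LangFr Cfsg.Agent.H795.SetCent Cfsg.Agent.H795.Toral Cfsg.Agent.H795.Core
  Cfsg.Agent.H795.RootConn Cfsg.Agent.H795.SetTor Cfsg.Agent.H129.TorusChar Cfsg.Agent.H129.TorusUntw
  Cfsg.Agent.BpExc

universe u

theorem mem_of_pow_mem {G : Type*} [Group G] {N : Subgroup G} {y : G} {d n : ℕ} (hcop : Nat.Coprime d n)
    (hy : y ^ n = 1) (h : y ^ d ∈ N) : y ∈ N := by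
  have h1 : y ∈ Subgroup.zpowers (y ^ d) :=
    mem_zpowers_pow_iff.2 (Nat.Coprime.coprime_dvd_right (orderOf_dvd_of_pow_eq_one hy) hcop)
  exact (Subgroup.zpowers_le.2 h) h1

variable {D : ChevalleyDatum} {l : ℕ} {M : CoxeterMatrix (Fin l)} (hp : IsType D l M)

section

variable {W : Type*} [Group W] (cs : CoxeterSystem M W) {k : Type u} [Field k] [IsAlgClosed k] {r e : ℕ}
  [Fact r.Prime] [CharP k r] {F : Type u} [Field F] [Fintype F] (f : F →+* k)

include cs in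
/-- The `d`-th powers of the fixed points lie in the image of the finite group. -/
theorem fix_pow_range (hq : Fintype.card F = r ^ e) {d : ℕ} {B : Fin l → Fin l → ℤ}
    (hB : InvC D l d B) (hd : d ≠ 0) {y : ↥(D.group k)} (hy : phi D k r e y = y) :
    y ^ d ∈ (emb hp.inList f).range := by
  obtain ⟨x, t, ht, rfl⟩ := fix_split hp f hq hy
  have hf : phi D k r e t = t := by
    rw [map_mul, phi_emb hp f hq] at hy
    exact mul_left_cancel hy
  have key : ∀ n : ℕ, ∃ x' : ↥(D.group F), (emb hp.inList f x * t) ^ n = emb hp.inList f x' * t ^ n := by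
    intro n
    induction n with
    | zero => exact ⟨1, by simp⟩
    | succ n ih =>
      obtain ⟨x', hx'⟩ := ih
      have hfn : phi D k r e (t ^ n) = t ^ n := by rw [map_pow, hf]
      have h1 := Emb.conj_mem_range (F := F) (hD := hp.inList) (f := f) (φ := iterateFrobenius k r e)
        (fun t => by rw [iterateFrobenius_def, hq]) (σ := phi D k r e) coe_phi hfn
        (n := emb hp.inList f x) ⟨x, rfl⟩
      obtain ⟨x'', hx''⟩ := h1
      refine ⟨x' * x'', ?_⟩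
      rw [pow_succ, hx', map_mul, hx'', pow_succ]
      group
  obtain ⟨x', hx'⟩ := key d
  rw [hx']
  exact mul_mem ⟨x', rfl⟩ (fix_pow hp cs f hq hB hd ht hf)

end

section

variable {k : Type u} [Field k] [IsAlgClosed k] (hk : LocFin k) {r e : ℕ}
  [Fact r.Prime] [CharP k r] {F : Type u} [Field F] [Fintype F] (f : F →+* k)

include hk in
theorem finite_fix (he : 0 < e) : Finite {y : ↥(D.group k) // phi D k r e y = y} := by
  have hfin : Finite ↥(TorAll.EE r e : Subfield k) := TorAll.finite_EE r he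
  let S : Set k := {x | x ^ r ^ e = x}
  have hS : S.Finite := by
    have : Finite S := Finite.of_injective (fun x : S => (⟨x.1, (TorAll.mem_EE r).2 x.2⟩ : ↥(TorAll.EE r e : Subfield k)))
      (fun a b hab => Subtype.ext (congrArg (fun z : ↥(TorAll.EE r e : Subfield k) => (z : k)) hab))
    exact Set.toFinite S
  have hSf : Finite S := hS
  let c : {y : ↥(D.group k) // phi D k r e y = y} → (D.Idx → D.Idx → S) :=
    fun y i j => ⟨((y.1 : GL D.Idx k) : Matrix D.Idx D.Idx k) i j, by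
      have h1 := congrArg (fun z : ↥(D.group k) => (((z : GL D.Idx k) : Matrix D.Idx D.Idx k) i j)) y.2
      have h2 : ((phi D k r e y.1 : ↥(D.group k)) : GL D.Idx k) = glMap D (iterateFrobenius k r e) y.1 := coe_phi _
      simp only [h2, coe_glMap] at h1
      exact h1⟩
  exact Finite.of_injective c (fun a b hab => by
    apply Subtype.ext
    apply Subtype.ext
    apply Units.ext
    ext i j
    exact congrArg Subtype.val (congrFun (congrFun hab i) j))

include hk in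
/-- **The setup for the untwisted groups.** -/
theorem setup_untw (he : 0 < e) (hq : Fintype.card F = r ^ e) {d : ℕ} {B : Fin l → Fin l → ℤ}
    (hB : InvC D l d B) (hd : d ≠ 0) (hd1 : d = 1 ∨ d.Prime) {p : ℕ} [hpp : Fact p.Prime] (hpd : ¬ p ∣ d) :
    Setup hp p r e (emb hp.inList f) (phi D k r e) (AddEquiv.refl (Fin l → ℤ)) where
  inj := emb_injective hp.inList f
  e_pos := he
  frob := isFrob_phi
  fr := fr_phi hp _
  fix := phi_emb hp f hq
  norm := by
    intro y hy x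
    obtain ⟨b, hb⟩ := Emb.conj_mem_range (F := F) (hD := hp.inList) (f := f) (φ := iterateFrobenius k r e)
        (fun t => by rw [iterateFrobenius_def, hq]) (σ := phi D k r e) coe_phi hy
        (n := emb hp.inList f x) ⟨x, rfl⟩
    exact ⟨b, hb⟩
  p_mem := by
    rintro y hy ⟨j, hj⟩
    have h1 := fix_pow_range hp M.toCoxeterSystem f hq hB hd hy
    have hcop : Nat.Coprime d (p ^ j) := Nat.Coprime.pow_right j (((Nat.Prime.coprime_iff_not_dvd hpp.out).2 hpd).symm)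
    exact mem_of_pow_mem hcop hj h1
  r_mem := by
    rintro y hy ⟨j, hj⟩
    by_cases hrd : r ∣ d
    · have hdr : d = r := by
        rcases hd1 with h1 | h1
        · exfalso
          rw [h1] at hrd
          exact (Fact.out : r.Prime).one_lt.ne' (Nat.dvd_one.1 hrd)
        · exact ((Nat.prime_dvd_prime_iff_eq Fact.out h1).1 hrd).symm
      refine fix_range hp M.toCoxeterSystem f hq hB hd (fun a => ?_) hy
      rw [hdr]
      have hF : CharP F r := (RingHom.charP_iff f f.injective r).2 inferInstance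
      obtain ⟨b, hb⟩ := (frobeniusEquiv F r).surjective a
      exact ⟨b, by rw [← hb]; rfl⟩
    · have h1 := fix_pow_range hp M.toCoxeterSystem f hq hB hd hy
      have hcop : Nat.Coprime d (r ^ j) :=
        Nat.Coprime.pow_right j (((Nat.Prime.coprime_iff_not_dvd Fact.out).2 hrd).symm)
      exact mem_of_pow_mem hcop hj h1
  fin := finite_fix hk he

end

include hp in
/-- torality of the abelian Sylow subgroups -/
theorem tor_of {k : Type u} [Field k] [IsAlgClosed k] (hk : LocFin k) {r : ℕ} [Fact r.Prime] [CharP k r] {p : ℕ}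
    [hpp : Fact p.Prime] (hpr : p ≠ r)
    (hW : ¬ p ^ 2 ∣ Nat.card M.Group) (hT : Tors M.toCoxeterSystem hp.isCartan p) {G : Type*} [Group G] [Finite G]
    (f : G →* ↥(D.group k)) : Tor p f := by
  intro S hS
  have hfin : Finite ↥((S : Subgroup G).map f) :=
    Finite.of_surjective (fun u : ↥(S : Subgroup G) => (⟨f u, ⟨u, u.2, rfl⟩⟩ : ↥((S : Subgroup G).map f))) (by
      rintro ⟨_, ⟨u, hu, rfl⟩⟩
      exact ⟨⟨u, hu⟩, rfl⟩)
  obtain ⟨g, hg⟩ := TorSub.exists_toral_abelian hp r hk hpp.out hpr hW hT (S := (S : Subgroup G).map f)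
    (S.2.map f) (by
      rintro _ ⟨a, ha, rfl⟩ _ ⟨b, hb, rfl⟩
      rw [← map_mul, ← map_mul, comm_of hS ha hb])
  refine ⟨g⁻¹, fun x hx => ?_⟩
  rw [inv_inv]
  exact hg _ ⟨x, hx, rfl⟩

/-- **The rows for the untwisted groups.** -/
theorem rows_untw {F : Type u} [Field F] [Fintype F] {p : ℕ} [hpp : Fact p.Prime] (h5 : 5 ≤ p) (hpF : (p : F) ≠ 0)
    {d : ℕ} {B : Fin l → Fin l → ℤ}
    (hB : InvC D l d B) (hd : d ≠ 0) (hd1 : d = 1 ∨ d.Prime) (hpd : ¬ p ∣ d) (hW : ¬ p ^ 2 ∣ Nat.card M.Group)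
    (hT : Tors M.toCoxeterSystem hp.isCartan p) (hirr : IrrC M.toCoxeterSystem hp.isCartan) :
    AbIrr p ↥(D.group F) ∧ NormOm p ↥(D.group F) := by
  obtain ⟨r, e, hr, hrF, hrk, he, hq, hk⟩ := exists_closure (F := F) rfl
  have hpr : p ≠ r := by
    rintro rfl
    exact hpF (CharP.cast_eq_zero F p)
  have hset := setup_untw hp hk (algebraMap F (AlgebraicClosure F)) he hq hB hd hd1 (p := p) hpd
  have hGf : Finite ↥(D.group F) := inferInstance
  have htor := tor_of hp hk hpr hW hT (emb hp.inList (algebraMap F (AlgebraicClosure F)))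
  exact ⟨abIrr_of_setup hp hk hset hirr h5 hpr htor, normOm_of_setup hp hk hset (by omega) hpr htor⟩

end Cfsg.Agent.H795.Untw
end

private theorem dce_1e7abfaff3b2 : _root_.True := by
  try have : _root_.True := by simp only [_root_.Cfsg.Agent.H129.TorusUntw.phi.congr_simp]
  exact _root_.True.intro
end

-- part: H795/RowsA
section
set_option linter.all false
open scoped Cfsg.Agent.FastGrp

/-!
# The rows `AbIrr` and `NormOm` for `G₂(q)`, `F₄(q)`, `E₆(q)`, `E₇(q)`, `E₈(q)`, `p ≥ 5`, not the characteristic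
(`p ≠ 5` for `E₈`)
-/

set_option autoImplicit false
set_option linter.unusedSectionVars false

namespace Cfsg.Agent.H795.RowsA

open CoxeterSystem Cfsg Cfsg.Lie Cfsg.Lie.ChevalleyDatum
open Cfsg.Agent.Nodes.RGDChev Cfsg.Agent.H795.SetTor Cfsg.Agent.H795.TorsData Cfsg.Agent.H795.Untw
  Cfsg.Agent.BpExc.RowsUntw Cfsg.Agent.H129.TorusChar

universe u

theorem finW {D : ChevalleyDatum} {l : ℕ} {M : CoxeterMatrix (Fin l)} (hp : IsType D l M) : Finite M.Group :=
  finite_W hp M.toCoxeterSystem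

theorem card_G2 : Nat.card CoxeterMatrix.G₂.Group = 12 := S1092.result (⟨2, CoxeterMatrix.G₂⟩, 12) (by simp)
theorem card_D4 : Nat.card coxeterD4.Group = 192 := S1092.result (⟨4, coxeterD4⟩, 192) (by simp)
theorem card_F4 : Nat.card CoxeterMatrix.F₄.Group = 1152 := S1092.result (⟨4, CoxeterMatrix.F₄⟩, 1152) (by simp)
theorem card_E6 : Nat.card CoxeterMatrix.E₆.Group = 51840 := S1093.result (⟨6, CoxeterMatrix.E₆⟩, 51840) (by simp)
theorem card_E7 : Nat.card CoxeterMatrix.E₇.Group = 2903040 :=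
  S1093.result (⟨7, CoxeterMatrix.E₇⟩, 2903040) (by simp)
theorem card_E8 : Nat.card CoxeterMatrix.E₈.Group = 696729600 :=
  S1093.result (⟨8, CoxeterMatrix.E₈⟩, 696729600) (by simp)

/-- prime divisors of a number from a factorisation -/
theorem dvd_cases {p : ℕ} (hp : p.Prime) {n a b : ℕ} (hn : n = a * b) (h : p ∣ n) : p ∣ a ∨ p ∣ b := by
  rw [hn] at h
  exact hp.dvd_mul.1 h

theorem eq_of_dvd_pow {p q n : ℕ} (hp : p.Prime) (hq : q.Prime) (h : p ∣ q ^ n) : p = q :=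
  (Nat.prime_dvd_prime_iff_eq hp hq).1 (hp.dvd_of_dvd_pow h)

theorem not_dvd_12 {p : ℕ} (hp : p.Prime) (h5 : 5 ≤ p) : ¬ p ∣ 12 := by
  intro h
  rcases dvd_cases hp (show 12 = 2 ^ 2 * 3 ^ 1 by norm_num) h with h | h
  · have := eq_of_dvd_pow hp Nat.prime_two h; omega
  · have := eq_of_dvd_pow hp Nat.prime_three h; omega

theorem not_dvd_192 {p : ℕ} (hp : p.Prime) (h5 : 5 ≤ p) : ¬ p ∣ 192 := by
  intro h
  rcases dvd_cases hp (show 192 = 2 ^ 6 * 3 ^ 1 by norm_num) h with h | h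
  · have := eq_of_dvd_pow hp Nat.prime_two h; omega
  · have := eq_of_dvd_pow hp Nat.prime_three h; omega

theorem not_dvd_1152 {p : ℕ} (hp : p.Prime) (h5 : 5 ≤ p) : ¬ p ∣ 1152 := by
  intro h
  rcases dvd_cases hp (show 1152 = 2 ^ 7 * 3 ^ 2 by norm_num) h with h | h
  · have := eq_of_dvd_pow hp Nat.prime_two h; omega
  · have := eq_of_dvd_pow hp Nat.prime_three h; omega

theorem dvd_51840 {p : ℕ} (hp : p.Prime) (h5 : 5 ≤ p) (h : p ∣ 51840) : p = 5 := by
  rcases dvd_cases hp (show 51840 = (2 ^ 7 * 3 ^ 4) * 5 ^ 1 by norm_num) h with h | h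
  · rcases dvd_cases hp rfl h with h | h
    · have := eq_of_dvd_pow hp Nat.prime_two h; omega
    · have := eq_of_dvd_pow hp Nat.prime_three h; omega
  · exact eq_of_dvd_pow hp Nat.prime_five h

theorem dvd_2903040 {p : ℕ} (hp : p.Prime) (h5 : 5 ≤ p) (h : p ∣ 2903040) : p = 5 ∨ p = 7 := by
  rcases dvd_cases hp (show 2903040 = (2 ^ 10 * 3 ^ 4) * (5 ^ 1 * 7 ^ 1) by norm_num) h with h | h
  · rcases dvd_cases hp rfl h with h | h
    · have := eq_of_dvd_pow hp Nat.prime_two h; omega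
    · have := eq_of_dvd_pow hp Nat.prime_three h; omega
  · rcases dvd_cases hp rfl h with h | h
    · exact Or.inl (eq_of_dvd_pow hp Nat.prime_five h)
    · exact Or.inr (eq_of_dvd_pow hp (by norm_num) h)

theorem dvd_696729600 {p : ℕ} (hp : p.Prime) (h5 : 5 ≤ p) (h : p ∣ 696729600) : p = 5 ∨ p = 7 := by
  rcases dvd_cases hp (show 696729600 = (2 ^ 14 * 3 ^ 5) * (5 ^ 2 * 7 ^ 1) by norm_num) h with h | h
  · rcases dvd_cases hp rfl h with h | h
    · have := eq_of_dvd_pow hp Nat.prime_two h; omega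
    · have := eq_of_dvd_pow hp Nat.prime_three h; omega
  · rcases dvd_cases hp rfl h with h | h
    · exact Or.inl (eq_of_dvd_pow hp Nat.prime_five h)
    · exact Or.inr (eq_of_dvd_pow hp (by norm_num) h)

theorem torsE6 (hp : IsType chevE6 6 CoxeterMatrix.E₆) {p : ℕ} (hpp : p.Prime) (h5 : 5 ≤ p) :
    ¬ p ^ 2 ∣ Nat.card CoxeterMatrix.E₆.Group ∧ Tors CoxeterMatrix.E₆.toCoxeterSystem hp.isCartan p := by
  have := finW hp
  by_cases h : p ∣ 51840
  · obtain rfl := dvd_51840 hpp h5 h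
    have h2 : ¬ 5 ^ 2 ∣ Nat.card CoxeterMatrix.E₆.Group := by rw [card_E6]; norm_num
    exact ⟨h2, tors_of_data hp _ E6q5.hA E6q5.chainOK hpp E6q5.powOK rfl E6q5.oneOK E6q5.neOK E6q5.xOK h2⟩
  · rw [← card_E6] at h
    exact ⟨fun h1 => h ((dvd_pow_self p two_ne_zero).trans h1), tors_of_not_dvd h⟩

theorem torsE7 (hp : IsType chevE7 7 CoxeterMatrix.E₇) {p : ℕ} (hpp : p.Prime) (h5 : 5 ≤ p) :
    ¬ p ^ 2 ∣ Nat.card CoxeterMatrix.E₇.Group ∧ Tors CoxeterMatrix.E₇.toCoxeterSystem hp.isCartan p := by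
  have := finW hp
  by_cases h : p ∣ 2903040
  · obtain rfl | rfl := dvd_2903040 hpp h5 h
    · have h2 : ¬ 5 ^ 2 ∣ Nat.card CoxeterMatrix.E₇.Group := by rw [card_E7]; norm_num
      exact ⟨h2, tors_of_data hp _ E7q5.hA E7q5.chainOK hpp E7q5.powOK rfl E7q5.oneOK E7q5.neOK E7q5.xOK h2⟩
    · have h2 : ¬ 7 ^ 2 ∣ Nat.card CoxeterMatrix.E₇.Group := by rw [card_E7]; norm_num
      exact ⟨h2, tors_of_data hp _ E7q7.hA E7q7.chainOK hpp E7q7.powOK rfl E7q7.oneOK E7q7.neOK E7q7.xOK h2⟩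
  · rw [← card_E7] at h
    exact ⟨fun h1 => h ((dvd_pow_self p two_ne_zero).trans h1), tors_of_not_dvd h⟩

theorem torsE8 (hp : IsType chevE8 8 CoxeterMatrix.E₈) {p : ℕ} (hpp : p.Prime) (h5 : 5 ≤ p) (hp5 : p ≠ 5) :
    ¬ p ^ 2 ∣ Nat.card CoxeterMatrix.E₈.Group ∧ Tors CoxeterMatrix.E₈.toCoxeterSystem hp.isCartan p := by
  have := finW hp
  by_cases h : p ∣ 696729600
  · obtain rfl | rfl := dvd_696729600 hpp h5 h
    · exact absurd rfl hp5
    · have h2 : ¬ 7 ^ 2 ∣ Nat.card CoxeterMatrix.E₈.Group := by rw [card_E8]; norm_num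
      exact ⟨h2, tors_of_data hp _ E8q7.hA E8q7.chainOK hpp E8q7.powOK rfl E8q7.oneOK E8q7.neOK E8q7.xOK h2⟩
  · rw [← card_E8] at h
    exact ⟨fun h1 => h ((dvd_pow_self p two_ne_zero).trans h1), tors_of_not_dvd h⟩

variable {F : Type u} [Field F] [Fintype F] {p : ℕ} [hpp : Fact p.Prime] (h5 : 5 ≤ p) (hpF : (p : F) ≠ 0)

include h5 in
theorem not_dvd_small {d : ℕ} (h0 : d ≠ 0) (h : d < 5) : ¬ p ∣ d := fun h1 => by
  have := Nat.le_of_dvd (Nat.pos_of_ne_zero h0) h1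
  omega

include h5 hpF

theorem g2 : AbIrr p ↥(chevG2.group F) ∧ NormOm p ↥(chevG2.group F) := by
  have := finW g2T
  have h := not_dvd_12 hpp.out h5
  rw [← card_G2] at h
  exact rows_untw g2T h5 hpF invC_G2 one_ne_zero (Or.inl rfl) (not_dvd_small h5 one_ne_zero (by norm_num))
    (fun h1 => h ((dvd_pow_self p two_ne_zero).trans h1)) (tors_of_not_dvd h) (IrrTypes.g2 g2T)

theorem f4 : AbIrr p ↥(chevF4.group F) ∧ NormOm p ↥(chevF4.group F) := by
  have := finW f4T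
  have h := not_dvd_1152 hpp.out h5
  rw [← card_F4] at h
  exact rows_untw f4T h5 hpF invC_F4 one_ne_zero (Or.inl rfl) (not_dvd_small h5 one_ne_zero (by norm_num))
    (fun h1 => h ((dvd_pow_self p two_ne_zero).trans h1)) (tors_of_not_dvd h) (IrrTypes.f4 f4T)

theorem e6 : AbIrr p ↥(chevE6.group F) ∧ NormOm p ↥(chevE6.group F) := by
  obtain ⟨h1, h2⟩ := torsE6 e6T hpp.out h5
  exact rows_untw e6T h5 hpF invC_E6 three_ne_zero (Or.inr Nat.prime_three)
    (not_dvd_small h5 three_ne_zero (by norm_num)) h1 h2 (IrrTypes.e6 e6T)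

theorem e7 : AbIrr p ↥(chevE7.group F) ∧ NormOm p ↥(chevE7.group F) := by
  obtain ⟨h1, h2⟩ := torsE7 e7T hpp.out h5
  exact rows_untw e7T h5 hpF invC_E7 two_ne_zero (Or.inr Nat.prime_two)
    (not_dvd_small h5 two_ne_zero (by norm_num)) h1 h2 (IrrTypes.e7 e7T)

theorem e8 (hp5 : p ≠ 5) : AbIrr p ↥(chevE8.group F) ∧ NormOm p ↥(chevE8.group F) := by
  obtain ⟨h1, h2⟩ := torsE8 e8T hpp.out h5 hp5
  exact rows_untw e8T h5 hpF invC_E8 one_ne_zero (Or.inl rfl)
    (not_dvd_small h5 one_ne_zero (by norm_num)) h1 h2 (IrrTypes.e8 e8T)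

end Cfsg.Agent.H795.RowsA
end

-- part: H795/LangT
section
prune_inst 0x10102504022200000018000260003c5292000492006b8801a04000440cc08f4120032f2110d010121030a2d40038804813540070421000000a008e00411c00800ca90222b118bc04100006009804400000000000000000000000000000000000000000000
set_option linter.all false
open scoped Cfsg.Agent.FastGrp

/-!
# Lang's theorem for the torus of a frame automorphism, and fixed representatives of Weyl group elements

`σ` a frame automorphism of Frobenius type of `D.group k`, with lattice automorphism `g`.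

* `exists_iter` : `g` has finite order;
* `exists_root` : divisibility of the torus;
* `lang_torus` : `t = s⁻¹ σ(s)`, `s` in the torus;
* `exists_rp_of_normalizes` : an element normalising the torus represents an element of the Weyl group;
* `cX_sep` : the characters are separated by the torus;
* `exists_fixed_lift` : an element of the Weyl group commuting with `g` has a representative fixed by `σ`.
-/

set_option autoImplicit false
set_option linter.unusedSectionVars false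

namespace Cfsg.Agent.H795.LangT

open CoxeterSystem Cfsg Cfsg.Lie Cfsg.Lie.ChevalleyDatum
open Cfsg.Agent.ChevalleyStructure Cfsg.Agent.ChevalleyStructure.Elts Cfsg.Agent.ChevalleyStructure.CoxeterGeom
  Cfsg.Agent.ChevalleyStructure.CoxeterGeomTypes Cfsg.Agent.ChevalleyStructure.NPerm
open Cfsg.Agent.Tits.Roots Cfsg.Agent.Tits.Core Cfsg.Agent.Nodes Cfsg.Agent.Nodes.Reps Cfsg.Agent.Nodes.BNOf
  Cfsg.Agent.Nodes.RGDChev Cfsg.Agent.Nodes.Bruhat
open Cfsg.Agent.KFacts.RgdField Cfsg.Agent.KFacts.RgdChevCoord Cfsg.Agent.BpExc.TorCent Cfsg.Agent.BpExc.TorChev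
open Cfsg.Agent.GpExc.Field Cfsg.Agent.BpExc.Tow Cfsg.Agent.BpExc.TowChev Cfsg.Agent.BpExc.Fr
  Cfsg.Agent.BpExc.LangFr Cfsg.Agent.H129.TorusChar Cfsg.Agent.H129.TorusMain Cfsg.Agent.H123.ExcZ
open Cfsg.Agent.BpExc

universe u

variable {D : ChevalleyDatum} {l : ℕ} {M : CoxeterMatrix (Fin l)} (hp : IsType D l M)
  {k : Type u} [Field k] {r e : ℕ} [Fact r.Prime] [CharP k r]
  {σ : MulAut ↥(D.group k)} {g : (Fin l → ℤ) ≃+ (Fin l → ℤ)}

include hp in
/-- the lattice automorphism has finite order -/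
theorem exists_iter (F : Fr M.toCoxeterSystem hp.isCartan (TT D k) (XX D l k) σ g) :
    ∃ m : ℕ, 0 < m ∧ ∀ x, g^[m] x = x := by
  have hWf := finite_W hp (M.toCoxeterSystem)
  have hfin := RGD.finite_roots (cs := M.toCoxeterSystem) (h := hp.isCartan)
  let Φ : Type := {a : Fin l → ℤ // IsRoot M.toCoxeterSystem hp.isCartan a}
  have : Finite Φ := hfin
  let π : Equiv.Perm Φ :=
    { toFun := fun a => ⟨g a.1, (F.root _).2 a.2⟩
      invFun := fun a => ⟨g.symm a.1, (F.root _).1 (by rw [AddEquiv.apply_symm_apply]; exact a.2)⟩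
      left_inv := fun a => Subtype.ext (g.symm_apply_apply _)
      right_inv := fun a => Subtype.ext (g.apply_symm_apply _) }
  have hπ : ∀ (n : ℕ) (a : Φ), ((π ^ n) a).1 = g^[n] a.1 := by
    intro n
    induction n with
    | zero => intro a; rfl
    | succ n ih =>
      intro a
      rw [pow_succ', Equiv.Perm.mul_apply, Function.iterate_succ_apply']
      show g ((π ^ n) a).1 = _
      rw [ih]
  have hm : 0 < orderOf π := orderOf_pos π
  refine ⟨orderOf π, hm, fun x => ?_⟩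
  have h1 : ∀ i, g^[orderOf π] (sr i) = sr i := by
    intro i
    have h2 := hπ (orderOf π) ⟨sr i, isRoot_sr _ _ i⟩
    rw [pow_orderOf_eq_one] at h2
    exact h2.symm
  have h2 : ∀ n : ℕ, ∃ f : (Fin l → ℤ) →+ (Fin l → ℤ), ∀ x, f x = g^[n] x := by
    intro n
    induction n with
    | zero => exact ⟨AddMonoidHom.id _, fun _ => rfl⟩
    | succ n ih =>
      obtain ⟨f, hf⟩ := ih
      refine ⟨g.toAddMonoidHom.comp f, fun x => ?_⟩
      rw [Function.iterate_succ_apply', ← hf]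
      rfl
  obtain ⟨f, hf⟩ := h2 (orderOf π)
  rw [← hf, IsMC.eq_sum_sr x, map_sum]
  refine Finset.sum_congr rfl fun i _ => ?_
  rw [map_zsmul, hf, h1]

section

variable [IsAlgClosed k]

include hp in
/-- divisibility of the torus -/
theorem exists_root {d : ℕ} {B : Fin l → Fin l → ℤ} (hB : InvC D l d B) (hd : d ≠ 0) {u : ↥(D.group k)}
    (hu : u ∈ TT D k) {n : ℕ} (hn : n ≠ 0) : ∃ s ∈ TT D k, s ^ n = u := by
  have h1 : ∀ i, ∃ b : k, b ^ n = cX hp u (sr i) := fun i =>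
    IsAlgClosed.exists_pow_nat_eq _ (Nat.pos_of_ne_zero hn)
  choose b hb using h1
  have hb0 : ∀ i, b i ≠ 0 := by
    intro i h0
    have h1 := hb i
    rw [h0, zero_pow hn] at h1
    exact (isMC_cX hp hu).ne_zero _ h1.symm
  obtain ⟨s, hs, hc⟩ := exists_cX hp hB hd (IsMC.of_prod b hb0)
    (fun i => IsAlgClosed.exists_pow_nat_eq _ (Nat.pos_of_ne_zero hd))
  refine ⟨s, hs, cX_inj hp (pow_mem hs n) hu fun i => ?_⟩
  rw [cX_pow hp hs, hc, ← hb]
  congr 1
  rw [Finset.prod_eq_single i]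
  · rw [sr_self, zpow_one]
  · intro j _ hj
    rw [sr_ne hj, zpow_zero]
  · intro hi
    exact absurd (Finset.mem_univ i) hi

/-- **Lang's theorem for the torus.** -/
theorem lang_torus {d : ℕ} {B : Fin l → Fin l → ℤ} (hB : InvC D l d B) (hd : d ≠ 0) (he : 0 < e)
    (hσ : IsFrob r e σ) (F : Fr M.toCoxeterSystem hp.isCartan (TT D k) (XX D l k) σ g) {t : ↥(D.group k)}
    (ht : t ∈ TT D k) : ∃ s ∈ TT D k, t = s⁻¹ * σ s := by
  obtain ⟨m, hm, hgm⟩ := exists_iter hp F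
  have hr : r.Prime := Fact.out
  have hcomm := TT_comm hp (K := k)
  have hq1 : r ^ (e * m) - 1 ≠ 0 := (Nat.sub_pos_of_lt (Nat.one_lt_pow (Nat.mul_pos he hm).ne' hr.one_lt)).ne'
  obtain ⟨u, hu, hut⟩ := exists_root hp hB hd ht hq1
  have hσT : ∀ s ∈ TT D k, σ s ∈ TT D k := fun s hs => (F.tor s).2 hs
  have hitT : ∀ n : ℕ, (σ ^ n) u ∈ TT D k := by
    intro n
    induction n with
    | zero => exact hu
    | succ n ih =>
      rw [pow_succ', MulAut.mul_apply]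
      exact hσT _ ih
  have hit : ∀ (n : ℕ) (x : Fin l → ℤ), cX hp ((σ ^ n) u) (g^[n] x) = cX hp u x ^ r ^ (e * n) := by
    intro n
    induction n with
    | zero =>
      intro x
      rw [mul_zero, pow_zero r, pow_one]
      rfl
    | succ n ih =>
      intro x
      rw [pow_succ', MulAut.mul_apply, Function.iterate_succ_apply',
        cX_sigma hp M.toCoxeterSystem hσ F (hitT n), ih, ← pow_mul, ← pow_add, mul_add, mul_one]
  have hum : (σ ^ m) u = u ^ r ^ (e * m) := by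
    refine cX_inj hp (hitT m) (pow_mem hu _) fun i => ?_
    rw [cX_pow hp hu, ← hit m (sr i), hgm]
  have key : ∀ n : ℕ, ∃ s ∈ TT D k, s⁻¹ * σ s = u⁻¹ * (σ ^ n) u := by
    intro n
    induction n with
    | zero => exact ⟨1, one_mem _, by rw [map_one, inv_one, one_mul, pow_zero, MulAut.one_apply, inv_mul_cancel]⟩
    | succ n ih =>
      obtain ⟨s, hs, h1⟩ := ih
      refine ⟨s * (σ ^ n) u, mul_mem hs (hitT n), ?_⟩
      have e1 : (σ ^ (n + 1)) u = σ ((σ ^ n) u) := by rw [pow_succ', MulAut.mul_apply]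
      have e2 := hcomm _ (inv_mem (hitT n)) _ (mul_mem (inv_mem hs) (hσT s hs))
      rw [map_mul, mul_inv_rev, e1]
      calc ((σ ^ n) u)⁻¹ * s⁻¹ * (σ s * σ ((σ ^ n) u)) = ((σ ^ n) u)⁻¹ * (s⁻¹ * σ s) * σ ((σ ^ n) u) := by group
        _ = (s⁻¹ * σ s) * ((σ ^ n) u)⁻¹ * σ ((σ ^ n) u) := by rw [e2]
        _ = u⁻¹ * (σ ^ n) u * ((σ ^ n) u)⁻¹ * σ ((σ ^ n) u) := by rw [h1]
        _ = _ := by group
  obtain ⟨s, hs, h1⟩ := key m
  refine ⟨s, hs, ?_⟩
  rw [h1, hum, ← hut]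
  have h2 : r ^ (e * m) = (r ^ (e * m) - 1) + 1 := (Nat.sub_add_cancel (Nat.one_le_pow _ _ hr.pos)).symm
  conv_rhs => rw [h2, pow_succ']
  rw [inv_mul_cancel_left]

/-- **The characters are separated by the torus.** -/
theorem cX_sep {d : ℕ} {B : Fin l → Fin l → ℤ} (hB : InvC D l d B) (hd : d ≠ 0) {x y : Fin l → ℤ}
    (h : ∀ t ∈ TT D k, cX hp t x = cX hp t y) : x = y := by
  classical
  funext i
  by_contra hne
  have hn : (x i - y i).natAbs ≠ 0 := by
    rw [Int.natAbs_ne_zero]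
    exact sub_ne_zero.2 hne
  have : Infinite k := IsAlgClosed.instInfinite
  obtain ⟨c, hc⟩ := Infinite.exists_notMem_finset ({0, 1} : Finset k)
  have hc0 : c ≠ 0 := fun h => hc (by simp [h])
  have hc1 : c ≠ 1 := fun h => hc (by simp [h])
  obtain ⟨b, hb⟩ := IsAlgClosed.exists_pow_nat_eq c (Nat.pos_of_ne_zero hn)
  have hb0 : b ≠ 0 := by
    rintro rfl
    rw [zero_pow hn] at hb
    exact hc0 hb.symm
  obtain ⟨t, ht, hX⟩ := exists_cX hp hB hd (IsMC.of_prod (fun j => if j = i then b else 1) (fun j => by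
    by_cases hj : j = i
    · rw [if_pos hj]; exact hb0
    · rw [if_neg hj]; exact one_ne_zero)) (fun i => IsAlgClosed.exists_pow_nat_eq _ (Nat.pos_of_ne_zero hd))
  have hval : ∀ z : Fin l → ℤ, cX hp t z = b ^ z i := by
    intro z
    rw [hX, Finset.prod_eq_single i]
    · rw [if_pos rfl]
    · intro j _ hj
      rw [if_neg hj, one_zpow]
    · intro hi
      exact absurd (Finset.mem_univ i) hi
  have h1 := h t ht
  rw [hval, hval] at h1
  have h2 : b ^ (x i - y i) = 1 := by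
    rw [zpow_sub₀ hb0, h1, div_self (zpow_ne_zero _ hb0)]
  apply hc1
  rw [← hb]
  rcases Int.natAbs_eq (x i - y i) with h3 | h3
  · rw [h3, zpow_natCast] at h2
    exact h2
  · rw [h3, zpow_neg, zpow_natCast, inv_eq_one] at h2
    exact h2

variable (hk : LocFin k)

include hk in
/-- **The elements normalising the torus.** -/
theorem exists_rp_of_normalizes {c : ↥(D.group k)} (hc : ∀ t ∈ TT D k, c * t * c⁻¹ ∈ TT D k) :
    ∃ w, Rp M.toCoxeterSystem (tow hp M.toCoxeterSystem hk r).nsys w c := by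
  classical
  have hWf := finite_W hp (M.toCoxeterSystem)
  have H := tow hp M.toCoxeterSystem hk r
  have C : Coords M.toCoxeterSystem hp.isCartan (TL (Tj hp (k := k))) (nc hp k) (XL (Xj hp)) (xc hp) (ch hp) := by
    rw [TL_eq hp hk, XL_eq hp hk]
    exact coordsL hp M.toCoxeterSystem hk r
  have hGt := GG_eq_top hp M.toCoxeterSystem hk
  have hTL := TL_eq (k := k) hp hk
  have hfin := RGD.finite_roots (cs := M.toCoxeterSystem) (h := hp.isCartan)
  let Φ : Type := {a : Fin l → ℤ // IsRoot M.toCoxeterSystem hp.isCartan a}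
  have : Finite Φ := hfin
  have hsep : ∀ a : Φ, ∃ s ∈ TT D k, ∀ u ∈ XX D l k a.1, u * s = s * u → u = 1 :=
    fun a => NChev.sep hp M.toCoxeterSystem hk r a.2
  choose s hs hsu using hsep
  obtain ⟨m, hm, w, n, hn, hns, e⟩ := exists_form' H C (ι := Φ) (s := s) (t := fun a => c * s a * c⁻¹)
    (fun a => by rw [hTL]; exact hs a) (fun a => by rw [hTL]; exact hc _ (hs a)) (c := c)
    (by rw [hGt]; exact Subgroup.mem_top _) (fun a => by group)
  have hSZ : SZ M.toCoxeterSystem hp.isCartan (ch hp) (fun a => c * s a * c⁻¹) = ∅ := by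
    rw [Set.eq_empty_iff_forall_notMem]
    intro a ha
    have hti : ∀ i, n⁻¹ * (c * s i * c⁻¹) = s i * n⁻¹ := by
      intro i
      have h1 := hns i
      calc n⁻¹ * (c * s i * c⁻¹) = n⁻¹ * ((c * s i * c⁻¹) * n) * n⁻¹ := by group
        _ = n⁻¹ * (n * s i) * n⁻¹ := by rw [← h1]
        _ = _ := by group
    have h2 := rep_SZ H C (s := fun a => c * s a * c⁻¹) (t := s) (fun a => by rw [hTL]; exact hc _ (hs a)) hn.inv
      hti ha
    -- the root `b` is trivial on all `s i`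
    obtain ⟨b, hb⟩ : ∃ b, b = rep M.toCoxeterSystem hp.isCartan w⁻¹ a := ⟨_, rfl⟩
    rw [← hb] at h2
    have hxc : xc hp b (1 : k) ∈ XL (Xj hp (k := k)) b := ((C.coord b h2.1).mem _).2 ⟨1, rfl⟩
    have h3 := X_le_cent C (fun a => by rw [hTL]; exact hs a) h2 hxc
    have h4 := (mem_cent.1 h3) ⟨b, h2.1⟩
    refine (C.coord b h2.1).ne_one one_ne_zero (hsu ⟨b, h2.1⟩ _ ?_ h4)
    rw [XL_eq hp hk] at hxc
    exact hxc
  have hm1 : m = 1 := by
    have h1 : m ∈ (⊥ : Subgroup ↥(D.group k)) := by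
      have h2 : MZ M.toCoxeterSystem hp.isCartan (XL (Xj hp (k := k))) (ch hp) (fun a => c * s a * c⁻¹) ≤ ⊥ := by
        refine RGD.Sup_le fun a ha => ?_
        rw [hSZ] at ha
        exact absurd ha (Set.notMem_empty a)
      exact h2 hm
    exact (Subgroup.mem_bot).1 h1
  refine ⟨w, ?_⟩
  rw [e, hm1, one_mul]
  exact hn

include hk in
/-- the representatives normalise the torus -/
theorem rp_conj_mem {w : M.Group} {c : ↥(D.group k)}
    (hc : Rp M.toCoxeterSystem (tow hp M.toCoxeterSystem hk r).nsys w c) {t : ↥(D.group k)} (ht : t ∈ TT D k) :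
    c * t * c⁻¹ ∈ TT D k := by
  have hTL := TL_eq (k := k) hp hk
  have h1 := (Subgroup.mem_normalizer_iff.1 hc.mem_normalizer t).1 (by rw [hTL]; exact ht)
  rw [hTL] at h1
  exact h1

include hk in
/-- the action of the representatives on the characters -/
theorem cX_rp' {w : M.Group} {c : ↥(D.group k)}
    (hc : Rp M.toCoxeterSystem (tow hp M.toCoxeterSystem hk r).nsys w c) {t : ↥(D.group k)} (ht : t ∈ TT D k)
    (x : Fin l → ℤ) : cX hp (c * t * c⁻¹) (rep M.toCoxeterSystem hp.isCartan w x) = cX hp t x := by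
  have ht' := rp_conj_mem hp hk hc ht
  have H := tow hp M.toCoxeterSystem hk r
  have C : Coords M.toCoxeterSystem hp.isCartan (TL (Tj hp (k := k))) (nc hp k) (XL (Xj hp)) (xc hp) (ch hp) := by
    rw [TL_eq hp hk, XL_eq hp hk]
    exact coordsL hp M.toCoxeterSystem hk r
  refine ((isMC_cX hp ht').comp (rep M.toCoxeterSystem hp.isCartan w).toAddMonoidHom).ext (isMC_cX hp ht)
    (fun i => ?_) x
  show cX hp (c * t * c⁻¹) (rep M.toCoxeterSystem hp.isCartan w (sr i)) = _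
  rw [cX_root hp M.toCoxeterSystem ht' ((isRoot_sr M.toCoxeterSystem hp.isCartan i).act w), cX_sr]
  exact C.chi_rp H.nsys hc (isRoot_sr M.toCoxeterSystem hp.isCartan i) (by rw [TL_eq hp hk]; exact ht)

include hk in
/-- **Fixed representatives.** -/
theorem exists_fixed_lift {d : ℕ} {B : Fin l → Fin l → ℤ} (hB : InvC D l d B) (hd : d ≠ 0) (he : 0 < e)
    (hσ : IsFrob r e σ) (F : Fr M.toCoxeterSystem hp.isCartan (TT D k) (XX D l k) σ g) {v : M.Group}
    (hv : ∀ x, rep M.toCoxeterSystem hp.isCartan v (g x) = g (rep M.toCoxeterSystem hp.isCartan v x)) :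
    ∃ m, Rp M.toCoxeterSystem (tow hp M.toCoxeterSystem hk r).nsys v m ∧ σ m = m := by
  obtain ⟨n, hn⟩ := exists_rp M.toCoxeterSystem (tow hp M.toCoxeterSystem hk r).nsys v
  have hTL := TL_eq (k := k) hp hk
  have hnT : ∀ t ∈ TT D k, n * t * n⁻¹ ∈ TT D k := fun t ht => rp_conj_mem hp hk hn ht
  have hσT : ∀ s, σ s ∈ TT D k ↔ s ∈ TT D k := F.tor
  obtain ⟨w, hw⟩ := exists_rp_of_normalizes hp hk (r := r) (c := σ n) (fun t ht => by
    have h1 : σ⁻¹ t ∈ TT D k := by rw [← hσT, MulAut.apply_inv_self]; exact ht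
    have h2 := (hσT _).2 (hnT _ h1)
    rwa [map_mul, map_mul, map_inv, MulAut.apply_inv_self] at h2)
  -- `w = v`
  have hwv : w = v := by
    apply rep_injective M.toCoxeterSystem hp.isCartan
    apply LinearMap.ext
    intro y
    obtain ⟨x, rfl⟩ := g.surjective y
    refine cX_sep hp (k := k) hB hd fun t' ht' => ?_
    -- `t' = σ(n t n⁻¹)`
    obtain ⟨t, ht, rfl⟩ : ∃ t ∈ TT D k, t' = σ (n * t * n⁻¹) := by
      have h1 : σ⁻¹ t' ∈ TT D k := by rw [← hσT, MulAut.apply_inv_self]; exact ht'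
      refine ⟨n⁻¹ * σ⁻¹ t' * n, ?_, ?_⟩
      · have h2 := rp_conj_mem hp hk hn.inv h1
        rwa [inv_inv] at h2
      · have h2 : n * (n⁻¹ * σ⁻¹ t' * n) * n⁻¹ = σ⁻¹ t' := by group
        rw [h2, MulAut.apply_inv_self]
    have h1 : cX hp (σ (n * t * n⁻¹)) (g (rep M.toCoxeterSystem hp.isCartan v x)) = cX hp t x ^ r ^ e := by
      rw [cX_sigma hp M.toCoxeterSystem hσ F (hnT t ht), cX_rp' hp hk hn ht]
    have h2 : cX hp (σ (n * t * n⁻¹)) (rep M.toCoxeterSystem hp.isCartan w (g x)) = cX hp t x ^ r ^ e := by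
      rw [map_mul, map_mul, map_inv, cX_rp' hp hk hw ((hσT t).2 ht), cX_sigma hp M.toCoxeterSystem hσ F ht]
    rw [h2, hv, h1]
  subst hwv
  have h1 := hn.unique hw
  rw [hTL] at h1
  obtain ⟨s, hs, h2⟩ := lang_torus hp hB hd he hσ F h1
  refine ⟨n * s⁻¹, hn.mul_mem_right (by rw [hTL]; exact inv_mem hs), ?_⟩
  rw [map_mul, map_inv]
  have h3 : σ n = n * (s⁻¹ * σ s) := by rw [← h2]; group
  rw [h3]
  group

end

end Cfsg.Agent.H795.LangT
end

-- part: H210/EL/Gen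
section
prune_inst 0x106404422200000018000262003c7292000490002b880090000044048eb9012003272150001a0080100a540030004813540020420000000a008c00011d00a08c88400233000104260007800006400000000000000000000000000000041000000000000
set_option linter.all false
open scoped Cfsg.Agent.FastGrp

/-!
# S4880, task EL: `Loc p e` for a Chevalley group from Weyl group data (helper210)

`w`, `v` commuting elements of the Weyl group (given by chains), `a`, `b` eigenvectors modulo `p` of `w` for the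
eigenvalue `|F|`, `b` fixed by `v` and `a` an eigenvector of `v`.
-/

set_option autoImplicit false
set_option linter.unusedSectionVars false

namespace Cfsg.Agent.H210.EL

open CoxeterSystem Cfsg Cfsg.Lie Cfsg.Lie.ChevalleyDatum
open Cfsg.Agent.ChevalleyStructure Cfsg.Agent.ChevalleyStructure.Elts Cfsg.Agent.ChevalleyStructure.CoxeterGeom
  Cfsg.Agent.ChevalleyStructure.CoxeterGeomTypes Cfsg.Agent.ChevalleyStructure.NPerm
open Cfsg.Agent.Tits.Roots Cfsg.Agent.Tits.Core Cfsg.Agent.Nodes Cfsg.Agent.Nodes.Reps Cfsg.Agent.Nodes.BNOf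
  Cfsg.Agent.Nodes.RGDChev Cfsg.Agent.Nodes.Bruhat
open Cfsg.Agent.KFacts.RgdField Cfsg.Agent.KFacts.RgdChevCoord Cfsg.Agent.BpExc.TorCent Cfsg.Agent.BpExc.TorChev
open Cfsg.Agent.GpExc.Field Cfsg.Agent.BpExc.Tow Cfsg.Agent.BpExc.TowChev Cfsg.Agent.BpExc.Fr
  Cfsg.Agent.BpExc.LangFr Cfsg.Agent.H795.SetCent Cfsg.Agent.H795.Toral Cfsg.Agent.H795.Core
  Cfsg.Agent.H795.RootConn Cfsg.Agent.H795.SetTor Cfsg.Agent.H129.TorusChar Cfsg.Agent.H129.TorusUntw
  Cfsg.Agent.H129.WData Cfsg.Agent.H795.Reduce Cfsg.Agent.H795.LangT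
  Cfsg.Agent.BpExc Cfsg.Agent.H319.One

universe u

/-- the functional with coefficients `a` -/
def lam {l p : ℕ} (a : Fin l → ZMod p) (x : Fin l → ℤ) : ZMod p := ∑ n, (x n : ZMod p) * a n

theorem lam_add {l p : ℕ} (a : Fin l → ZMod p) (x y : Fin l → ℤ) : lam a (x + y) = lam a x + lam a y := by
  unfold lam
  rw [← Finset.sum_add_distrib]
  refine Finset.sum_congr rfl fun n _ => ?_
  rw [Pi.add_apply, Int.cast_add, add_mul]

theorem lam_zero {l p : ℕ} (a : Fin l → ZMod p) : lam a 0 = 0 := by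
  unfold lam
  refine Finset.sum_eq_zero fun n _ => ?_
  rw [Pi.zero_apply, Int.cast_zero, zero_mul]

theorem lam_sr {l p : ℕ} (a : Fin l → ZMod p) (i : Fin l) : lam a (sr i) = a i := by
  unfold lam
  rw [Finset.sum_eq_single i]
  · rw [sr_self, Int.cast_one, one_mul]
  · intro j _ hj
    rw [sr_ne hj, Int.cast_zero, zero_mul]
  · intro hi
    exact absurd (Finset.mem_univ i) hi

/-- two additive functionals agreeing on the simple roots -/
theorem ext_sr {l : ℕ} {A : Type*} [AddCommGroup A] (f g : (Fin l → ℤ) →+ A) (h : ∀ i, f (sr i) = g (sr i))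
    (x : Fin l → ℤ) : f x = g x := by
  rw [IsMC.eq_sum_sr x, map_sum, map_sum]
  refine Finset.sum_congr rfl fun i _ => ?_
  rw [map_zsmul, map_zsmul, h]

/-- `lam` as an additive map -/
def lamHom {l p : ℕ} (a : Fin l → ZMod p) : (Fin l → ℤ) →+ ZMod p where
  toFun := lam a
  map_zero' := lam_zero a
  map_add' := lam_add a

section

variable {k : Type u} [Field k] {p : ℕ} [hpp : Fact p.Prime]

/-- the character `x ↦ ζ ^ (λ x)` -/
noncomputable def chr {l : ℕ} (ζ : k) (a : Fin l → ZMod p) (x : Fin l → ℤ) : k := ζ ^ (lam a x).val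

theorem pow_val_add {ζ : k} (hζ : ζ ^ p = 1) (a b : ZMod p) : ζ ^ (a + b).val = ζ ^ a.val * ζ ^ b.val := by
  rw [← pow_add, ZMod.val_add]
  conv_rhs => rw [← Nat.mod_add_div (a.val + b.val) p, pow_add, pow_mul ζ p, hζ, one_pow, mul_one]

theorem pow_val_cast {ζ : k} (hζ : ζ ^ p = 1) (n : ℕ) (a : ZMod p) : ζ ^ ((n : ZMod p) * a).val = (ζ ^ a.val) ^ n := by
  rw [← pow_mul, ZMod.val_mul, ZMod.val_natCast]
  have h1 : (n % p * a.val) % p = (a.val * n) % p := by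
    rw [Nat.mod_mul_mod, mul_comm]
  rw [h1]
  conv_rhs => rw [← Nat.mod_add_div (a.val * n) p, pow_add, pow_mul ζ p, hζ, one_pow, mul_one]

theorem isMC_chr {l : ℕ} {ζ : k} (hζ : ζ ^ p = 1) (a : Fin l → ZMod p) : IsMC (chr ζ a) where
  zero := by
    unfold chr
    rw [lam_zero, ZMod.val_zero, pow_zero]
  add x y := by
    unfold chr
    rw [lam_add, pow_val_add hζ]

end

/-- The matrix product check: `v w = w v`. -/
def CommOK {l : ℕ} (V W : Mat l) : Prop := ∀ j m, ∑ n, V j n * W n m = ∑ n, W j n * V n m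

instance instDecCommOK {l : ℕ} (V W : Mat l) : Decidable (CommOK V W) := by unfold CommOK; infer_instance

/-- `a` is an eigenvector of `W` with eigenvalue `s` modulo `p` -/
def EigOK {l p : ℕ} (W : Mat l) (s : ZMod p) (a : Fin l → ZMod p) : Prop :=
  ∀ j, ∑ n, (W j n : ZMod p) * a n = s * a j

instance instDecEigOK {l p : ℕ} (W : Mat l) (s : ZMod p) (a : Fin l → ZMod p) : Decidable (EigOK W s a) := by
  unfold EigOK; infer_instance

variable {D : ChevalleyDatum} {l : ℕ} {M : CoxeterMatrix (Fin l)} (hp : IsType D l M)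

theorem lam_rep {p : ℕ} {W : M.Group} {Wm : Mat l} (h : ∀ j, rep M.toCoxeterSystem hp.isCartan W (sr j) = Wm j)
    {s : ZMod p} {a : Fin l → ZMod p} (ha : EigOK Wm s a) (x : Fin l → ℤ) :
    lam a (rep M.toCoxeterSystem hp.isCartan W x) = s * lam a x := by
  have h1 := ext_sr ((lamHom a).comp (rep M.toCoxeterSystem hp.isCartan W).toAddMonoidHom)
    ((AddMonoidHom.mulLeft s).comp (lamHom a)) (fun i => by
      show lam a (rep M.toCoxeterSystem hp.isCartan W (sr i)) = s * lam a (sr i)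
      rw [h i, lam_sr]
      exact ha i) x
  exact h1

include hp in
/-- **`Loc p e` from Weyl group data.** -/
theorem loc_of_data {F : Type u} [Field F] [Fintype F] {p : ℕ} [hpp : Fact p.Prime] (hpF : (p : F) ≠ 0)
    {B : Fin l → Fin l → ℤ} (hB : InvC D l 1 B) {A : Mat l} (hA : ∀ i j, A i j = cartanOf D l i j)
    {Cw Cv : List (Fin l × Mat l)} (hw : ChainOK A Cw) (hv : ChainOK A Cv) (hc : CommOK (hd Cv) (hd Cw))
    {a b : Fin l → ZMod p} (haw : EigOK (hd Cw) (Fintype.card F : ZMod p) a)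
    (hbw : EigOK (hd Cw) (Fintype.card F : ZMod p) b) {s : ZMod p} {n : ℕ} (hsn : (n : ZMod p) * s = 1)
    (hav : EigOK (hd Cv) s a) (hbv : EigOK (hd Cv) 1 b) {e : ℕ} (he : orderOf (n : ZMod p) = e)
    {z : Fin l → ℤ} (hz1 : lam b z = 0) (hz2 : lam a z ≠ 0) {z' : Fin l → ℤ} (hz3 : lam b z' ≠ 0) :
    Loc p e ↥(D.group F) := by
  classical
  obtain ⟨r, e', hr, hrF, hrk, he', hq, hk⟩ := exists_closure (F := F) rfl
  have hpr : p ≠ r := by
    rintro rfl
    exact hpF (CharP.cast_eq_zero F p)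
  have hp1 : p.Prime := hpp.out
  let k := AlgebraicClosure F
  let f : F →+* k := algebraMap F (AlgebraicClosure F)
  -- the root of unity
  have hpk : (p : k) ≠ 0 := by
    intro h
    have h1 := (CharP.cast_eq_zero_iff k r p).1 h
    exact hpr.symm ((Nat.prime_dvd_prime_iff_eq hr.out hp1).1 h1)
  have : NeZero (p : k) := ⟨hpk⟩
  obtain ⟨ζ, hζ⟩ := HasEnoughRootsOfUnity.exists_primitiveRoot k p
  have hζp : ζ ^ p = 1 := hζ.pow_eq_one
  have hζinj : ∀ c : ZMod p, ζ ^ c.val = 1 → c = 0 := by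
    intro c h
    have h1 := (hζ.pow_eq_one_iff_dvd _).1 h
    have h2 : c.val < p := ZMod.val_lt c
    have h3 : c.val = 0 := Nat.eq_zero_of_dvd_of_lt h1 h2
    exact (ZMod.val_eq_zero c).1 h3
  -- the torus elements
  obtain ⟨ta, hta, hXa⟩ := exists_cX hp (k := k) hB one_ne_zero (isMC_chr hζp a) (fun i => ⟨_, pow_one _⟩)
  obtain ⟨tb, htb, hXb⟩ := exists_cX hp (k := k) hB one_ne_zero (isMC_chr hζp b) (fun i => ⟨_, pow_one _⟩)
  -- the frame automorphism
  set σ := phi D k r e' with hσdef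
  have hσ : IsFrob r e' σ := isFrob_phi
  have Fr0 : Fr M.toCoxeterSystem hp.isCartan (TT D k) (XX D l k) σ (AddEquiv.refl (Fin l → ℤ)) := fr_phi hp _
  have H := tow hp M.toCoxeterSystem hk r
  set w : M.Group := M.toCoxeterSystem.wordProd (Cw.map Prod.fst) with hwdef
  set v : M.Group := M.toCoxeterSystem.wordProd (Cv.map Prod.fst) with hvdef
  have hwr := chain_rep hp M.toCoxeterSystem hA hw
  have hvr := chain_rep hp M.toCoxeterSystem hA hv
  rw [← hwdef] at hwr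
  rw [← hvdef] at hvr
  obtain ⟨nw, hnw⟩ := exists_rp M.toCoxeterSystem H.nsys w
  obtain ⟨u, hu⟩ := lang_all hp M.toCoxeterSystem he' hσ Fr0 1 nw
  have hu' : nw = u⁻¹ * σ u := by
    rw [map_one, one_mul] at hu
    exact hu
  have Fr1 : Fr M.toCoxeterSystem hp.isCartan (TT D k) (XX D l k) (ct σ u)
      ((AddEquiv.refl (Fin l → ℤ)).trans (repAut M.toCoxeterSystem hp.isCartan w)) := by
    have h1 := Fr.conj H (by rw [hu'] at hnw; exact hnw : Rp M.toCoxeterSystem H.nsys w (u⁻¹ * σ u))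
    rw [TL_eq hp hk, XL_eq hp hk] at h1
    exact h1.mul Fr0
  have hσ1 : IsFrob r e' (ct σ u) := hσ.conj_mul _
  have hg1 : ∀ x, ((AddEquiv.refl (Fin l → ℤ)).trans (repAut M.toCoxeterSystem hp.isCartan w)) x =
      rep M.toCoxeterSystem hp.isCartan w x := fun x => rfl
  -- fixed
  have hfixt : ∀ {c : Fin l → ZMod p} (hcw : EigOK (hd Cw) (Fintype.card F : ZMod p) c) {t : ↥(D.group k)}
      (ht : t ∈ TT D k) (hX : ∀ x, cX hp t x = chr ζ c x), ct σ u t = t := by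
    intro c hcw t ht hX
    refine cX_inj hp ((Fr1.tor t).2 ht) ht fun i => ?_
    obtain ⟨y, hy⟩ := ((AddEquiv.refl (Fin l → ℤ)).trans (repAut M.toCoxeterSystem hp.isCartan w)).surjective (sr i)
    rw [← hy, cX_sigma hp M.toCoxeterSystem hσ1 Fr1 ht, hX, hX, hg1]
    unfold chr
    rw [lam_rep hp hwr hcw, pow_val_cast hζp, ← hq]
  have hfa := hfixt haw hta hXa
  have hfb := hfixt hbw htb hXb
  -- the lift of `v`
  have hcomm : ∀ x, rep M.toCoxeterSystem hp.isCartan v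
      (((AddEquiv.refl (Fin l → ℤ)).trans (repAut M.toCoxeterSystem hp.isCartan w)) x) =
      ((AddEquiv.refl (Fin l → ℤ)).trans (repAut M.toCoxeterSystem hp.isCartan w))
        (rep M.toCoxeterSystem hp.isCartan v x) := by
    intro x
    rw [hg1, hg1]
    have h1 := ext_sr ((rep M.toCoxeterSystem hp.isCartan v).toAddMonoidHom.comp
        (rep M.toCoxeterSystem hp.isCartan w).toAddMonoidHom)
      ((rep M.toCoxeterSystem hp.isCartan w).toAddMonoidHom.comp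
        (rep M.toCoxeterSystem hp.isCartan v).toAddMonoidHom) (fun j => by
          show rep M.toCoxeterSystem hp.isCartan v (rep M.toCoxeterSystem hp.isCartan w (sr j)) =
            rep M.toCoxeterSystem hp.isCartan w (rep M.toCoxeterSystem hp.isCartan v (sr j))
          funext m
          rw [H795.TorsData.rep_of_sr hp M.toCoxeterSystem hvr, H795.TorsData.rep_of_sr hp M.toCoxeterSystem hwr,
            hwr, hvr]
          exact (hc j m).symm) x
    exact h1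
  obtain ⟨m, hm, hmf⟩ := exists_fixed_lift hp hk hB one_ne_zero he' hσ1 Fr1 hcomm
  -- back in the finite group
  have hback : ∀ {t : ↥(D.group k)}, ct σ u t = t → ∃ x : ↥(D.group F), emb hp.inList f x = u * t * u⁻¹ := by
    intro t ht
    exact fix_range hp M.toCoxeterSystem f hq hB one_ne_zero (fun a => ⟨a, pow_one a⟩) (ct_fix.1 ht)
  obtain ⟨y, hy⟩ := hback hfa
  obtain ⟨x, hx⟩ := hback hfb
  obtain ⟨c, hcx⟩ := hback hmf
  have hinj := emb_injective hp.inList f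
  -- orders
  have hord : ∀ {c : Fin l → ZMod p} {t : ↥(D.group k)} (ht : t ∈ TT D k) (hX : ∀ x, cX hp t x = chr ζ c x)
      {z : Fin l → ℤ} (hz : lam c z ≠ 0) {g : ↥(D.group F)} (hg : emb hp.inList f g = u * t * u⁻¹),
      orderOf g = p := by
    intro c t ht hX z hz g hg
    rw [← orderOf_injective _ hinj g, hg]
    have h1 : orderOf (u * t * u⁻¹) = orderOf t :=
      orderOf_injective (MulAut.conj u).toMonoidHom (MulAut.conj u).injective t
    rw [h1]
    refine orderOf_eq_prime ?_ ?_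
    · refine cX_inj hp (pow_mem ht p) (one_mem _) fun i => ?_
      rw [cX_pow hp ht, cX_one, hX]
      unfold chr
      rw [← pow_mul, mul_comm, pow_mul, hζp, one_pow]
    · intro h2
      apply hz
      apply hζinj
      have h3 := hX z
      rw [h2, cX_one] at h3
      exact h3.symm
  have hma := rp_conj_mem hp hk hm hta
  have hmb := rp_conj_mem hp hk hm htb
  have hvx : ∀ x, ∃ y, rep M.toCoxeterSystem hp.isCartan v y = x := fun x =>
    (repAut M.toCoxeterSystem hp.isCartan v).surjective x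
  refine ⟨x, y, c, n, hord htb hXb hz3 hx, hord hta hXa hz2 hy, ?_, ?_, ?_, ?_, he⟩
  · apply hinj
    rw [map_mul, map_mul, hx, hy]
    have h1 := TT_comm hp (K := k) _ hta _ htb
    calc u * tb * u⁻¹ * (u * ta * u⁻¹) = u * (tb * ta) * u⁻¹ := by group
      _ = u * (ta * tb) * u⁻¹ := by rw [h1]
      _ = _ := by group
  · rintro ⟨j, hj⟩
    have h1 := congrArg (emb hp.inList f) hj
    have h1' : (emb hp.inList f) x ^ j = emb hp.inList f y := by
      rw [← map_zpow]; exact h1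
    rw [hx, hy, conj_zpow] at h1'
    have h2 : tb ^ j = ta := mul_left_cancel (mul_right_cancel h1')
    -- characters at `z`
    apply hz2
    apply hζinj
    have hm1 : tb ^ (j % (p : ℤ)).toNat = ta := by
      have hpz : (p : ℤ) ≠ 0 := by exact_mod_cast hp1.ne_zero
      have htp : tb ^ p = 1 := by
        refine cX_inj hp (pow_mem htb p) (one_mem _) fun i => ?_
        rw [cX_pow hp htb, cX_one, hXb]
        unfold chr
        rw [← pow_mul, mul_comm, pow_mul, hζp, one_pow]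
      rw [← h2, ← zpow_natCast, Int.toNat_of_nonneg (Int.emod_nonneg _ hpz)]
      conv_rhs => rw [← Int.emod_add_mul_ediv j p, zpow_add, zpow_mul, zpow_natCast, htp, one_zpow, mul_one]
    have h3 := hXa z
    rw [← hm1, cX_pow hp htb, hXb] at h3
    unfold chr at h3
    rw [hz1, ZMod.val_zero, pow_zero, one_pow] at h3
    exact h3.symm
  · apply hinj
    rw [map_mul, map_mul, hx, hcx]
    have h1 : m * tb * m⁻¹ = tb := by
      refine cX_inj hp hmb htb fun i => ?_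
      obtain ⟨y', hy'⟩ := hvx (sr i)
      rw [← hy', cX_rp' hp hk hm htb, hXb, hXb]
      unfold chr
      rw [lam_rep hp hvr hbv, one_mul]
    have h2 : m * tb = tb * m := by
      rw [mul_inv_eq_iff_eq_mul] at h1
      exact h1
    calc u * m * u⁻¹ * (u * tb * u⁻¹) = u * (m * tb) * u⁻¹ := by group
      _ = u * (tb * m) * u⁻¹ := by rw [h2]
      _ = _ := by group
  · apply hinj
    rw [map_mul, map_mul, map_inv, map_pow, hy, hcx]
    have h1 : m * ta * m⁻¹ = ta ^ n := by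
      refine cX_inj hp hma (pow_mem hta n) fun i => ?_
      obtain ⟨y', hy'⟩ := hvx (sr i)
      rw [← hy', cX_rp' hp hk hm hta, cX_pow hp hta, hXa, hXa]
      unfold chr
      rw [lam_rep hp hvr hav, ← pow_val_cast hζp, ← mul_assoc, hsn, one_mul]
    calc u * m * u⁻¹ * (u * ta * u⁻¹) * (u * m * u⁻¹)⁻¹ = u * (m * ta * m⁻¹) * u⁻¹ := by group
      _ = u * ta ^ n * u⁻¹ := by rw [h1]
      _ = _ := by rw [conj_pow]

end Cfsg.Agent.H210.EL
end

-- part: H440/TD4/Model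
section
set_option linter.all false
open scoped Cfsg.Agent.FastGrp

/-!
# The torus model (S4822, KE; helper440)

`σ` a frame automorphism of Frobenius type of `D.group k`, `k` algebraically closed and locally finite, with lattice automorphism
`g`; `f : G →* D.group k` injective, onto the fixed points of `σ`. For `w` in the Weyl group let

`Lam w = {c | lam c (rep w (g x)) = r ^ e * lam c x for all x}` (functionals on the root lattice modulo `p`).

`exists_model` : there is `X : (Fin l → ZMod p) → G` with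
* `X (c + c') = X c * X c'`, `X c = 1 → c = 0`, `X c ^ p = 1` for `c`, `c'` in `Lam w`;
* for `v` commuting with `rep w ∘ g` there is `m : G` with `m X(c) m⁻¹ = X(c')` if `c' ∘ v = c`;
* fusion is controlled by the Weyl group: `h X(c) h⁻¹ = X(c')` implies `c' ∘ w' = c` for some `w'`.
-/

set_option autoImplicit false
set_option linter.unusedSectionVars false

namespace Cfsg.Agent.H440.TD4

open CoxeterSystem Cfsg Cfsg.Lie Cfsg.Lie.ChevalleyDatum
open Cfsg.Agent.ChevalleyStructure Cfsg.Agent.ChevalleyStructure.Elts Cfsg.Agent.ChevalleyStructure.CoxeterGeom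
  Cfsg.Agent.ChevalleyStructure.CoxeterGeomTypes Cfsg.Agent.ChevalleyStructure.NPerm
open Cfsg.Agent.Tits.Roots Cfsg.Agent.Tits.Core Cfsg.Agent.Nodes Cfsg.Agent.Nodes.Reps Cfsg.Agent.Nodes.BNOf
  Cfsg.Agent.Nodes.RGDChev Cfsg.Agent.Nodes.Bruhat
open Cfsg.Agent.KFacts.RgdField Cfsg.Agent.KFacts.RgdChevCoord Cfsg.Agent.BpExc.TorCent Cfsg.Agent.BpExc.TorChev
open Cfsg.Agent.GpExc.Field Cfsg.Agent.BpExc.Tow Cfsg.Agent.BpExc.TowChev Cfsg.Agent.BpExc.Fr
  Cfsg.Agent.BpExc.LangFr Cfsg.Agent.H795.SetCent Cfsg.Agent.H795.Toral Cfsg.Agent.H795.Core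
  Cfsg.Agent.H795.RootConn Cfsg.Agent.H795.SetTor Cfsg.Agent.H129.TorusChar Cfsg.Agent.H129.TorusUntw
  Cfsg.Agent.H129.WData Cfsg.Agent.H795.Reduce Cfsg.Agent.H795.LangT Cfsg.Agent.H123.ExcZ
  Cfsg.Agent.BpExc Cfsg.Agent.H210.EL

universe u v

variable {D : ChevalleyDatum} {l : ℕ} {M : CoxeterMatrix (Fin l)} (hp : IsType D l M)

/-- the functionals modulo `p` in the eigenspace of `θ = rep w ∘ g` -/
def Lam (hp : IsType D l M) (p Q : ℕ) (g : (Fin l → ℤ) ≃+ (Fin l → ℤ)) (w : M.Group) : Set (Fin l → ZMod p) :=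
  {c | ∀ x, lam c (rep M.toCoxeterSystem hp.isCartan w (g x)) = (Q : ZMod p) * lam c x}

theorem lam_add' {p : ℕ} (a b : Fin l → ZMod p) (x : Fin l → ℤ) : lam (a + b) x = lam a x + lam b x := by
  unfold lam
  rw [← Finset.sum_add_distrib]
  refine Finset.sum_congr rfl fun n _ => ?_
  rw [Pi.add_apply, mul_add]

theorem lam_smul' {p : ℕ} (s : ZMod p) (a : Fin l → ZMod p) (x : Fin l → ℤ) : lam (s • a) x = s * lam a x := by
  unfold lam
  rw [Finset.mul_sum]
  refine Finset.sum_congr rfl fun n _ => ?_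
  rw [Pi.smul_apply, smul_eq_mul]
  ring

theorem Lam.add {p Q : ℕ} {g : (Fin l → ℤ) ≃+ (Fin l → ℤ)} {w : M.Group} {a b : Fin l → ZMod p}
    (ha : a ∈ Lam hp p Q g w) (hb : b ∈ Lam hp p Q g w) : a + b ∈ Lam hp p Q g w := by
  intro x
  rw [lam_add', lam_add', ha x, hb x, mul_add]

theorem Lam.smul {p Q : ℕ} {g : (Fin l → ℤ) ≃+ (Fin l → ℤ)} {w : M.Group} {a : Fin l → ZMod p} (s : ZMod p)
    (ha : a ∈ Lam hp p Q g w) : s • a ∈ Lam hp p Q g w := by
  intro x
  rw [lam_smul', lam_smul', ha x]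
  ring

/-- The model of the elements of order `p` of a torus. -/
structure Model (hp : IsType D l M) (p Q : ℕ) (g : (Fin l → ℤ) ≃+ (Fin l → ℤ)) (w : M.Group) {G : Type v} [Group G]
    (X : (Fin l → ZMod p) → G) : Prop where
  add : ∀ c ∈ Lam hp p Q g w, ∀ c' ∈ Lam hp p Q g w, X (c + c') = X c * X c'
  inj : ∀ c ∈ Lam hp p Q g w, X c = 1 → c = 0
  pow : ∀ c ∈ Lam hp p Q g w, X c ^ p = 1
  act : ∀ v : M.Group, (∀ x, rep M.toCoxeterSystem hp.isCartan v (rep M.toCoxeterSystem hp.isCartan w (g x)) =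
      rep M.toCoxeterSystem hp.isCartan w (g (rep M.toCoxeterSystem hp.isCartan v x))) →
    ∃ m : G, ∀ c ∈ Lam hp p Q g w, ∀ c' ∈ Lam hp p Q g w,
      (∀ x, lam c' (rep M.toCoxeterSystem hp.isCartan v x) = lam c x) → m * X c * m⁻¹ = X c'
  fus : ∀ c ∈ Lam hp p Q g w, ∀ c' ∈ Lam hp p Q g w, ∀ h : G, h * X c * h⁻¹ = X c' →
    ∃ w' : M.Group, ∀ x, lam c' (rep M.toCoxeterSystem hp.isCartan w' x) = lam c x

section

variable {k : Type u} [Field k] [IsAlgClosed k] {r e : ℕ} [hr : Fact r.Prime] [CharP k r] (hk : LocFin k)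
  {σ : MulAut ↥(D.group k)} {g : (Fin l → ℤ) ≃+ (Fin l → ℤ)}

include hp hr hk in
/-- elements of the torus which are conjugate in `D.group k` are conjugate under the Weyl group -/
theorem exists_weyl {s t c : ↥(D.group k)} (hs : s ∈ TT D k) (ht : t ∈ TT D k) (hc : c * s = t * c) :
    ∃ w : M.Group, ∀ x, cX hp t (rep M.toCoxeterSystem hp.isCartan w x) = cX hp s x := by
  have hWf := finite_W hp (M.toCoxeterSystem)
  have H := tow hp M.toCoxeterSystem hk r
  have C : Coords M.toCoxeterSystem hp.isCartan (TL (Tj hp (k := k))) (nc hp k) (XL (Xj hp)) (xc hp) (ch hp) := by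
    rw [TL_eq hp hk, XL_eq hp hk]
    exact coordsL hp M.toCoxeterSystem hk r
  have hGt := GG_eq_top hp M.toCoxeterSystem hk
  have hTL := TL_eq (k := k) hp hk
  obtain ⟨m, hm, w, n, hn, hns, -⟩ := exists_form' H C (ι := Unit) (s := fun _ => s) (t := fun _ => t)
    (fun _ => by rw [hTL]; exact hs) (fun _ => by rw [hTL]; exact ht) (c := c)
    (by rw [hGt]; exact Subgroup.mem_top _) (fun _ => hc)
  refine ⟨w, fun x => ?_⟩
  rw [← cX_rp' hp hk hn hs x, hns (), mul_inv_cancel_right]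

include hk in
/-- **The torus model.** -/
theorem exists_model {p : ℕ} [hpp : Fact p.Prime] (hpr : p ≠ r) {d : ℕ} {B : Fin l → Fin l → ℤ} (hB : InvC D l d B)
    (hd : d ≠ 0) (he : 0 < e) (hσ : IsFrob r e σ)
    (F0 : Fr M.toCoxeterSystem hp.isCartan (TT D k) (XX D l k) σ g) {G : Type v} [Group G] {f : G →* ↥(D.group k)}
    (hinj : Function.Injective f) (hrange : ∀ y, σ y = y → ∃ x, f x = y) (w : M.Group) :
    ∃ X : (Fin l → ZMod p) → G, Model hp p (r ^ e) g w X := by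
  classical
  have hp1 : p.Prime := hpp.out
  -- the root of unity
  have hpk : (p : k) ≠ 0 := by
    intro h
    have h1 := (CharP.cast_eq_zero_iff k r p).1 h
    exact hpr.symm ((Nat.prime_dvd_prime_iff_eq hr.out hp1).1 h1)
  have : NeZero (p : k) := ⟨hpk⟩
  obtain ⟨ζ, hζ⟩ := HasEnoughRootsOfUnity.exists_primitiveRoot k p
  have hζp : ζ ^ p = 1 := hζ.pow_eq_one
  have hζinj : ∀ a b : ZMod p, ζ ^ a.val = ζ ^ b.val → a = b := by
    intro a b h
    exact ZMod.val_injective p (hζ.pow_inj (ZMod.val_lt a) (ZMod.val_lt b) h)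
  -- the torus elements
  have hex : ∀ c : Fin l → ZMod p, ∃ t ∈ TT D k, ∀ x, cX hp t x = chr ζ c x := fun c =>
    exists_cX hp (k := k) hB hd (isMC_chr hζp c) (fun i => IsAlgClosed.exists_pow_nat_eq _ (Nat.pos_of_ne_zero hd))
  choose t ht hX using hex
  have ht_add : ∀ c c', t (c + c') = t c * t c' := by
    intro c c'
    refine cX_inj hp (ht _) (mul_mem (ht _) (ht _)) fun i => ?_
    rw [cX_mul hp (ht _) (ht _), hX, hX, hX]
    unfold chr
    rw [lam_add', pow_val_add hζp]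
  have ht_eq : ∀ c c' : Fin l → ZMod p, (∀ x, lam c x = lam c' x) → c = c' := by
    intro c c' h
    funext i
    have := h (sr i)
    rwa [lam_sr, lam_sr] at this
  -- the frame automorphism
  have H := tow hp M.toCoxeterSystem hk r
  obtain ⟨nw, hnw⟩ := exists_rp M.toCoxeterSystem H.nsys w
  obtain ⟨u, hu⟩ := lang_all hp M.toCoxeterSystem he hσ F0 1 nw
  have hu' : nw = u⁻¹ * σ u := by
    rw [map_one, one_mul] at hu
    exact hu
  have Fr1 : Fr M.toCoxeterSystem hp.isCartan (TT D k) (XX D l k) (ct σ u)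
      (g.trans (repAut M.toCoxeterSystem hp.isCartan w)) := by
    have h1 := Fr.conj H (by rw [hu'] at hnw; exact hnw : Rp M.toCoxeterSystem H.nsys w (u⁻¹ * σ u))
    rw [TL_eq hp hk, XL_eq hp hk] at h1
    exact h1.mul F0
  have hσ1 : IsFrob r e (ct σ u) := hσ.conj_mul _
  have hg1 : ∀ x, (g.trans (repAut M.toCoxeterSystem hp.isCartan w)) x =
      rep M.toCoxeterSystem hp.isCartan w (g x) := fun x => rfl
  -- fixed
  have hfixt : ∀ c ∈ Lam hp p (r ^ e) g w, ct σ u (t c) = t c := by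
    intro c hcw
    refine cX_inj hp ((Fr1.tor (t c)).2 (ht c)) (ht c) fun i => ?_
    obtain ⟨y, hy⟩ := (g.trans (repAut M.toCoxeterSystem hp.isCartan w)).surjective (sr i)
    rw [← hy, cX_sigma hp M.toCoxeterSystem hσ1 Fr1 (ht c), hX, hX, hg1]
    unfold chr
    rw [hcw y, pow_val_cast hζp]
  -- back in the finite group
  have hback : ∀ {t : ↥(D.group k)}, ct σ u t = t → ∃ x : G, f x = u * t * u⁻¹ := by
    intro t ht
    exact hrange _ (ct_fix.1 ht)
  have hexX : ∀ c : Fin l → ZMod p, ∃ x : G, c ∈ Lam hp p (r ^ e) g w → f x = u * t c * u⁻¹ := by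
    intro c
    by_cases hc : c ∈ Lam hp p (r ^ e) g w
    · obtain ⟨x, hx⟩ := hback (hfixt c hc)
      exact ⟨x, fun _ => hx⟩
    · exact ⟨1, fun h => absurd h hc⟩
  choose X hXf using hexX
  refine ⟨X, ?_, ?_, ?_, ?_, ?_⟩
  · intro c hc c' hc'
    apply hinj
    rw [map_mul, hXf _ (Lam.add hp hc hc'), hXf _ hc, hXf _ hc', ht_add]
    group
  · intro c hc h1
    have h2 := hXf _ hc
    rw [h1, map_one] at h2
    have h3 : t c = 1 := by
      have h4 : u * t c * u⁻¹ = 1 := h2.symm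
      rwa [conj_eq_one_iff] at h4
    refine ht_eq _ _ fun x => hζinj _ _ ?_
    have h4 := hX c x
    rw [h3, cX_one] at h4
    rw [show lam (0 : Fin l → ZMod p) x = 0 by unfold lam; simp, ZMod.val_zero, pow_zero]
    exact h4.symm
  · intro c hc
    apply hinj
    rw [map_pow, map_one, hXf _ hc, conj_pow, conj_eq_one_iff]
    refine cX_inj hp (pow_mem (ht c) p) (one_mem _) fun i => ?_
    rw [cX_pow hp (ht c), cX_one, hX]
    unfold chr
    rw [← pow_mul, mul_comm, pow_mul, hζp, one_pow]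
  · intro v hv
    obtain ⟨m, hm, hmf⟩ := exists_fixed_lift hp hk hB hd he hσ1 Fr1 hv
    obtain ⟨n, hn⟩ := hback hmf
    refine ⟨n, fun c hc c' hc' hcc => ?_⟩
    apply hinj
    rw [map_mul, map_mul, map_inv, hXf _ hc, hXf _ hc', hn]
    have h1 : m * t c * m⁻¹ = t c' := by
      refine cX_inj hp (rp_conj_mem hp hk hm (ht c)) (ht c') fun i => ?_
      obtain ⟨y', hy'⟩ := (repAut M.toCoxeterSystem hp.isCartan v).surjective (sr i)
      have hy : rep M.toCoxeterSystem hp.isCartan v y' = sr i := hy'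
      rw [← hy, cX_rp' hp hk hm (ht c), hX, hX]
      unfold chr
      rw [hcc]
    calc u * m * u⁻¹ * (u * t c * u⁻¹) * (u * m * u⁻¹)⁻¹ = u * (m * t c * m⁻¹) * u⁻¹ := by group
      _ = u * t c' * u⁻¹ := by rw [h1]
  · intro c hc c' hc' h hh
    have h1 := congrArg f hh
    rw [map_mul, map_mul, map_inv, hXf _ hc, hXf _ hc'] at h1
    obtain ⟨w', hw'⟩ := exists_weyl (r := r) hp hk (ht c) (ht c') (c := u⁻¹ * f h * u) (by
      calc u⁻¹ * f h * u * t c = u⁻¹ * (f h * (u * t c * u⁻¹) * (f h)⁻¹) * f h * u := by group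
        _ = u⁻¹ * (u * t c' * u⁻¹) * f h * u := by rw [h1]
        _ = t c' * (u⁻¹ * f h * u) := by group)
    refine ⟨w', fun x => hζinj _ _ ?_⟩
    have h2 := hw' x
    rw [hX, hX] at h2
    exact h2

end

end Cfsg.Agent.H440.TD4
end

-- part: H994/KE/Base
section
set_option linter.all false
open scoped Cfsg.Agent.FastGrp

/-!
# Root values of elements of order `p` (S4822, KE5; helper994)

* `exists_perm` : an element of the Weyl group permutes the indices of the roots;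
* `exists_model` : the torus model of `H440.TD4.Model` for an untwisted group `D.group F`;
* `pow_eq_one_of_mult` : the bound for the fusion of the powers of an element by the multiplicities of the root values;
* `lam_pair`, `norm6`, `norm4` : functionals of the shape `V + u U` with integral `V`, `U`.
-/

set_option autoImplicit false
set_option linter.unusedSectionVars false

namespace Cfsg.Agent.H994.KE

open CoxeterSystem Cfsg Cfsg.Lie Cfsg.Lie.ChevalleyDatum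
open Cfsg.Agent.ChevalleyStructure Cfsg.Agent.ChevalleyStructure.Elts Cfsg.Agent.ChevalleyStructure.CoxeterGeom
  Cfsg.Agent.ChevalleyStructure.CoxeterGeomTypes Cfsg.Agent.ChevalleyStructure.NPerm
open Cfsg.Agent.Tits.Roots Cfsg.Agent.Tits.Core Cfsg.Agent.Nodes Cfsg.Agent.Nodes.Reps Cfsg.Agent.Nodes.BNOf
  Cfsg.Agent.Nodes.RGDChev Cfsg.Agent.Nodes.Bruhat
open Cfsg.Agent.KFacts.RgdField Cfsg.Agent.KFacts.RgdChevCoord Cfsg.Agent.BpExc.TorCent Cfsg.Agent.BpExc.TorChev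
open Cfsg.Agent.GpExc.Field Cfsg.Agent.BpExc.Tow Cfsg.Agent.BpExc.TowChev Cfsg.Agent.BpExc.Fr
  Cfsg.Agent.BpExc.LangFr Cfsg.Agent.H795.SetCent Cfsg.Agent.H795.Toral Cfsg.Agent.H795.Core
  Cfsg.Agent.H795.RootConn Cfsg.Agent.H795.SetTor Cfsg.Agent.H129.TorusChar Cfsg.Agent.H129.TorusUntw
  Cfsg.Agent.H129.WData Cfsg.Agent.H795.Reduce Cfsg.Agent.H795.LangT
  Cfsg.Agent.BpExc Cfsg.Agent.H210.EL Cfsg.Agent.H440.TD4

universe u v

section roots

variable {D : ChevalleyDatum} {l : ℕ} {M : CoxeterMatrix (Fin l)} (hp : IsType D l M)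

theorem isRoot_rep' (w : M.Group) {x : Fin l → ℤ} (hx : IsRoot M.toCoxeterSystem hp.isCartan x) :
    IsRoot M.toCoxeterSystem hp.isCartan (rep M.toCoxeterSystem hp.isCartan w x) := by
  obtain ⟨u, i, rfl⟩ := hx
  exact ⟨w * u, i, by rw [rep_mul_apply]⟩

/-- the permutation of the indices of the roots -/
theorem exists_perm (w : M.Group) : ∃ π : Equiv.Perm (Fin D.nroots),
    ∀ r, vec D l (π r) = rep M.toCoxeterSystem hp.isCartan w (vec D l r) := by
  classical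
  have h1 : ∀ (w : M.Group) (r : Fin D.nroots), ∃ s : Fin D.nroots,
      vec D l s = rep M.toCoxeterSystem hp.isCartan w (vec D l r) := by
    intro w r
    obtain ⟨s, hs, e⟩ := (isRoot_iff hp M.toCoxeterSystem _).1
      (isRoot_rep' (hp := hp) w (isRoot_vec hp M.toCoxeterSystem r.2))
    exact ⟨⟨s, hs⟩, e⟩
  choose f hf using h1 w
  have hinj : Function.Injective f := by
    intro a b hab
    have h2 : rep M.toCoxeterSystem hp.isCartan w (vec D l a) = rep M.toCoxeterSystem hp.isCartan w (vec D l b) := by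
      rw [← hf, ← hf, hab]
    have h3 := congrArg (rep M.toCoxeterSystem hp.isCartan w⁻¹) h2
    rw [rep_inv_apply, rep_inv_apply] at h3
    exact Fin.ext (vec_inj hp a.2 b.2 h3)
  exact ⟨Equiv.ofBijective f (Finite.injective_iff_bijective.1 hinj), fun r => hf r⟩

/-- the root values -/
def rv {p : ℕ} (D : ChevalleyDatum) (l : ℕ) (c : Fin l → ZMod p) (r : Fin D.nroots) : ZMod p := lam c (vec D l r)

/-- the number of the roots with value `v` -/
def mu {p : ℕ} (D : ChevalleyDatum) (l : ℕ) (c : Fin l → ZMod p) (v : ZMod p) : ℕ :=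
  (Finset.univ.filter fun r : Fin D.nroots => rv D l c r = v).card

/-- conjugate functionals have the same multiplicities -/
theorem mu_eq {p : ℕ} {c c' : Fin l → ZMod p} {w : M.Group}
    (h : ∀ x, lam c' (rep M.toCoxeterSystem hp.isCartan w x) = lam c x) (v : ZMod p) :
    mu D l c v = mu D l c' v := by
  classical
  obtain ⟨π, hπ⟩ := exists_perm hp w
  unfold mu
  refine Finset.card_bij (fun r _ => π r) ?_ ?_ ?_
  · intro r hr
    rw [Finset.mem_filter] at hr ⊢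
    refine ⟨Finset.mem_univ _, ?_⟩
    rw [← hr.2]
    unfold rv
    rw [hπ, h]
  · intro a _ b _ hab
    exact π.injective hab
  · intro s hs
    rw [Finset.mem_filter] at hs
    refine ⟨π.symm s, ?_, π.apply_symm_apply s⟩
    rw [Finset.mem_filter]
    refine ⟨Finset.mem_univ _, ?_⟩
    rw [← hs.2]
    unfold rv
    rw [← h, ← hπ, π.apply_symm_apply]

theorem mu_smul {p : ℕ} [Fact p.Prime] (c : Fin l → ZMod p) {i : ZMod p} (hi : i ≠ 0) (v : ZMod p) :
    mu D l (i • c) (i * v) = mu D l c v := by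
  unfold mu
  refine congrArg Finset.card (Finset.filter_congr fun r _ => ?_)
  unfold rv
  rw [lam_smul']
  exact ⟨fun h => mul_left_cancel₀ hi h, fun h => by rw [h]⟩

end roots

section model

variable {D : ChevalleyDatum} {l : ℕ} {M : CoxeterMatrix (Fin l)} (hp : IsType D l M)

include hp in
/-- **The torus model of an untwisted group.** -/
theorem exists_model {F : Type u} [Field F] [Fintype F] {p : ℕ} [hpp : Fact p.Prime] (hpF : (p : F) ≠ 0)
    {B : Fin l → Fin l → ℤ} (hB : InvC D l 1 B) (w : M.Group) :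
    ∃ X : (Fin l → ZMod p) → ↥(D.group F), Model hp p (Fintype.card F) (AddEquiv.refl (Fin l → ℤ)) w X := by
  obtain ⟨r, e', hr, hrF, hrk, he', hq, hk⟩ := exists_closure (F := F) rfl
  have hpr : p ≠ r := by
    rintro rfl
    exact hpF (CharP.cast_eq_zero F p)
  let k := AlgebraicClosure F
  let f : F →+* k := algebraMap F (AlgebraicClosure F)
  have hσ : IsFrob r e' (phi D k r e') := isFrob_phi
  have F0 : Fr M.toCoxeterSystem hp.isCartan (TT D k) (XX D l k) (phi D k r e') (AddEquiv.refl (Fin l → ℤ)) :=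
    fr_phi hp _
  rw [hq]
  exact Cfsg.Agent.H440.TD4.exists_model (k := k) hp hk hpr hB one_ne_zero he' hσ F0
    (f := emb hp.inList f) (emb_injective hp.inList f)
    (fun y hy => fix_range hp M.toCoxeterSystem f hq hB one_ne_zero (fun a => ⟨a, pow_one a⟩) hy) w

end model

/-- **The bound for the fusion.** -/
theorem pow_eq_one_of_mult {p : ℕ} [hpp : Fact p.Prime] {N : ℕ} (f : Fin N → ZMod p) {i u : ZMod p} (hi : i ≠ 0)
    {e : ℕ} (hu0 : u ≠ 0) (hu : orderOf u = e)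
    (hfi : ∀ v, (Finset.univ.filter fun r => f r = i * v).card = (Finset.univ.filter fun r => f r = v).card)
    (hfu : ∀ v, (Finset.univ.filter fun r => f r = u * v).card = (Finset.univ.filter fun r => f r = v).card)
    {v0 : ZMod p} (hv0 : v0 ≠ 0) {m z : ℕ} (hm : m ≤ (Finset.univ.filter fun r => f r = v0).card)
    (hz : z ≤ (Finset.univ.filter fun r => f r = 0).card) (hN : N < z + 2 * e * m) : i ^ e = 1 := by
  classical
  by_contra hne
  -- powers of `u`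
  have hfuk : ∀ k : ℕ, ∀ v, (Finset.univ.filter fun r => f r = u ^ k * v).card =
      (Finset.univ.filter fun r => f r = v).card := by
    intro k
    induction k with
    | zero => intro v; rw [pow_zero, one_mul]
    | succ k ih => intro v; rw [pow_succ', mul_assoc, hfu, ih]
  have hue : u ^ e = 1 := by rw [← hu]; exact pow_orderOf_eq_one u
  let g : Fin 2 × Fin e → ZMod p := fun a => i ^ (a.1 : ℕ) * u ^ (a.2 : ℕ) * v0
  have hmul : ∀ a, m ≤ (Finset.univ.filter fun r => f r = g a).card := by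
    rintro ⟨a, b⟩
    show m ≤ (Finset.univ.filter fun r => f r = i ^ (a : ℕ) * u ^ (b : ℕ) * v0).card
    fin_cases a
    · show m ≤ (Finset.univ.filter fun r => f r = i ^ 0 * u ^ (b : ℕ) * v0).card
      rw [pow_zero, one_mul, hfuk]
      exact hm
    · show m ≤ (Finset.univ.filter fun r => f r = i ^ 1 * u ^ (b : ℕ) * v0).card
      rw [pow_one, mul_assoc, hfi, hfuk]
      exact hm
  have hpe : ∀ {x y : ZMod p}, x ≠ 0 → y ≠ 0 → x ^ e = 1 → y ^ e = 1 → i * x = y → False := by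
    intro x y hx hy h1 h2 h3
    apply hne
    have h4 := congrArg (· ^ e) h3
    simp only [mul_pow] at h4
    rw [h1, h2, mul_one] at h4
    exact h4
  have hue' : ∀ k : ℕ, (u ^ k) ^ e = 1 := fun k => by rw [← pow_mul, mul_comm, pow_mul, hue, one_pow]
  have hginj : Function.Injective g := by
    rintro ⟨a, b⟩ ⟨a', b'⟩ h
    have h' : i ^ (a : ℕ) * u ^ (b : ℕ) = i ^ (a' : ℕ) * u ^ (b' : ℕ) := mul_right_cancel₀ hv0 h
    have key : ∀ b b' : Fin e, u ^ (b : ℕ) = u ^ (b' : ℕ) → b = b' := by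
      intro b b' h
      have hU : orderOf (Units.mk0 u hu0) = e := by rw [← orderOf_units]; exact hu
      have h4 : Units.mk0 u hu0 ^ (b : ℕ) = Units.mk0 u hu0 ^ (b' : ℕ) := Units.ext h
      have h5 := pow_inj_mod.1 h4
      rw [hU, Nat.mod_eq_of_lt b.2, Nat.mod_eq_of_lt b'.2] at h5
      exact Fin.ext h5
    fin_cases a <;> fin_cases a'
    · have h1 : u ^ (b : ℕ) = u ^ (b' : ℕ) := by simpa using h'
      rw [key _ _ h1]
    · have h1 : u ^ (b : ℕ) = i * u ^ (b' : ℕ) := by simpa using h'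
      exact (hpe (pow_ne_zero _ hu0) (pow_ne_zero _ hu0) (hue' _) (hue' _) h1.symm).elim
    · have h1 : i * u ^ (b : ℕ) = u ^ (b' : ℕ) := by simpa using h'
      exact (hpe (pow_ne_zero _ hu0) (pow_ne_zero _ hu0) (hue' _) (hue' _) h1).elim
    · have h1 : i * u ^ (b : ℕ) = i * u ^ (b' : ℕ) := by simpa using h'
      rw [key _ _ (mul_left_cancel₀ hi h1)]
  have hg0 : ∀ a, g a ≠ 0 := fun a => mul_ne_zero (mul_ne_zero (pow_ne_zero _ hi) (pow_ne_zero _ hu0)) hv0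
  let T : Finset (ZMod p) := Finset.univ.image g
  have hTc : T.card = 2 * e := by
    rw [Finset.card_image_of_injective _ hginj, Finset.card_univ, Fintype.card_prod, Fintype.card_fin, Fintype.card_fin]
  have h0T : (0 : ZMod p) ∉ T := by
    intro h
    obtain ⟨a, -, ha⟩ := Finset.mem_image.1 h
    exact hg0 a ha
  have hsum : T.card * m ≤ ∑ v ∈ T, (Finset.univ.filter fun r => f r = v).card := by
    rw [← smul_eq_mul]
    refine Finset.card_nsmul_le_sum _ _ _ fun v hv => ?_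
    obtain ⟨a, -, rfl⟩ := Finset.mem_image.1 hv
    exact hmul a
  have hins : ∑ v ∈ insert 0 T, (Finset.univ.filter fun r => f r = v).card ≤ N := by
    calc ∑ v ∈ insert 0 T, (Finset.univ.filter fun r => f r = v).card
        = ((insert 0 T).biUnion fun v => Finset.univ.filter fun r => f r = v).card := by
          rw [Finset.card_biUnion]
          intro x _ y _ hxy
          rw [Function.onFun, Finset.disjoint_left]
          intro r hr hr'
          rw [Finset.mem_filter] at hr hr'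
          exact hxy (hr.2.symm.trans hr'.2)
      _ ≤ (Finset.univ : Finset (Fin N)).card := Finset.card_le_univ _
      _ = N := by rw [Finset.card_univ, Fintype.card_fin]
  rw [Finset.sum_insert h0T] at hins
  rw [hTc] at hsum
  omega

section pair

variable {p l : ℕ}

/-- `V + u U` -/
def fl (u : ZMod p) (V U : Fin l → ℤ) : Fin l → ZMod p := fun n => (V n : ZMod p) + u * (U n : ZMod p)

theorem lam_fl (u : ZMod p) (V U x : Fin l → ℤ) :
    lam (fl u V U) x = ((∑ n, x n * V n : ℤ) : ZMod p) + u * ((∑ n, x n * U n : ℤ) : ZMod p) := by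
  unfold lam fl
  rw [Int.cast_sum, Int.cast_sum, Finset.mul_sum, ← Finset.sum_add_distrib]
  refine Finset.sum_congr rfl fun n _ => ?_
  rw [Int.cast_mul, Int.cast_mul]
  ring

/-- the pair of integers belonging to a root value -/
def pr (D : ChevalleyDatum) (l : ℕ) (V U : Fin l → ℤ) (r : Fin D.nroots) : ℤ × ℤ :=
  (∑ n : Fin l, vec D l r n * V n, ∑ n : Fin l, vec D l r n * U n)

theorem rv_fl (D : ChevalleyDatum) (u : ZMod p) (V U : Fin l → ℤ) (r : Fin D.nroots) :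
    rv D l (fl u V U) r = ((pr D l V U r).1 : ZMod p) + u * ((pr D l V U r).2 : ZMod p) := by
  unfold rv
  rw [lam_fl]
  rfl

/-- the number of the roots with a given pair is a lower bound for the multiplicity -/
theorem le_mu (D : ChevalleyDatum) (u : ZMod p) (V U : Fin l → ℤ) (a b : ℤ) {m : ℕ}
    (h : m ≤ (Finset.univ.filter fun r : Fin D.nroots => pr D l V U r = (a, b)).card) :
    m ≤ mu D l (fl u V U) ((a : ZMod p) + u * (b : ZMod p)) := by
  refine h.trans (Finset.card_le_card fun r hr => ?_)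
  rw [Finset.mem_filter] at hr ⊢
  refine ⟨hr.1, ?_⟩
  rw [rv_fl, hr.2]

theorem norm6 [Fact p.Prime] {u : ZMod p} (hu : u ^ 2 = u - 1) {a b : ℤ} (h : (a : ZMod p) + u * (b : ZMod p) = 0) :
    ((a ^ 2 + a * b + b ^ 2 : ℤ) : ZMod p) = 0 := by
  push_cast
  linear_combination (((a : ZMod p) + b) - u * b) * h + (b : ZMod p) ^ 2 * hu

end pair

end Cfsg.Agent.H994.KE
end

-- part: H565/Tors3
section
set_option linter.all false
open scoped Cfsg.Agent.FastGrp


/-!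
# Elements of order `3` of the Weyl groups of type `G₂` and `D₄`

`Tors` for `p = 3` (and for all `p ≥ 3`): `torsG2`, `torsD4`.
-/

set_option autoImplicit false
set_option linter.unusedSectionVars false

namespace Cfsg.Agent.H565.T3

open CoxeterSystem Cfsg Cfsg.Lie Cfsg.Lie.ChevalleyDatum
open Cfsg.Agent.ChevalleyStructure Cfsg.Agent.ChevalleyStructure.CoxeterGeom
  Cfsg.Agent.ChevalleyStructure.CoxeterGeomTypes Cfsg.Agent.ChevalleyStructure.NPerm
open Cfsg.Agent.Tits.Roots Cfsg.Agent.Tits.Core Cfsg.Agent.Nodes Cfsg.Agent.Nodes.Reps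
  Cfsg.Agent.Nodes.RGDChev Cfsg.Agent.Nodes.SubComb
open Cfsg.Agent.H129.WData Cfsg.Agent.H129.TorusChar Cfsg.Agent.H795.SetTor Cfsg.Agent.H795.TorsData
  Cfsg.Agent.H795.RowsA

section Cert

variable {I W : Type*} [Fintype I] [DecidableEq I] [Group W] {M : CoxeterMatrix I}
  {cs : CoxeterSystem M W} {A : I → I → ℤ} {h : IsCartan M A}

/-- The certificate for one element of order `l`, `l ∥ |W|`, as a product of reflections. -/
theorem tors_of_cert' [Finite W] {l : ℕ} (hl : l.Prime) (hW : ¬ l ^ 2 ∣ Nat.card W) (L : List (W × I)) (w₀ : W)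
    (hw₀ : w₀ = (L.map fun a => rfl' cs a.1 a.2).prod) (ho : orderOf w₀ = l)
    (hx : ∀ a ∈ L, ∃ x : I → ℤ, rep cs h w₀ x - x = rep cs h a.1 (sr a.2)) : Tors cs h l := by
  classical
  intro w hw
  have hfl : Fact l.Prime := ⟨hl⟩
  -- both cyclic groups are Sylow subgroups
  have hsyl : ∀ v : W, orderOf v = l → ∃ P : Sylow l W, (P : Subgroup W) = Subgroup.zpowers v := by
    intro v hv
    have h1 : IsPGroup l ↥(Subgroup.zpowers v) :=
      IsPGroup.of_card (n := 1) (by rw [Nat.card_zpowers, hv, pow_one])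
    have h2 : ¬ l ∣ (Subgroup.zpowers v).index := by
      intro hd
      apply hW
      rw [← Subgroup.card_mul_index (Subgroup.zpowers v), Nat.card_zpowers, hv, pow_two]
      exact Nat.mul_dvd_mul_left l hd
    exact ⟨h1.toSylow h2, rfl⟩
  obtain ⟨P, hP⟩ := hsyl w hw
  obtain ⟨P₀, hP₀⟩ := hsyl w₀ ho
  obtain ⟨g, hg⟩ := MulAction.exists_smul_eq W P₀ P
  -- `g w₀ g⁻¹` is a power of `w`
  have h1 : g * w₀ * g⁻¹ ∈ Subgroup.zpowers w := by
    rw [← hP, ← hg, Sylow.coe_subgroup_smul, Subgroup.mem_pointwise_smul_iff_inv_smul_mem, ← map_inv, MulAut.smul_def,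
      MulAut.conj_apply, inv_inv, hP₀]
    have e : g⁻¹ * (g * w₀ * g⁻¹) * g = w₀ := by group
    rw [e]
    exact Subgroup.mem_zpowers w₀
  have hfin : IsOfFinOrder w := isOfFinOrder_of_finite w
  obtain ⟨i, hi⟩ := hfin.mem_powers_iff_mem_zpowers.2 h1
  have hi' : w ^ i = g * w₀ * g⁻¹ := hi
  -- `w` is a power of `g w₀ g⁻¹`
  have hord : orderOf (g * w₀ * g⁻¹) = l := by
    rw [← MulAut.conj_apply]
    rw [← ho]
    exact orderOf_injective (MulAut.conj g).toMonoidHom (MulAut.conj g).injective w₀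
  have h2 : w ∈ Subgroup.zpowers (g * w₀ * g⁻¹) := by
    have h3 : Subgroup.zpowers (g * w₀ * g⁻¹) ≤ Subgroup.zpowers w := Subgroup.zpowers_le.2 h1
    have h4 : Subgroup.zpowers (g * w₀ * g⁻¹) = Subgroup.zpowers w := by
      refine Subgroup.eq_of_le_of_card_ge h3 ?_
      rw [Nat.card_zpowers, Nat.card_zpowers, hord, hw]
    rw [h4]
    exact Subgroup.mem_zpowers w
  -- `(w ^ i - 1) y = (w - 1) (∑ ...)`
  have hsum : ∀ (m : ℕ) (y : I → ℤ), ∃ x, rep cs h w x - x = rep cs h (w ^ m) y - y := by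
    intro m y
    induction m with
    | zero => exact ⟨0, by rw [map_zero, sub_zero, pow_zero, map_one, Module.End.one_apply, sub_self]⟩
    | succ m ih =>
      obtain ⟨x, hx⟩ := ih
      refine ⟨x + rep cs h (w ^ m) y, ?_⟩
      rw [map_add, pow_succ', rep_mul_apply]
      have : rep cs h w x - x = rep cs h (w ^ m) y - y := hx
      have e : rep cs h w x = rep cs h (w ^ m) y - y + x := by rw [← this]; abel
      rw [e]
      abel
  have h5 : g * w₀ * g⁻¹ ∈ Subgroup.closure {v | ∃ (u : W) (i : I) (x : I → ℤ), v = rfl' cs u i ∧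
      rep cs h w x - x = rep cs h u (sr i)} := by
    -- the factors
    have h6 : ∀ a ∈ L, g * rfl' cs a.1 a.2 * g⁻¹ ∈ Subgroup.closure {v | ∃ (u : W) (i : I) (x : I → ℤ),
        v = rfl' cs u i ∧ rep cs h w x - x = rep cs h u (sr i)} := by
      intro a ha
      apply Subgroup.subset_closure
      obtain ⟨x, hx⟩ := hx a ha
      obtain ⟨y, hy⟩ := hsum i (rep cs h g x)
      refine ⟨g * a.1, a.2, y, ?_, ?_⟩
      · rw [rfl', rfl', mul_inv_rev]
        group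
      rw [hy, hi', rep_mul_apply, rep_mul_apply]
      have e : rep cs h g⁻¹ (rep cs h g x) = x := by
        rw [← rep_mul_apply, inv_mul_cancel, map_one, Module.End.one_apply]
      rw [e, rep_mul_apply, ← hx, map_sub]
    have h7 : ∀ L' : List (W × I), (∀ j ∈ L', j ∈ L) → g * (L'.map fun a => rfl' cs a.1 a.2).prod * g⁻¹ ∈
        Subgroup.closure {v | ∃ (u : W) (i : I) (x : I → ℤ), v = rfl' cs u i ∧
        rep cs h w x - x = rep cs h u (sr i)} := by
      intro L'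
      induction L' with
      | nil =>
        intro _
        rw [List.map_nil, List.prod_nil, mul_one, mul_inv_cancel]
        exact one_mem _
      | cons j L' ih =>
        intro hL'
        rw [List.map_cons, List.prod_cons]
        have e : g * (rfl' cs j.1 j.2 * (L'.map fun a => rfl' cs a.1 a.2).prod) * g⁻¹ =
            (g * rfl' cs j.1 j.2 * g⁻¹) * (g * (L'.map fun a => rfl' cs a.1 a.2).prod * g⁻¹) := by
          group
        rw [e]
        exact mul_mem (h6 j (hL' j (List.mem_cons_self))) (ih fun j' hj' => hL' j' (List.mem_cons_of_mem _ hj'))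
    rw [hw₀]
    exact h7 L fun _ hj => hj
  exact (Subgroup.zpowers_le.2 h5) h2

end Cert

namespace D4q3

/-- the Cartan matrix -/
def Am : Mat 4 := ![![2, -1, 0, 0], ![-1, 2, -1, -1], ![0, -1, 2, 0], ![0, -1, 0, 2]]

/-- the partial products -/
def chain : List (Fin 4 × Mat 4) := [
    (1, ![![-1, -1, 0, 0], ![1, 0, 0, 0], ![0, 1, 1, 0], ![0, 1, 0, 1]]),
    (0, ![![-1, 0, 0, 0], ![1, 1, 0, 0], ![0, 0, 1, 0], ![0, 0, 0, 1]])]

/-- the powers -/
def pw : List (Mat 4) := [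
    ![![1, 0, 0, 0], ![0, 1, 0, 0], ![0, 0, 1, 0], ![0, 0, 0, 1]],
    ![![0, 1, 0, 0], ![-1, -1, 0, 0], ![1, 1, 1, 0], ![1, 1, 0, 1]],
    ![![-1, -1, 0, 0], ![1, 0, 0, 0], ![0, 1, 1, 0], ![0, 1, 0, 1]]]

/-- the solutions -/
def xs : Mat 4 := ![![0, 1, 0, 1], ![0, 0, 0, 1], ![0, 0, 0, 0], ![0, 0, 0, 0]]

theorem hA : ∀ i j, Am i j = cartanOf chevD4 4 i j := by decide +kernel
theorem chainOK : ChainOK Am chain := by decide +kernel
theorem powOK : PowOK (hd chain) pw := by decide +kernel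
theorem oneOK : ∀ j m, hdm pw j m = if j = m then 1 else 0 := by decide +kernel
theorem neOK : ∃ j m, hd chain j m ≠ if j = m then 1 else 0 := by decide +kernel
theorem xOK : ∀ j ∈ chain.map Prod.fst, ∀ m, ∑ n, xs j n * hd chain n m - xs j m = if m = j then 1 else 0 := by
  decide +kernel

end D4q3

namespace G2q3

/-- the Cartan matrix -/
def Am : Mat 2 := ![![2, -3], ![-1, 2]]

/-- the partial products -/
def chain : List (Fin 2 × Mat 2) := [
    (1, ![![-2, -1], ![3, 1]]),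
    (0, ![![-2, -1], ![3, 2]]),
    (1, ![![-1, -1], ![3, 2]]),
    (0, ![![-1, 0], ![3, 1]])]

/-- the chain of the first reflection -/
def chain0 : List (Fin 2 × Mat 2) := [(0, ![![-1, 0], ![3, 1]])]

/-- the powers -/
def pw : List (Mat 2) := [
    ![![1, 0], ![0, 1]],
    ![![1, 1], ![-3, -2]],
    ![![-2, -1], ![3, 1]]]

theorem hA : ∀ i j, Am i j = cartanOf chevG2 2 i j := by decide +kernel
theorem chainOK : ChainOK Am chain := by decide +kernel
theorem chain0OK : ChainOK Am chain0 := by decide +kernel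
theorem powOK : PowOK (hd chain) pw := by decide +kernel
theorem oneOK : ∀ j m, hdm pw j m = if j = m then 1 else 0 := by decide +kernel
theorem neOK : ∃ j m, hd chain j m ≠ if j = m then 1 else 0 := by decide +kernel

end G2q3

theorem torsD4 (hp : IsType chevD4 4 coxeterD4) {p : ℕ} (hpp : p.Prime) (h3 : 3 ≤ p) :
    ¬ p ^ 2 ∣ Nat.card coxeterD4.Group ∧ Tors coxeterD4.toCoxeterSystem hp.isCartan p := by
  have := finW hp
  by_cases h : p = 3
  · subst h
    have h2 : ¬ 3 ^ 2 ∣ Nat.card coxeterD4.Group := by rw [card_D4]; norm_num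
    exact ⟨h2, tors_of_data hp _ D4q3.hA D4q3.chainOK hpp D4q3.powOK rfl D4q3.oneOK D4q3.neOK D4q3.xOK h2⟩
  · have h5 : 5 ≤ p := by
      rcases hpp.eq_two_or_odd' with h4 | ⟨k, hk⟩ <;> omega
    have h := not_dvd_192 hpp h5
    rw [← card_D4] at h
    exact ⟨fun h1 => h ((dvd_pow_self p two_ne_zero).trans h1), tors_of_not_dvd h⟩

theorem torsG2_three (hp : IsType chevG2 2 CoxeterMatrix.G₂) :
    Tors CoxeterMatrix.G₂.toCoxeterSystem hp.isCartan 3 := by
  have := finW hp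
  set cs := CoxeterMatrix.G₂.toCoxeterSystem with hcs
  have h2 : ¬ 3 ^ 2 ∣ Nat.card CoxeterMatrix.G₂.Group := by rw [card_G2]; norm_num
  have hrep := chain_rep hp cs G2q3.hA G2q3.chainOK
  have hrep0 := chain_rep hp cs G2q3.hA G2q3.chain0OK
  have hid : ∀ j m : Fin 2, (sr j : Fin 2 → ℤ) m = if j = m then 1 else 0 := by
    intro j m
    by_cases hm : j = m
    · subst hm; rw [if_pos rfl, sr_self]
    · rw [if_neg hm, sr_ne (Ne.symm hm)]
  set w₀ := cs.wordProd (G2q3.chain.map Prod.fst) with hw₀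
  refine tors_of_cert' Nat.prime_three h2 [(1, 1), (cs.simple 0, 1)] w₀ ?_ ?_ ?_
  · rw [hw₀]
    show cs.wordProd [1, 0, 1, 0] = _
    simp only [wordProd_cons, wordProd_nil, List.map_cons, List.map_nil, List.prod_cons, List.prod_nil, rfl',
      inv_simple, inv_one]
    group
  · have hfq : Fact (3 : ℕ).Prime := ⟨Nat.prime_three⟩
    refine orderOf_eq_prime ?_ ?_
    · apply rep_injective cs hp.isCartan
      rw [map_one]
      apply LinearMap.ext
      intro y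
      funext m
      have h3 := rep_of_sr hp cs (Th := hdm G2q3.pw) (pow_rep hp cs hrep G2q3.powOK) y m
      have hlen : G2q3.pw.length = 3 := rfl
      rw [hlen] at h3
      rw [h3, Module.End.one_apply]
      simp only [G2q3.oneOK]
      simp
    · intro h2
      obtain ⟨j, m, hjm⟩ := G2q3.neOK
      apply hjm
      rw [← hrep j, h2, map_one, Module.End.one_apply, hid]
  · intro a ha
    rcases List.mem_cons.1 ha with rfl | ha
    · refine ⟨![-1, -1], ?_⟩
      funext m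
      rw [Pi.sub_apply, rep_of_sr hp cs hrep, map_one, Module.End.one_apply, hid]
      revert m
      decide +kernel
    · rw [List.mem_singleton] at ha
      subst ha
      refine ⟨![-1, 0], ?_⟩
      funext m
      have h4 : cs.wordProd (G2q3.chain0.map Prod.fst) = cs.simple 0 := by
        show cs.wordProd [0] = _
        rw [wordProd_cons, wordProd_nil, mul_one]
      have h5 := hrep0 1
      rw [h4] at h5
      rw [Pi.sub_apply, rep_of_sr hp cs hrep, h5]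
      revert m
      decide +kernel

theorem torsG2 (hp : IsType chevG2 2 CoxeterMatrix.G₂) {p : ℕ} (hpp : p.Prime) (h3 : 3 ≤ p) :
    ¬ p ^ 2 ∣ Nat.card CoxeterMatrix.G₂.Group ∧ Tors CoxeterMatrix.G₂.toCoxeterSystem hp.isCartan p := by
  have := finW hp
  by_cases h : p = 3
  · subst h
    exact ⟨by rw [card_G2]; norm_num, torsG2_three hp⟩
  · have h5 : 5 ≤ p := by
      rcases hpp.eq_two_or_odd' with h4 | ⟨k, hk⟩ <;> omega
    have h := not_dvd_12 hpp h5
    rw [← card_G2] at h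
    exact ⟨fun h1 => h ((dvd_pow_self p two_ne_zero).trans h1), tors_of_not_dvd h⟩

end Cfsg.Agent.H565.T3
end
end
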